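import Groth.Agent.PnCoh.Finite
import Groth.Agent.PicAux.Sections

/-!
# Global functions on projective space; `O(0) = O`
-/

universe u

open CategoryTheory CategoryTheory.Limits AlgebraicGeometry Opposite TopologicalSpace

namespace Groth.PnCoh

/-- `O(0)` is the structure sheaf. -/
theorem nonempty_twist_zero_iso {R A : Type u} [CommRing R] [CommRing A] [Algebra R A]
    (𝒜 : ℕ → Submodule R A) [GradedAlgebra 𝒜] :
    Nonempty (Twist.twist 𝒜 0 ≅ Coh.structureModule (Proj 𝒜)) := by
  have h1 : ∀ x : ProjectiveSpectrum 𝒜, x ∈ (⊤ : (Proj 𝒜).Opens) →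
      (1 : A) ∉ x.asHomogeneousIdeal := fun x _ h =>
    x.isPrime.ne_top ((Ideal.eq_top_iff_one _).mpr h)
  exact PicAux.nonempty_iso_structure_iff.mpr ⟨_,
    Ega2Proj.gen_fracGen (e := 0) (e' := 0) (SetLike.GradedOne.one_mem : (1 : A) ∈ 𝒜 0)
      (SetLike.GradedOne.one_mem : (1 : A) ∈ 𝒜 0) (n := 0) (by omega) ⊤ h1 h1⟩

variable (n : ℕ) (R : Type u) [CommRing R]

/-- The higher cohomology of the structure sheaf of projective space vanishes. -/
theorem subsingleton_HH_structureModule {q : ℕ} (hq : 0 < q) :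
    Subsingleton (Coh.HH (CohB1.ProjSpace n R) (Coh.structureModule (CohB1.ProjSpace n R)) q) := by
  obtain ⟨e⟩ := nonempty_twist_zero_iso (CohB1.polyGrading n R)
  let f := (CohB1.ProjSpace n R) ↘ Spec (CommRingCat.of R)
  let e' : Twist.twistProjSpace n R 0 ≅ Coh.structureModule (CohB1.ProjSpace n R) := e
  have : Subsingleton (CohFin.HA f (Twist.twistProjSpace n R 0) q) :=
    subsingleton_HH_twist 0 q (fun h => by omega) (fun h => by omega)
  have hs : Function.Surjective (CohFin.mapL f e'.hom q) := fun x =>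
    ⟨CohFin.mapL f e'.inv q x, by rw [← CohFin.mapL_comp, e'.inv_hom_id, CohFin.mapL_id]⟩
  exact hs.subsingleton

/-- Scalars as homogeneous polynomials of degree zero. -/
noncomputable def scalarPoly :
    R →ₗ[R] MvPolynomial.homogeneousSubmodule (Fin (n + 1)) R 0 where
  toFun r := ⟨MvPolynomial.C r, (MvPolynomial.mem_homogeneousSubmodule _ _).mpr
    (MvPolynomial.isHomogeneous_C _ r)⟩
  map_add' a b := Subtype.ext (map_add _ _ _)
  map_smul' a b := Subtype.ext (by simp [MvPolynomial.smul_eq_C_mul])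

lemma scalarPoly_bijective : Function.Bijective (scalarPoly n R) := by
  refine ⟨fun a b h => MvPolynomial.C_injective _ R (congrArg Subtype.val h), fun m => ?_⟩
  refine ⟨m.1.coeff 0, Subtype.ext ?_⟩
  change MvPolynomial.C (m.1.coeff 0) = m.1
  ext b
  rw [MvPolynomial.coeff_C]
  split_ifs with h
  · rw [h]
  · by_contra hne
    have := (MvPolynomial.mem_homogeneousSubmodule _ _).mp m.2 (Ne.symm hne)
    rw [Finsupp.weight_apply, Finsupp.sum_fintype _ _ (by simp)] at this
    simp only [Pi.one_apply, smul_eq_mul, mul_one, Finset.sum_eq_zero_iff, Finset.mem_univ,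
      forall_true_left] at this
    exact h (Finsupp.ext fun i => (this i).symm)

/-- `R → Γ(P^n_R, O)` is bijective. -/
theorem toGlobal_bijective :
    Function.Bijective (Coh.toGlobal ((CohB1.ProjSpace n R) ↘ Spec (CommRingCat.of R))) := by
  obtain ⟨e⟩ := nonempty_twist_zero_iso (CohB1.polyGrading n R)
  let f := (CohB1.ProjSpace n R) ↘ Spec (CommRingCat.of R)
  let O := Coh.structureModule (CohB1.ProjSpace n R)
  let e' : Twist.twistProjSpace n R ((0 : ℕ) : ℤ) ≅ O := e
  let L : R →ₗ[R] CohFin.HA f O 0 :=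
    (CohFin.mapL f e'.hom 0).comp
      (((h0Equiv (n := n) (R := R) 0).toLinearMap :
        _ →ₗ[R] CohFin.HA f (Twist.twistProjSpace n R ((0 : ℕ) : ℤ)) 0).comp (scalarPoly n R))
  have h1 : Function.Bijective (CohFin.mapL f e'.hom 0) :=
    ⟨Function.LeftInverse.injective (g := CohFin.mapL f e'.inv 0) fun x => by
        rw [← CohFin.mapL_comp, e'.hom_inv_id, CohFin.mapL_id],
      fun x => ⟨CohFin.mapL f e'.inv 0 x, by rw [← CohFin.mapL_comp, e'.inv_hom_id, CohFin.mapL_id]⟩⟩
  have h2 : Function.Bijective ((h0Equiv (n := n) (R := R) 0) ∘ scalarPoly n R) :=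
    (h0Equiv (n := n) (R := R) 0).bijective.comp (scalarPoly_bijective n R)
  have hL : Function.Bijective L := by
    change Function.Bijective (CohFin.mapL f e'.hom 0 ∘ (h0Equiv (n := n) (R := R) 0) ∘ scalarPoly n R)
    exact h1.comp h2
  let ψ : R → Γ(CohB1.ProjSpace n R, ⊤) := fun r => CohFin.equivSections f O (L r)
  have hψ : Function.Bijective ψ := (CohFin.equivSections f O).bijective.comp hL
  let g : R → Γ(CohB1.ProjSpace n R, ⊤) := fun r => Coh.toGlobal f r
  have key : ∀ r, ψ r = g r * ψ 1 := fun r => by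
    have h := CohFin.equivSections_smul f O r (L 1)
    rw [← map_smul, smul_eq_mul, mul_one] at h
    exact h
  obtain ⟨r₀, hr₀⟩ := hψ.2 1
  have hu : IsUnit (ψ 1) :=
    IsUnit.of_mul_eq_one (g r₀) ((mul_comm _ _).trans ((key r₀).symm.trans hr₀))
  obtain ⟨v, hv⟩ := hu
  have e2 : ψ = fun r => g r * ψ 1 := funext key
  rw [e2, ← hv] at hψ
  exact ((Units.mulRight v).bijective.of_comp_iff' g).mp hψ

/-- The structure morphism induces an isomorphism on global functions. -/
theorem isIso_appTop_toSpec : IsIso (CohB1.ProjSpace.toSpec n R).appTop := by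
  rw [ConcreteCategory.isIso_iff_bijective]
  have e : ((CohB1.ProjSpace.toSpec n R).appTop : _ → _) =
      (fun r => Coh.toGlobal ((CohB1.ProjSpace n R) ↘ Spec (CommRingCat.of R)) r) ∘
        (Scheme.ΓSpecIso (CommRingCat.of R)).hom := funext fun x => by
    change _ = (CohB1.ProjSpace.toSpec n R).appTop
      ((Scheme.ΓSpecIso (CommRingCat.of R)).inv ((Scheme.ΓSpecIso (CommRingCat.of R)).hom x))
    exact congrArg (CohB1.ProjSpace.toSpec n R).appTop
      (Iso.hom_inv_id_apply (Scheme.ΓSpecIso (CommRingCat.of R)) x).symm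
  rw [e]
  exact (toGlobal_bijective n R).comp
    (ConcreteCategory.bijective_of_isIso (Scheme.ΓSpecIso (CommRingCat.of R)).hom)

/-- Cohomology on `Proj` vanishes above the number of degree-one generators. -/
theorem subsingleton_HH_proj_of_lt {A S : Type u} [CommRing A] [CommRing S] [Algebra A S]
    (𝒜 : ℕ → Submodule A S) [GradedAlgebra 𝒜] {r : ℕ} (g : Fin (r + 1) → S)
    (hg1 : ∀ i, g i ∈ 𝒜 1) (hgen : Algebra.adjoin A (Set.range g) = ⊤)
    (F : (Proj 𝒜).Modules) [Coh.IsQCoh F] {q : ℕ} (hq : r < q) :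
    Subsingleton (Coh.HH (Proj 𝒜) F q) := by
  have : (Proj 𝒜).IsSeparated := ⟨by
    rw [← Limits.terminal.comp_from (Proj.toSpecZero 𝒜)]
    infer_instance⟩
  have hadj : Algebra.adjoin (𝒜 0) (Set.range g) = ⊤ := by
    refine top_unique fun s _ => ?_
    have hs : s ∈ Algebra.adjoin A (Set.range g) := hgen.ge trivial
    clear * - hs
    induction hs using Algebra.adjoin_induction with
    | mem x hx => exact Algebra.subset_adjoin hx
    | algebraMap a =>
      exact (Algebra.adjoin (𝒜 0) (Set.range g)).algebraMap_mem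
        ⟨algebraMap A S a, SetLike.algebraMap_mem_graded 𝒜 a⟩
    | add x y _ _ hx hy => exact add_mem hx hy
    | mul x y _ _ hx hy => exact mul_mem hx hy
  exact Groth.Agent.S0010.result (Proj 𝒜) (r + 1) (fun i => Proj.basicOpen 𝒜 (g i))
    (fun i => Proj.isAffineOpen_basicOpen 𝒜 _ (hg1 i) one_pos)
    (Proj.iSup_basicOpen_eq_top' 𝒜 g (fun i => ⟨1, hg1 i⟩) hadj)
    (fun V W hV hW => hV.inf hW) F q hq

end Groth.PnCoh
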