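import Groth.Agent.PnCoh.Cohomology
import Groth.Agent.Ega2Proj2.BaseChange
import Groth.Agent.Ega2Proj.TwistBaseChange
import Mathlib.RingTheory.TensorProduct.MvPolynomial

/-!
# `P^n_R` is `P^n_ℤ ×_ℤ Spec R`, compatibly with the twisting sheaves
-/

set_option autoImplicit false

universe u

open CategoryTheory CategoryTheory.Limits AlgebraicGeometry
open scoped HomogeneousIdeal

noncomputable section

namespace Groth.PnCoh

variable (n : ℕ)

section General

variable (Z R : Type u) [CommRing Z] [CommRing R] [Algebra Z R]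

attribute [local instance] MvPolynomial.algebraMvPolynomial

/-- The graded homomorphism `Z[X] → R[X]`. -/
def polyMapGraded : CohB1.polyGrading n Z →+*ᵍ CohB1.polyGrading n R where
  toRingHom := MvPolynomial.map (algebraMap Z R)
  map_mem h := MvPolynomial.IsHomogeneous.map h _

lemma polyMapGraded_apply (x : MvPolynomial (Fin (n + 1)) Z) :
    polyMapGraded n Z R x = algebraMap (MvPolynomial (Fin (n + 1)) Z) (MvPolynomial (Fin (n + 1)) R) x :=
  rfl

lemma irrelevant_le_map_polyMap :
    (CohB1.polyGrading n R)₊ ≤ ((CohB1.polyGrading n Z)₊).map (polyMapGraded n Z R) :=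
  Ega2P2.irrelevant_le_map_of_pushout (polyMapGraded n Z R) (R := Z) (R' := R)
    (fun _ => rfl) (fun r => SetLike.algebraMap_mem_graded (CohB1.polyGrading n R) r) inferInstance

/-- `P^n_R → P^n_Z`. -/
def toBasePn : CohB1.ProjSpace n R ⟶ CohB1.ProjSpace n Z :=
  Proj.map (polyMapGraded n Z R) (irrelevant_le_map_polyMap n Z R)

theorem isPullback_toBasePn :
    IsPullback (toBasePn n Z R) (CohB1.ProjSpace.toSpec n R) (CohB1.ProjSpace.toSpec n Z)
      (Spec.map (CommRingCat.ofHom (algebraMap Z R))) := by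
  have h := CommRingCat.isPushout_of_isPushout Z R
    (MvPolynomial (Fin (n + 1)) Z) (MvPolynomial (Fin (n + 1)) R)
  exact Ega2P2.isPullback_projMap (polyMapGraded n Z R) (CommRingCat.ofHom (algebraMap Z R))
    (CommRingCat.ofHom (algebraMap Z (MvPolynomial (Fin (n + 1)) Z)))
    (CommRingCat.ofHom (algebraMap R (MvPolynomial (Fin (n + 1)) R)))
    (CommRingCat.ofHom (algebraMap Z (CohB1.polyGrading n Z 0)))
    (CommRingCat.ofHom (algebraMap R (CohB1.polyGrading n R 0)))
    (fun _ => rfl) (fun _ => rfl) h (irrelevant_le_map_polyMap n Z R)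

theorem nonempty_pullback_toBasePn_twist (d : ℤ) :
    Nonempty ((Scheme.Modules.pullback (toBasePn n Z R)).obj (Twist.twistProjSpace n Z d) ≅
      Twist.twistProjSpace n R d) :=
  Ega2Proj.nonempty_pullback_twist_iso (R := Z) (R' := R)
    (polyMapGraded n Z R) (irrelevant_le_map_polyMap n Z R) (polyMapGraded_apply n Z R) d

end General

variable (R : Type u) [CommRing R]

/-- Every ring is an algebra over `ULift ℤ`. -/
abbrev zAlg : Algebra (ULift.{u} ℤ) R :=
  ((Int.castRingHom R).comp (ULift.ringEquiv : ULift.{u} ℤ ≃+* ℤ).toRingHom).toAlgebra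

/-- `P^n_R → P^n_ℤ`. -/
def toInt : CohB1.ProjSpace n R ⟶ CohB1.ProjSpace n (ULift.{u} ℤ) :=
  @toBasePn n (ULift.{u} ℤ) R _ _ (zAlg R)

theorem isPullback_toInt :
    IsPullback (toInt n R) (CohB1.ProjSpace.toSpec n R) (CohB1.ProjSpace.toSpec n (ULift.{u} ℤ))
      (specULiftZIsTerminal.from (Spec (CommRingCat.of R))) := by
  rw [specULiftZIsTerminal.hom_ext (specULiftZIsTerminal.from (Spec (CommRingCat.of R)))
    (Spec.map (CommRingCat.ofHom (@algebraMap (ULift.{u} ℤ) R _ _ (zAlg R))))]
  exact @isPullback_toBasePn n (ULift.{u} ℤ) R _ _ (zAlg R)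

/-- `P^n_R ≅ P^n_{Spec R}`. -/
def overIso : CohB1.ProjSpace n R ≅ CohB1.ProjSpaceOver n (Spec (CommRingCat.of R)) :=
  (isPullback_toInt n R).isoPullback

@[reassoc (attr := simp)]
lemma overIso_hom_toBase :
    (overIso n R).hom ≫ CohB1.ProjSpaceOver.toBase n (Spec (CommRingCat.of R)) =
      CohB1.ProjSpace.toSpec n R :=
  (isPullback_toInt n R).isoPullback_hom_snd

@[reassoc (attr := simp)]
lemma overIso_hom_fst :
    (overIso n R).hom ≫ pullback.fst (CohB1.ProjSpace.toSpec n (ULift.{u} ℤ))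
      (specULiftZIsTerminal.from (Spec (CommRingCat.of R))) = toInt n R :=
  (isPullback_toInt n R).isoPullback_hom_fst

/-- The twisting sheaves correspond. -/
theorem nonempty_pullback_overIso_twist (d : ℤ) :
    Nonempty ((Scheme.Modules.pullback (overIso n R).hom).obj
      (Twist.twistOver n (Spec (CommRingCat.of R)) d) ≅ Twist.twistProjSpace n R d) := by
  obtain ⟨e⟩ := @nonempty_pullback_toBasePn_twist n (ULift.{u} ℤ) R _ _ (zAlg R) d
  exact ⟨(Scheme.Modules.pullbackComp _ _).app _ ≪≫
    (Scheme.Modules.pullbackCongr (overIso_hom_fst n R)).app _ ≪≫ e⟩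

end Groth.PnCoh
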