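import Groth.Agent.PnCoh.VanishingClosed
import Groth.Agent.PnCoh.OverAffine
import Groth.Agent.Chow.VeryAmplePn
import Groth.Agent.RefRank.Divisor
import Groth.Agent.Ega2Proj.TwistExtend
import Groth.Agent.CohFin.Proper
import Groth.Agent.PnCoh.GlobalFun

/-!
# Serre vanishing for ample invertible modules on proper schemes over Noetherian rings
-/

set_option autoImplicit false

universe u

open CategoryTheory CategoryTheory.Limits AlgebraicGeometry
open Groth.PicAux

namespace Groth.PnCoh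

lemma nonempty_twist_pow {R A : Type u} [CommRing R] [CommRing A] [Algebra R A]
    (𝒜 : ℕ → Submodule R A) [GradedAlgebra 𝒜]
    (hgen : (HomogeneousIdeal.irrelevant 𝒜).toIdeal ≤ Ideal.span (𝒜 1 : Set A)) :
    ∀ k : ℕ, Nonempty (CohB1.tensorPow (Twist.twist 𝒜 1) k ≅ Twist.twist 𝒜 (k : ℤ))
  | 0 => by
      obtain ⟨e⟩ := nonempty_twist_zero_iso 𝒜
      exact ⟨e.symm⟩
  | k + 1 => by
      obtain ⟨e⟩ := nonempty_twist_pow 𝒜 hgen k
      obtain ⟨e'⟩ := Ega2Proj.nonempty_tensor_iso hgen (k : ℤ) 1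
      rw [show ((k + 1 : ℕ) : ℤ) = (k : ℤ) + 1 by push_cast; rfl]
      exact ⟨PicGrp.tensorModIso e (Iso.refl _) ≪≫ e'⟩

/-- A proper scheme with an ample invertible module has a power pulled back from projective space. -/
theorem exists_closedImmersion_of_isAmple {R : Type u} [CommRing R] {X : Scheme.{u}}
    (f : X ⟶ Spec (CommRingCat.of R)) [IsProper f] {L : X.Modules} (hL : CohB1.IsAmple L) :
    ∃ (m N : ℕ) (j : X ⟶ CohB1.ProjSpace m R), 0 < N ∧ IsClosedImmersion j ∧
      j ≫ CohB1.ProjSpace.toSpec m R = f ∧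
      Nonempty (CohB1.tensorPow L N ≅
        (Scheme.Modules.pullback j).obj (Twist.twistProjSpace m R 1)) := by
  obtain ⟨n₀, hn⟩ := Groth.Chow.exists_isRelVeryAmplePn f hL
  obtain ⟨m, i, hi, hif, ⟨e⟩⟩ := hn (n₀ + 1) (Nat.le_succ _)
  have hif' : i ≫ CohB1.ProjSpaceOver.toBase m (Spec (CommRingCat.of R)) = f := hif
  let j := i ≫ (overIso m R).inv
  have hj : j ≫ CohB1.ProjSpace.toSpec m R = f := by
    rw [← hif']
    simp only [j, Category.assoc]
    rw [← overIso_hom_toBase m R, Iso.inv_hom_id_assoc]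
  have : IsProper (j ≫ CohB1.ProjSpace.toSpec m R) := hj ▸ inferInstance
  have : IsImmersion j := inferInstance
  have : IsClosedImmersion j :=
    CohFin.isClosedImmersion_of_proper j (CohB1.ProjSpace.toSpec m R)
  obtain ⟨e'⟩ := nonempty_pullback_overIso_twist m R 1
  refine ⟨m, n₀ + 1, j, Nat.succ_pos _, inferInstance, hj, ⟨e ≪≫ ?_⟩⟩
  have hji : i = j ≫ (overIso m R).hom := by simp [j]
  exact (Scheme.Modules.pullbackCongr hji).app _ ≪≫
    ((Scheme.Modules.pullbackComp j (overIso m R).hom).app _).symm ≪≫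
    (Scheme.Modules.pullback j).mapIso e'

/-- Serre vanishing: twists by high powers of an ample module kill higher cohomology. -/
theorem exists_subsingleton_of_isAmple {R : Type u} [CommRing R] [IsNoetherianRing R]
    {X : Scheme.{u}} (f : X ⟶ Spec (CommRingCat.of R)) [IsProper f] {L : X.Modules}
    (hL : CohB1.IsAmple L) (F : X.Modules) (hF : Coh.IsCoh F) :
    ∃ d₀ : ℕ, ∀ d : ℕ, d₀ ≤ d → ∀ q : ℕ, 0 < q →
      Subsingleton (Coh.HH X (CohB1.tensorMod F (CohB1.tensorPow L d)) q) := by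
  obtain ⟨m, N, j, hN, hj, hjf, ⟨e⟩⟩ := exists_closedImmersion_of_isAmple f hL
  have := isLocallyNoetherian_projSpace m R
  have : IsLocallyNoetherian X := LocallyOfFiniteType.isLocallyNoetherian j
  have hpow : ∀ a : ℕ, Coh.IsCoh (CohB1.tensorPow L a) := fun a =>
    ⟨isQCoh_of_isInvertible (PicAux.isInvertible_tensorPow hL.1 a),
      Ega2Proj.isFT_of_isInvertible (PicAux.isInvertible_tensorPow hL.1 a)⟩
  choose d hd using fun a : Fin N => exists_subsingleton_twist_closed m R j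
    (CohB1.tensorMod F (CohB1.tensorPow L a)) (RefRank.isCoh_tensorMod hF (hpow a))
  refine ⟨N * (Finset.univ.sup (fun a => (d a).toNat) + 1), fun t ht q hq => ?_⟩
  let a : Fin N := ⟨t % N, Nat.mod_lt _ hN⟩
  have hk : d a ≤ ((t / N : ℕ) : ℤ) := by
    refine (Int.self_le_toNat (d a)).trans ?_
    have h1 : (d a).toNat ≤ Finset.univ.sup (fun a => (d a).toNat) :=
      Finset.le_sup (f := fun a => (d a).toNat) (Finset.mem_univ a)
    have h2 : Finset.univ.sup (fun a => (d a).toNat) + 1 ≤ t / N :=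
      (Nat.le_div_iff_mul_le hN).mpr (by rw [mul_comm]; exact ht)
    exact_mod_cast le_trans h1 (by omega)
  obtain ⟨e₁⟩ := tensorPow_add L (t % N) (N * (t / N))
  obtain ⟨e₂⟩ := tensorPow_mul L N (t / N)
  obtain ⟨e₃⟩ := nonempty_tensorPow_iso e (t / N)
  obtain ⟨e₄⟩ := pullback_tensorPow j (Twist.twistProjSpace m R 1) (t / N)
  obtain ⟨e₅⟩ := nonempty_twist_pow (CohB1.polyGrading m R)
    ((irrelevant_le_span_X m R).trans (Ideal.span_mono (by
      rintro _ ⟨i, rfl⟩
      exact (MvPolynomial.mem_homogeneousSubmodule _ _).mpr (MvPolynomial.isHomogeneous_X R _))))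
    (t / N)
  have e₆ : CohB1.tensorPow L (N * (t / N)) ≅
      (Scheme.Modules.pullback j).obj (Twist.twistProjSpace m R ((t / N : ℕ) : ℤ)) :=
    e₂ ≪≫ e₃ ≪≫ e₄.symm ≪≫ (Scheme.Modules.pullback j).mapIso e₅
  rw [Nat.mod_add_div t N] at e₁
  refine subsingleton_HH_of_iso f ?_ (hd a _ hk q hq)
  exact (exists_associator _ _ _).choose ≪≫
    PicGrp.tensorModIso (Iso.refl F) (PicGrp.tensorModIso (Iso.refl _) e₆.symm ≪≫ e₁.symm)

end Groth.PnCoh
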