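import Groth.Agent.Ega2Proj.TensorGen
import Groth.Agent.PicAux.PullTensor

/-!
# The projection formula for an invertible module
-/

set_option autoImplicit false

universe u

open CategoryTheory AlgebraicGeometry Opposite TopologicalSpace
open Groth.PicAux

namespace Groth.PnCoh

variable {X Y : Scheme.{u}}

/-- `g_* M ⊗ L ≅ g_*(M ⊗ g^* L)` for invertible `L`, with its formula on sections. -/
theorem exists_projectionFormula (g : X ⟶ Y) (M : X.Modules) {L : Y.Modules}
    (hL : PicF.IsInvertible L) :
    ∃ e : CohB1.tensorMod ((Scheme.Modules.pushforward g).obj M) L ≅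
        (Scheme.Modules.pushforward g).obj
          (CohB1.tensorMod M ((Scheme.Modules.pullback g).obj L)),
      ∀ (W : Y.Opens) (a : Γ((Scheme.Modules.pushforward g).obj M, W)) (b : Γ(L, W)),
        e.hom.app W (tmulSec a b) =
          (tmulSec (show Γ(M, g ⁻¹ᵁ W) from a) (pullSec g L b) :
            Γ(CohB1.tensorMod M ((Scheme.Modules.pullback g).obj L), g ⁻¹ᵁ W)) := by
  let N := CohB1.tensorMod M ((Scheme.Modules.pullback g).obj L)
  let P := (Scheme.Modules.pushforward g).obj N
  obtain ⟨θ, hθ⟩ := exists_tensor_lift (L := (Scheme.Modules.pushforward g).obj M) (M := L) (P := P)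
    (fun W => LinearMap.mk₂ Γ(Y, W)
      (fun a b => (tmulSec (show Γ(M, g ⁻¹ᵁ W) from a) (pullSec g L b) : Γ(N, g ⁻¹ᵁ W)))
      (fun a a' b => tmulSec_add_left _ _ _)
      (fun r a b => tmulSec_smul_left _ _ _)
      (fun a b b' => (congrArg (tmulSec (show Γ(M, g ⁻¹ᵁ W) from a)) (map_add
        (((Scheme.Modules.pullbackPushforwardAdjunction g).unit.app L).app W).hom b b')).trans
          (tmulSec_add_right _ _ _))
      (fun r a b => (congrArg (tmulSec (show Γ(M, g ⁻¹ᵁ W) from a)) (pullSec_smul g L r b)).trans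
          (tmulSec_smul_right _ _ _)))
    (fun W W' h a b => by
      have h1 := res_tmulSec (L := M) (M := (Scheme.Modules.pullback g).obj L) (g.preimage_mono h)
        (show Γ(M, g ⁻¹ᵁ W) from a) (pullSec g L b)
      exact h1.trans (congrArg (tmulSec _) (res_pullSec (f := g) L h b)))
  obtain ⟨ι, U, hU, s, hs⟩ : ∃ (ι : Type u) (U : ι → Y.Opens), iSup U = ⊤ ∧
      ∃ s : ∀ i, Γ(L, U i), ∀ i, Gen L (U i) (s i) := by
    choose U s hx hs using (isInvertible_iff_exists_gen L).mp hL
    exact ⟨Y, U, eq_top_iff.mpr fun x _ => Opens.mem_iSup.mpr ⟨x, hx x⟩, s, hs⟩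
  have : IsIso θ := by
    refine isIso_of_cover hU θ fun i V hV => ?_
    have h1 := Ega2Proj.tmulSec_bijective (M := (Scheme.Modules.pushforward g).obj M) hV (hs i)
    have h2 := Ega2Proj.tmulSec_bijective (M := M)
      (g.preimage_mono hV) (Gen.pull (f := g) (hs i))
    refine (Function.Bijective.of_comp_iff _ h1).1 ?_
    have e : (θ.app V ∘ fun y : Γ((Scheme.Modules.pushforward g).obj M, V) =>
        tmulSec y (Groth.PicAux.res L hV (s i))) = fun y : Γ(M, g ⁻¹ᵁ V) =>
        tmulSec y (Groth.PicAux.res ((Scheme.Modules.pullback g).obj L) (g.preimage_mono hV)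
          (pullSec g L (s i))) := by
      funext y
      refine (hθ V y _).trans ?_
      exact congrArg (tmulSec (show Γ(M, g ⁻¹ᵁ V) from y))
        (res_pullSec (f := g) L hV (s i)).symm
    exact e ▸ h2
  exact ⟨asIso θ, hθ⟩

end Groth.PnCoh
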