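import Groth.Agent.PnCoh.LerayNatural
import Groth.Agent.CohBase.CechScheme
import Groth.Prelude.Def_Coh

/-!
# The cohomology class of a Čech cocycle
-/

universe u

open CategoryTheory Limits TopologicalSpace Opposite AlgebraicGeometry

namespace Groth.PnCoh

open Groth.CohBase

section Classes

variable {X : TopCat.{u}} {ι : Type u} (U : ι → Opens X) (F : TopCat.Presheaf AddCommGrpCat.{u} X)

/-- Čech cocycles. -/
abbrev Cocycle (p : ℕ) : AddSubgroup (Coch U F p) := (dCoch U F p).ker

/-- A cycle of the Čech complex as a cocycle. -/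
noncomputable def cyclesToCocycle (p : ℕ) :
    ((cechCx U F).cycles p : Type u) →+ Cocycle U F p :=
  ((cochIso U F p).hom.hom.comp ((cechCx U F).iCycles p).hom).codRestrict _ fun c => by
    refine (cochIso_d U F p _).symm.trans ?_
    refine (congrArg (cochIso U F (p + 1)).hom (?_ : _ = (0 : (cechCx U F).X (p + 1)))).trans
      (map_zero _)
    exact ConcreteCategory.congr_hom ((cechCx U F).iCycles_d p (p + 1)) c

lemma cyclesToCocycle_bijective (p : ℕ) : Function.Bijective (cyclesToCocycle U F p) := by
  constructor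
  · intro a b h
    exact (AddCommGrpCat.mono_iff_injective _).mp inferInstance
      (cochIso_injective U F p (congrArg Subtype.val h))
  · rintro ⟨s, hs⟩
    obtain ⟨s, rfl⟩ := cochIso_surjective U F p s
    let S := ShortComplex.mk ((cechCx U F).iCycles p) ((cechCx U F).d p (p + 1)) (by simp)
    have hS : S.Exact := S.exact_of_f_is_kernel
      ((cechCx U F).cyclesIsKernel p (p + 1) (by simp))
    obtain ⟨c, hc⟩ := (ShortComplex.ab_exact_iff _).mp hS s
      (cochIso_injective U F (p + 1) (((cochIso_d U F p s).trans hs).trans (map_zero _).symm))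
    exact ⟨c, Subtype.ext (congrArg (cochIso U F p).hom hc)⟩

/-- The class of a cocycle in Čech cohomology. -/
noncomputable def cechClass (p : ℕ) :
    Cocycle U F p →+ ((cechCx U F).homology p : Type u) :=
  ((cechCx U F).homologyπ p).hom.comp
    (AddEquiv.ofBijective _ (cyclesToCocycle_bijective U F p)).symm.toAddMonoidHom

lemma cechClass_cycles (p : ℕ) (c : (cechCx U F).cycles p) :
    cechClass U F p (cyclesToCocycle U F p c) = (cechCx U F).homologyπ p c :=
  congrArg ((cechCx U F).homologyπ p)
    ((AddEquiv.ofBijective _ (cyclesToCocycle_bijective U F p)).symm_apply_apply c)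

lemma cechClass_surjective (p : ℕ) : Function.Surjective (cechClass U F p) := fun h => by
  obtain ⟨c, hc⟩ := (AddCommGrpCat.epi_iff_surjective ((cechCx U F).homologyπ p)).mp inferInstance h
  exact ⟨cyclesToCocycle U F p c, (cechClass_cycles U F p c).trans hc⟩

lemma cechClass_injective_zero : Function.Injective (cechClass U F 0) := fun a b h => by
  obtain ⟨a, rfl⟩ := (cyclesToCocycle_bijective U F 0).2 a
  obtain ⟨b, rfl⟩ := (cyclesToCocycle_bijective U F 0).2 b
  rw [cechClass_cycles, cechClass_cycles] at h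
  exact congrArg _ ((AddCommGrpCat.mono_iff_injective ((cechCx U F).homologyπ 0)).mp inferInstance h)

lemma cechClass_eq_zero_iff (p : ℕ) (z : Cocycle U F (p + 1)) :
    cechClass U F (p + 1) z = 0 ↔ ∃ t, dCoch U F p t = z := by
  obtain ⟨c, rfl⟩ := (cyclesToCocycle_bijective U F (p + 1)).2 z
  rw [cechClass_cycles]
  let S := ShortComplex.mk _ _ ((cechCx U F).toCycles_comp_homologyπ p (p + 1))
  have hS : S.Exact := S.exact_of_g_is_cokernel
    ((cechCx U F).homologyIsCokernel p (p + 1) (by simp))
  have key : ∀ t, ((cyclesToCocycle U F (p + 1)) ((cechCx U F).toCycles p (p + 1) t) : Coch U F (p + 1))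
      = dCoch U F p ((cochIso U F p).hom t) := fun t =>
    (congrArg (cochIso U F (p + 1)).hom
      (ConcreteCategory.congr_hom ((cechCx U F).toCycles_i p (p + 1)) t)).trans (cochIso_d U F p t)
  constructor
  · intro h
    obtain ⟨t, ht⟩ := (ShortComplex.ab_exact_iff _).mp hS c h
    exact ⟨(cochIso U F p).hom t, (key t).symm.trans
      (congrArg (fun c => (cyclesToCocycle U F (p + 1) c : Coch U F (p + 1))) ht)⟩
  · rintro ⟨t, ht⟩
    obtain ⟨t, rfl⟩ := cochIso_surjective U F p t
    have e : (cechCx U F).toCycles p (p + 1) t = c :=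
      (cyclesToCocycle_bijective U F (p + 1)).1 (Subtype.ext ((key t).trans ht))
    rw [← e]
    exact ConcreteCategory.congr_hom ((cechCx U F).toCycles_comp_homologyπ p (p + 1)) t

variable {U F} {G : TopCat.Presheaf AddCommGrpCat.{u} X} (φ : F ⟶ G)

/-- The image of a cocycle. -/
def mapCocycle (p : ℕ) (z : Cocycle U F p) : Cocycle U G p :=
  ⟨mapCoch φ p z, AddMonoidHom.mem_ker.mpr (by
    rw [← mapCoch_d, AddMonoidHom.mem_ker.mp z.2, map_zero])⟩

lemma cechClass_map (p : ℕ) (z : Cocycle U F p) :
    cechClass U G p (mapCocycle φ p z) = cechMap U φ p (cechClass U F p z) := by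
  obtain ⟨c, rfl⟩ := (cyclesToCocycle_bijective U F p).2 z
  have e : cyclesToCocycle U G p
      (HomologicalComplex.cyclesMap ((cechComplexFunctor (A := AddCommGrpCat.{u}) U).map φ) p c) =
      mapCocycle φ p (cyclesToCocycle U F p c) := by
    refine Subtype.ext ?_
    exact (congrArg (cochIso U G p).hom (ConcreteCategory.congr_hom
      (HomologicalComplex.cyclesMap_i ((cechComplexFunctor (A := AddCommGrpCat.{u}) U).map φ) p)
      c)).trans (cochIso_naturality U φ p ((cechCx U F).iCycles p c))
  rw [← e, cechClass_cycles, cechClass_cycles]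
  exact (ConcreteCategory.congr_hom (HomologicalComplex.homologyπ_naturality
    ((cechComplexFunctor (A := AddCommGrpCat.{u}) U).map φ) p) c).symm

end Classes

section Scheme

variable {X : Scheme.{u}} {ι : Type u} (U : ι → X.Opens)

/-- A covering of a scheme with affine intersections. -/
structure IsAcyclicCover : Prop where
  cover : ⨆ i, U i = ⊤
  affine : ∀ {n : ℕ} (x : Fin (n + 1) → ι), IsAffineOpen (inter (X := X.toTopCat) U x)

variable {U} (hU : IsAcyclicCover U)

include hU in
lemma IsAcyclicCover.interAcyclic (M : X.Modules) [M.IsQuasicoherent] :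
    InterAcyclic (X := X.toTopCat) U (Coh.toAb M) :=
  fun _ x q => hVanish_of_isAffineOpen M (hU.affine x) q

/-- Leray's comparison for the covering, natural in the sheaf. -/
noncomputable def lerayEquiv (p : ℕ) :
    ∀ F : AbSheaf X.toTopCat, InterAcyclic (X := X.toTopCat) U F →
      (((cechCx (X := X.toTopCat) U F.obj).homology p : Type u) ≃+
        (Sheaf.H' F p (⊤ : Opens X.toTopCat) : Type u)) :=
  (exists_leray_natural (X := X.toTopCat) U ⊤ (fun _ => le_top) hU.cover.ge p).choose

lemma lerayEquiv_natural (p : ℕ) (F G : AbSheaf X.toTopCat)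
    (hF : InterAcyclic (X := X.toTopCat) U F) (hG : InterAcyclic (X := X.toTopCat) U G)
    (φ : F ⟶ G) (x) :
    lerayEquiv hU p G hG (cechMap (X := X.toTopCat) U φ.hom p x) =
      CategoryTheory.Abelian.Ext.comp (lerayEquiv hU p F hF x)
        (CategoryTheory.Abelian.Ext.mk₀ φ) (add_zero p) :=
  (exists_leray_natural (X := X.toTopCat) U ⊤ (fun _ => le_top) hU.cover.ge p).choose_spec
    F G hF hG φ x

/-- The cohomology class of a Čech cocycle. -/
noncomputable def cohClass (M : X.Modules) [M.IsQuasicoherent] (p : ℕ) :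
    Cocycle (X := X.toTopCat) U (Coh.toAb M).obj p →+ Coh.HH X M p :=
  (((lerayEquiv hU p (Coh.toAb M) (hU.interAcyclic M)).trans
    (equivHTop (X := X.toTopCat) (Coh.toAb M) p).symm).toAddMonoidHom).comp
    (cechClass (X := X.toTopCat) U (Coh.toAb M).obj p)

lemma cohClass_surjective (M : X.Modules) [M.IsQuasicoherent] (p : ℕ) :
    Function.Surjective (cohClass hU M p) :=
  ((lerayEquiv hU p (Coh.toAb M) (hU.interAcyclic M)).trans
    (equivHTop (X := X.toTopCat) (Coh.toAb M) p).symm).surjective.comp
    (cechClass_surjective (X := X.toTopCat) U _ p)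

lemma cohClass_eq_zero_iff (M : X.Modules) [M.IsQuasicoherent] (p : ℕ)
    (z : Cocycle (X := X.toTopCat) U (Coh.toAb M).obj (p + 1)) :
    cohClass hU M (p + 1) z = 0 ↔
      ∃ t, dCoch (X := X.toTopCat) U (Coh.toAb M).obj p t = z :=
  ((lerayEquiv hU (p + 1) (Coh.toAb M) (hU.interAcyclic M)).trans
    (equivHTop (X := X.toTopCat) (Coh.toAb M) (p + 1)).symm).map_eq_zero_iff.trans (cechClass_eq_zero_iff (X := X.toTopCat) U _ p z)

lemma cohClass_injective_zero (M : X.Modules) [M.IsQuasicoherent] :
    Function.Injective (cohClass hU M 0) :=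
  ((lerayEquiv hU 0 (Coh.toAb M) (hU.interAcyclic M)).trans
    (equivHTop (X := X.toTopCat) (Coh.toAb M) 0).symm).injective.comp
    (cechClass_injective_zero (X := X.toTopCat) U _)

lemma cohClass_map {M N : X.Modules} [M.IsQuasicoherent] [N.IsQuasicoherent]
    (φ : Coh.toAb M ⟶ Coh.toAb N) (p : ℕ)
    (z : Cocycle (X := X.toTopCat) U (Coh.toAb M).obj p) :
    cohClass hU N p (mapCocycle φ.hom p z) = Sheaf.H.map φ p (cohClass hU M p z) := by
  change (equivHTop (X := X.toTopCat) (Coh.toAb N) p).symm (lerayEquiv hU p (Coh.toAb N)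
    (hU.interAcyclic N) (cechClass (X := X.toTopCat) U (Coh.toAb N).obj p (mapCocycle φ.hom p z))) = _
  rw [cechClass_map, lerayEquiv_natural hU p (Coh.toAb M) (Coh.toAb N) (hU.interAcyclic M)
    (hU.interAcyclic N) φ]
  refine (equivHTop (X := X.toTopCat) (Coh.toAb N) p).symm_apply_eq.mpr ?_
  refine Eq.trans ?_ (equivHTop_map (X := X.toTopCat) φ p _).symm
  exact congrArg (fun t => CategoryTheory.Abelian.Ext.comp t
    (CategoryTheory.Abelian.Ext.mk₀ φ) (add_zero p))
    ((equivHTop (X := X.toTopCat) (Coh.toAb M) p).apply_symm_apply _).symm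

/-- The action of a global function on a cocycle. -/
noncomputable def smulCocycle (M : X.Modules) (r : Coh.Γtop X) (p : ℕ)
    (z : Cocycle (X := X.toTopCat) U (Coh.toAb M).obj p) :
    Cocycle (X := X.toTopCat) U (Coh.toAb M).obj p :=
  mapCocycle (Coh.smulAb M r).hom p z

lemma cohClass_smul (M : X.Modules) [M.IsQuasicoherent] (r : Coh.Γtop X) (p : ℕ)
    (z : Cocycle (X := X.toTopCat) U (Coh.toAb M).obj p) :
    cohClass hU M p (smulCocycle M r p z) = r • cohClass hU M p z :=
  cohClass_map hU (Coh.smulAb M r) p z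

end Scheme

end Groth.PnCoh
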