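import Groth.Agent.PnCoh.Sections
import Groth.Agent.PnCoh.CechClass
import Groth.Agent.S0010
import Mathlib.AlgebraicGeometry.Morphisms.Separated
import Mathlib.RingTheory.MvPolynomial.Ideal

/-!
# The cohomology of `O(d)` on projective space
-/

universe u

open CategoryTheory AlgebraicGeometry Opposite TopologicalSpace

noncomputable section

namespace Groth.PnCoh

variable {n : ℕ} {R : Type u} [CommRing R]

/-- The intersections of standard opens are affine. -/
lemma isAffineOpen_tupleOpen {q : ℕ} (x : Fin (q + 1) → Idx.{u} n) :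
    IsAffineOpen (tupleOpen (R := R) x) := by
  rw [tupleOpen, inter_stdOpen]
  exact Proj.isAffineOpen_basicOpen _ _ (prodX_mem x) (Nat.succ_pos q)

variable (n R)

lemma irrelevant_le_span_X :
    (HomogeneousIdeal.irrelevant (CohB1.polyGrading n R)).toIdeal ≤
      Ideal.span (Set.range fun i : Idx.{u} n =>
        (MvPolynomial.X i.down : MvPolynomial (Fin (n + 1)) R)) := by
  rw [HomogeneousIdeal.toIdeal_irrelevant_le]
  intro i hi m hm
  have hr : Set.range (fun i : Idx.{u} n => (MvPolynomial.X i.down : MvPolynomial (Fin (n + 1)) R))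
      = MvPolynomial.X '' Set.univ := by
    rw [Set.image_univ]
    exact ULift.down_surjective.range_comp MvPolynomial.X
  rw [hr]
  refine MvPolynomial.mem_ideal_span_X_image.mpr fun b hb => ?_
  by_contra h
  push Not at h
  have : b = 0 := Finsupp.ext fun j => by simpa using h j (Set.mem_univ j)
  subst this
  have := (MvPolynomial.mem_homogeneousSubmodule _ _).mp hm (MvPolynomial.mem_support_iff.mp hb)
  simp at this
  omega

/-- The standard opens form a covering with affine intersections. -/
lemma isAcyclicCover_stdOpen :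
    IsAcyclicCover (X := CohB1.ProjSpace n R) (stdOpen n R) where
  cover := Proj.iSup_basicOpen_eq_top (CohB1.polyGrading n R) _ (irrelevant_le_span_X n R)
  affine x := isAffineOpen_tupleOpen x

/-- Intersections of affine opens of projective space are affine. -/
lemma isAffineOpen_inf_projSpace (V W : (CohB1.ProjSpace n R).Opens) (hV : IsAffineOpen V)
    (hW : IsAffineOpen W) : IsAffineOpen (V ⊓ W) := by
  have : (Proj (CohB1.polyGrading n R)).IsSeparated := ⟨by
    rw [← Limits.terminal.comp_from (Proj.toSpecZero (CohB1.polyGrading n R))]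
    infer_instance⟩
  exact IsAffineOpen.inf (X := Proj (CohB1.polyGrading n R)) hV hW

/-- Cohomology of quasi-coherent modules vanishes above the dimension. -/
theorem subsingleton_HH_of_lt (M : (CohB1.ProjSpace n R).Modules) [Coh.IsQCoh M] {q : ℕ}
    (hq : n < q) : Subsingleton (Coh.HH (CohB1.ProjSpace n R) M q) := by
  refine Groth.Agent.S0010.result (CohB1.ProjSpace n R) (n + 1)
    (fun i => stdOpen n R ⟨i⟩) (fun i => ?_) ?_ (isAffineOpen_inf_projSpace n R) M q hq
  · exact Proj.isAffineOpen_basicOpen _ _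
      ((MvPolynomial.mem_homogeneousSubmodule _ _).mpr (MvPolynomial.isHomogeneous_X R i)) one_pos
  · exact le_antisymm le_top ((isAcyclicCover_stdOpen n R).cover.ge.trans
      (iSup_le fun i => le_iSup (fun i : Fin (n + 1) => stdOpen n R ⟨i⟩) i.down))

/-- The twisting sheaves are quasi-coherent. -/
instance isQCoh_twist (d : ℤ) :
    (Twist.twistProjSpace n R d).IsQuasicoherent :=
  Ega2Proj.isQuasicoherent_twist (CohB1.polyGrading n R) d

variable {n R}

/-- Čech cochains of `O(d)` on the standard covering. -/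
abbrev CochO (d : ℤ) (p : ℕ) : Type u :=
  CohBase.Coch (X := (CohB1.ProjSpace n R).toTopCat) (stdOpen n R)
    (Coh.toAb (Twist.twistProjSpace n R d)).obj p

variable {d : ℤ}

/-- A cochain as a family of Laurent polynomials. -/
def psiCoch (p : ℕ) : CochO (n := n) (R := R) d p →+ Combinat.C R (Idx.{u} n) (p + 1) where
  toFun s x := psi (s x : Sect (R := R) d x)
  map_zero' := funext fun x => psi_zero
  map_add' s t := funext fun x => psi_add (s x : Sect (R := R) d x) (t x)

lemma psiCoch_injective (p : ℕ) : Function.Injective (psiCoch (n := n) (R := R) (d := d) p) :=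
  fun _ _ h => funext fun x => psi_injective (congrFun h x)

lemma psiCoch_mem (p : ℕ) (s : CochO (n := n) (R := R) d p) :
    psiCoch p s ∈ Combinat.cochains R d (p + 1) :=
  fun x => psi_mem_supported (s x : Sect (R := R) d x)

lemma exists_psiCoch_eq {p : ℕ} {z : Combinat.C R (Idx.{u} n) (p + 1)}
    (hz : z ∈ Combinat.cochains R d (p + 1)) :
    ∃ s : CochO (n := n) (R := R) d p, psiCoch p s = z :=
  ⟨fun x => (exists_psi_eq x (hz x)).choose,
    funext fun x => (exists_psi_eq x (hz x)).choose_spec⟩

lemma psiCoch_d (p : ℕ) (s : CochO (n := n) (R := R) d p) :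
    psiCoch (p + 1) (CohBase.dCoch (X := (CohB1.ProjSpace n R).toTopCat) (stdOpen n R)
      (Coh.toAb (Twist.twistProjSpace n R d)).obj p s) = Combinat.dL R (p + 1) (psiCoch p s) := by
  funext x
  rw [Combinat.dL_apply]
  let g : (a : Fin (p + 2)) → Sect (R := R) d x := fun a =>
    ((-1 : ℤ) ^ (a : ℕ)) • GrTilde.res (CohB1.polyGrading n R) (CohB1.polyGrading n R) d
      (homOfLE (CohBase.inter_comp (X := (CohB1.ProjSpace n R).toTopCat) (stdOpen n R) x
        a.succAbove)).op (s (x ∘ a.succAbove) : Sect (R := R) d (x ∘ a.succAbove))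
  have e : (CohBase.dCoch (X := (CohB1.ProjSpace n R).toTopCat) (stdOpen n R)
      (Coh.toAb (Twist.twistProjSpace n R d)).obj p s x : Sect (R := R) d x) = ∑ a, g a := rfl
  change psiHom x _ = _
  rw [e, map_sum]
  refine Finset.sum_congr rfl fun a _ => ?_
  refine (map_zsmul (psiHom (R := R) (d := d) x) _ _).trans ?_
  change ((-1 : ℤ) ^ (a : ℕ)) • psi _ = _
  refine (congrArg (((-1 : ℤ) ^ (a : ℕ)) • ·) (psi_res x a (s (x ∘ a.succAbove))
    (CohBase.inter_comp (X := (CohB1.ProjSpace n R).toTopCat) (stdOpen n R) x a.succAbove))).trans ?_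
  simp only [← Int.cast_smul_eq_zsmul R, Int.cast_pow, Int.cast_neg, Int.cast_one]
  rfl

lemma psiCoch_smul (r : R) (p : ℕ) (s : CochO (n := n) (R := R) d p) :
    psiCoch p (CohBase.mapCoch (X := (CohB1.ProjSpace n R).toTopCat)
      (Coh.smulAb (Twist.twistProjSpace n R d)
        (Coh.toGlobal ((CohB1.ProjSpace n R) ↘ Spec (CommRingCat.of R)) r)).hom p s) =
      r • psiCoch p s :=
  funext fun x => (congrArg psi (rfl : _ = smulSect r (s x : Sect (R := R) d x))).trans
    (psi_smul r _)

variable (n R) in
/-- Laurent cocycles. -/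
def cocyclesL (d : ℤ) (p : ℕ) : Submodule R (Combinat.C R (Idx.{u} n) (p + 1)) :=
  Combinat.cochains R d (p + 1) ⊓ LinearMap.ker (Combinat.dL R (p + 1))

/-- The cocycles of `O(d)` on the standard covering. -/
abbrev CocycleO (d : ℤ) (p : ℕ) :=
  Cocycle (X := (CohB1.ProjSpace n R).toTopCat) (stdOpen n R)
    (Coh.toAb (Twist.twistProjSpace n R d)).obj p

/-- Cocycles as Laurent cocycles. -/
def psiCocycle (p : ℕ) : CocycleO (n := n) (R := R) d p →+ cocyclesL n R d p :=
  ((psiCoch p).comp (AddSubgroup.subtype _)).codRestrict (cocyclesL n R d p) fun z =>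
    ⟨psiCoch_mem p z.1, LinearMap.mem_ker.mpr ((psiCoch_d p z.1).symm.trans
      ((congrArg (psiCoch (p + 1)) z.2).trans (map_zero _)))⟩

lemma psiCocycle_bijective (p : ℕ) :
    Function.Bijective (psiCocycle (n := n) (R := R) (d := d) p) := by
  refine ⟨fun a b h => Subtype.ext (psiCoch_injective p (congrArg Subtype.val h)), ?_⟩
  rintro ⟨z, hz, hdz⟩
  obtain ⟨s, rfl⟩ := exists_psiCoch_eq hz
  exact ⟨⟨s, psiCoch_injective (p + 1) ((psiCoch_d p s).trans
    ((LinearMap.mem_ker.mp hdz).trans (map_zero _).symm))⟩, rfl⟩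

/-- The cohomology class of a Laurent cocycle. -/
def classMap (d : ℤ) (p : ℕ) :
    cocyclesL n R d p →ₗ[R] Coh.HH (CohB1.ProjSpace n R) (Twist.twistProjSpace n R d) p where
  toFun z := cohClass (isAcyclicCover_stdOpen n R) (Twist.twistProjSpace n R d) p
    ((AddEquiv.ofBijective _ (psiCocycle_bijective p)).symm z)
  map_add' a b := by rw [map_add, map_add]
  map_smul' r z := by
    let e := AddEquiv.ofBijective _ (psiCocycle_bijective (n := n) (R := R) (d := d) p)
    have h : e.symm (r • z) = smulCocycle (Twist.twistProjSpace n R d)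
        (Coh.toGlobal ((CohB1.ProjSpace n R) ↘ Spec (CommRingCat.of R)) r) p (e.symm z) := by
      rw [AddEquiv.symm_apply_eq]
      refine Subtype.ext ?_
      exact ((congrArg (r • ·) (congrArg Subtype.val (e.apply_symm_apply z))).symm.trans
        (psiCoch_smul r p (e.symm z).1).symm)
    exact (congrArg _ h).trans (cohClass_smul _ _ _ _ _)

lemma classMap_surjective (d : ℤ) (p : ℕ) : Function.Surjective (classMap (n := n) (R := R) d p) :=
  (cohClass_surjective (isAcyclicCover_stdOpen n R) (Twist.twistProjSpace n R d) p).comp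
    (AddEquiv.ofBijective _ (psiCocycle_bijective p)).symm.surjective

lemma classMap_injective_zero (d : ℤ) : Function.Injective (classMap (n := n) (R := R) d 0) :=
  (cohClass_injective_zero (isAcyclicCover_stdOpen n R) (Twist.twistProjSpace n R d)).comp
    (AddEquiv.ofBijective _ (psiCocycle_bijective 0)).symm.injective

lemma classMap_psiCocycle (p : ℕ) (w : CocycleO (n := n) (R := R) d p) :
    classMap d p (psiCocycle p w) =
      cohClass (isAcyclicCover_stdOpen n R) (Twist.twistProjSpace n R d) p w := by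
  change cohClass (isAcyclicCover_stdOpen n R) (Twist.twistProjSpace n R d) p
    ((AddEquiv.ofBijective _ (psiCocycle_bijective p)).symm (psiCocycle p w)) = _
  exact congrArg (cohClass (isAcyclicCover_stdOpen n R) (Twist.twistProjSpace n R d) p)
    ((AddEquiv.ofBijective _ (psiCocycle_bijective p)).symm_apply_apply w)

lemma classMap_eq_zero_iff (p : ℕ) (z : cocyclesL n R d (p + 1)) :
    classMap d (p + 1) z = 0 ↔
      ∃ t ∈ Combinat.cochains R d (p + 1), Combinat.dL R (p + 1) t = z.1 := by
  obtain ⟨w, rfl⟩ := (psiCocycle_bijective (p + 1)).2 z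
  rw [classMap_psiCocycle, cohClass_eq_zero_iff]
  constructor
  · rintro ⟨t, ht⟩
    exact ⟨psiCoch p t, psiCoch_mem p t,
      (psiCoch_d p t).symm.trans (congrArg (psiCoch (p + 1)) ht)⟩
  · rintro ⟨t, ht, hdt⟩
    obtain ⟨t, rfl⟩ := exists_psiCoch_eq ht
    exact ⟨t, psiCoch_injective (p + 1) ((psiCoch_d p t).trans hdt)⟩

section Vanishing

lemma eq_zero_of_mem_cochains_zero {t : Combinat.C R (Idx.{u} n) 0}
    (ht : t ∈ Combinat.cochains R d 0) (hd : d < 0) : t = 0 := by
  funext y
  ext a
  by_contra h
  obtain ⟨hsum, hneg⟩ := Combinat.mem_cochains_iff.mp ht y a h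
  have : 0 ≤ ∑ i, a i := Finset.sum_nonneg fun i _ => by
    by_contra hi
    obtain ⟨b, -⟩ := hneg i (by omega)
    exact b.elim0
  omega

/-- The vanishing of the cohomology of `O(d)`. -/
theorem subsingleton_HH_twist (d : ℤ) (q : ℕ) (h₀ : ¬ (q = 0 ∧ 0 ≤ d))
    (hn : ¬ (q = n ∧ d ≤ -((n : ℤ) + 1))) :
    Subsingleton (Coh.HH (CohB1.ProjSpace n R) (Twist.twistProjSpace n R d) q) := by
  rcases lt_or_ge n q with hq | hq
  · exact subsingleton_HH_of_lt n R _ hq
  refine subsingleton_of_forall_eq 0 fun h => ?_
  obtain ⟨z, rfl⟩ := classMap_surjective d q h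
  have hc : q + 1 < Fintype.card (Idx.{u} n) ∨ -(Fintype.card (Idx.{u} n) : ℤ) < d := by
    simp only [Fintype.card_ulift, Fintype.card_fin]
    by_cases hqn : q = n
    · exact Or.inr (by have := fun h => hn ⟨hqn, h⟩; push_cast; omega)
    · exact Or.inl (by omega)
  obtain ⟨hmem, hz⟩ := Combinat.exists_primitive z.2.1 (LinearMap.mem_ker.mp z.2.2) hc
  rcases q with _ | p
  · have : z = 0 := Subtype.ext (by
      rw [← hz, eq_zero_of_mem_cochains_zero hmem (by simpa using h₀), map_zero]
      rfl)
    rw [this, map_zero]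
  · exact (classMap_eq_zero_iff p z).mpr ⟨_, hmem, hz⟩

end Vanishing

section Degrees

/-- Homogeneous polynomials as Laurent exponents of a given degree without negative entries. -/
lemma toL_coeff_mem {k : ℕ} (m : MvPolynomial.homogeneousSubmodule (Fin (n + 1)) R k) {q : ℕ}
    (x : Fin q → Idx.{u} n) :
    (toL n R m.1).coeff ∈ Finsupp.supported R R (Combinat.allowed (k : ℤ) x) := by
  rw [Finsupp.mem_supported]
  intro a ha
  rw [Finset.mem_coe, Finsupp.mem_support_iff] at ha
  obtain ⟨b, hb, rfl⟩ := exists_of_coeff_mul_T_ne_zero (m := m.1) (w := 0) (a := a)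
    (by rwa [T, ← AddMonoidAlgebra.one_def, mul_one])
  simp only [add_zero]
  exact ⟨hasDeg_iff_mem.mpr m.2 b hb, fun i hi => absurd hi (not_lt.mpr (Int.natCast_nonneg _))⟩

/-- The global section of `O(k)` given by a homogeneous polynomial of degree `k`. -/
def globalCocycle (k : ℕ) :
    MvPolynomial.homogeneousSubmodule (Fin (n + 1)) R k →ₗ[R] cocyclesL n R (k : ℤ) 0 where
  toFun m := ⟨fun _ => (toL n R m.1).coeff, fun x => toL_coeff_mem m x, LinearMap.mem_ker.mpr <| by
    funext x
    rw [Combinat.dL_apply, Fin.sum_univ_two]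
    simp⟩
  map_add' a b := Subtype.ext (funext fun _ => by simp [AddMonoidAlgebra.coeff_add])
  map_smul' r a := Subtype.ext (funext fun _ => by simp [AddMonoidAlgebra.coeff_smul])

lemma globalCocycle_bijective (k : ℕ) :
    Function.Bijective (globalCocycle (n := n) (R := R) k) := by
  constructor
  · intro a b h
    have := congrFun (congrArg Subtype.val h) (fun _ => ⟨0⟩)
    exact Subtype.ext (toL_injective n R (AddMonoidAlgebra.coeff_injective this))
  · intro z
    obtain ⟨hmem, hz⟩ := Combinat.exists_primitive z.2.1 (LinearMap.mem_ker.mp z.2.2)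
      (Or.inr (by simp; omega))
    set t := Combinat.hL 0 z.1
    have ht := Combinat.mem_cochains_iff.mp hmem Fin.elim0
    set ℓ := t Fin.elim0
    let toN : (Idx.{u} n → ℤ) → (Fin (n + 1) →₀ ℕ) := fun a =>
      Finsupp.equivFunOnFinite.symm fun i => (a ⟨i⟩).toNat
    have htoN : ∀ a ∈ ℓ.support, expHom n (toN a) = a := fun a ha => by
      funext i
      obtain ⟨i⟩ := i
      change ((a ⟨i⟩).toNat : ℤ) = a ⟨i⟩
      refine Int.toNat_of_nonneg ?_
      by_contra hi
      obtain ⟨b, -⟩ := (ht a (Finsupp.mem_support_iff.mp ha)).2 ⟨i⟩ (by omega)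
      exact b.elim0
    let m : MvPolynomial (Fin (n + 1)) R := ∑ a ∈ ℓ.support, MvPolynomial.monomial (toN a) (ℓ a)
    have hm : m ∈ MvPolynomial.homogeneousSubmodule (Fin (n + 1)) R k := by
      refine Submodule.sum_mem _ fun a ha => ?_
      refine (MvPolynomial.mem_homogeneousSubmodule _ _).mpr
        (MvPolynomial.isHomogeneous_monomial _ ?_)
      have := (ht a (Finsupp.mem_support_iff.mp ha)).1
      rw [← htoN a ha, sum_expHom] at this
      rw [Finsupp.degree_eq_weight_one]
      exact_mod_cast this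
    refine ⟨⟨m, hm⟩, Subtype.ext (funext fun x => ?_)⟩
    have hx : z.1 x = ℓ := by
      rw [← hz, Combinat.dL_apply, Fin.sum_univ_one]
      simp only [Fin.val_zero, pow_zero, one_smul]
      exact congrArg t (Subsingleton.elim _ _)
    change (toL n R m).coeff = z.1 x
    rw [hx, map_sum, Finset.sum_congr rfl fun a ha => by rw [toL_monomial, htoN a ha]]
    ext a
    simp [AddMonoidAlgebra.coeff_sum, Finsupp.finsetSum_apply, Finsupp.single_apply]

/-- `H⁰(O(k))` is the space of homogeneous polynomials of degree `k`. -/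
def h0Equiv (k : ℕ) :
    MvPolynomial.homogeneousSubmodule (Fin (n + 1)) R k ≃ₗ[R]
      Coh.HH (CohB1.ProjSpace n R) (Twist.twistProjSpace n R (k : ℤ)) 0 :=
  LinearEquiv.ofBijective ((classMap (k : ℤ) 0).comp (globalCocycle k))
    ⟨(classMap_injective_zero (k : ℤ)).comp (globalCocycle_bijective k).1,
      (classMap_surjective (k : ℤ) 0).comp (globalCocycle_bijective k).2⟩

/-- The exponents `-(b + 1)`. -/
def negExp (b : Fin (n + 1) →₀ ℕ) : Idx.{u} n → ℤ := fun i => -((b i.down : ℕ) : ℤ) - 1

lemma negExp_injective : Function.Injective (negExp.{u} (n := n)) := fun b c h =>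
  Finsupp.ext fun i => by
    have := congrFun h ⟨i⟩
    simp only [negExp] at this
    omega

lemma sum_negExp (b : Fin (n + 1) →₀ ℕ) :
    ∑ i, negExp.{u} b i = -((n : ℤ) + 1 + (Finsupp.weight (1 : Fin (n + 1) → ℕ) b : ℕ)) := by
  rw [← sum_expHom.{u}]
  simp only [negExp, expHom_apply, Finset.sum_sub_distrib, Finset.sum_neg_distrib, Finset.sum_const,
    Finset.card_univ, Fintype.card_ulift, Fintype.card_fin]
  push_cast [nsmul_eq_mul]
  ring

variable (n R) in
/-- Polynomials as combinations of exponents negative in all entries. -/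
def negMap : MvPolynomial (Fin (n + 1)) R →ₗ[R] Combinat.Exp R (Idx.{u} n) :=
  (Finsupp.lmapDomain R R (negExp.{u} (n := n))).comp
    (AddMonoidAlgebra.coeffLinearEquiv R).toLinearMap

lemma negMap_apply (m : MvPolynomial (Fin (n + 1)) R) :
    negMap n R m = Finsupp.mapDomain negExp (AddMonoidAlgebra.coeff m) := rfl

lemma exists_of_negMap_ne_zero {m : MvPolynomial (Fin (n + 1)) R} {a : Idx.{u} n → ℤ}
    (h : negMap n R m a ≠ 0) : ∃ b, m.coeff b ≠ 0 ∧ negExp b = a := by
  classical
  obtain ⟨b, hb, hab⟩ := Finset.mem_image.mp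
    (Finsupp.mapDomain_support (Finsupp.mem_support_iff.mpr h))
  exact ⟨b, Finsupp.mem_support_iff.mp hb, hab⟩

variable (n) in
/-- The standard bijective tuple. -/
def stdTuple : Fin (n + 1) ≃ Idx.{u} n := Equiv.ulift.symm

/-- The top class given by a homogeneous polynomial. -/
def topMap (k : ℕ) :
    MvPolynomial.homogeneousSubmodule (Fin (n + 1)) R k →ₗ[R]
      cocyclesL n R (-((n : ℤ) + 1 + k)) n where
  toFun m := ⟨Combinat.topCocycle (stdTuple n) (negMap n R m.1),
    Combinat.topCocycle_mem _ _ fun a ha => by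
      obtain ⟨b, hb, rfl⟩ := exists_of_negMap_ne_zero ha
      rw [sum_negExp, (MvPolynomial.mem_homogeneousSubmodule _ _).mp m.2 hb],
    LinearMap.mem_ker.mpr (Combinat.dL_topCocycle _ _)⟩
  map_add' a b := Subtype.ext (funext fun x => by
    simp only [Combinat.topCocycle, Submodule.coe_add, map_add, smul_add]
    rfl)
  map_smul' r a := Subtype.ext (funext fun x => by
    simp only [Combinat.topCocycle, Submodule.coe_smul_of_tower, map_smul, smul_comm r,
      RingHom.id_apply, Pi.smul_apply])

set_option maxHeartbeats 600000 in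
lemma classMap_topMap_bijective (k : ℕ) :
    Function.Bijective fun m => classMap (-((n : ℤ) + 1 + k)) n (topMap (n := n) (R := R) k m) := by
  set d : ℤ := -((n : ℤ) + 1 + k)
  constructor
  · refine (injective_iff_map_eq_zero ((classMap d n).comp (topMap k))).mpr fun m hm => ?_
    have h0 : ∀ a : Idx.{u} n → ℤ, (∀ i, a i < 0) →
        negMap n R m.1 a = 0 := fun a ha => by
      have e : (topMap k m).1 (stdTuple n) a = negMap n R m.1 a := by
        simp [topMap, Combinat.topCocycle, Combinat.detTuple_self]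
      rw [← e]
      rcases Nat.eq_zero_or_pos n with hn | hn
      · subst hn
        have : topMap k m = 0 := classMap_injective_zero d (hm.trans (map_zero _).symm)
        rw [this]
        rfl
      · obtain ⟨p, rfl⟩ : ∃ p, n = p + 1 := ⟨n - 1, by omega⟩
        obtain ⟨t, ht, hdt⟩ := (classMap_eq_zero_iff p _).mp hm
        rw [← hdt, Combinat.dL_apply, Finsupp.finsetSum_apply]
        refine Finset.sum_eq_zero fun b _ => ?_
        rw [Finsupp.smul_apply]
        refine smul_eq_zero_of_right _ (by_contra fun hne => ?_)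
        have := Fintype.card_le_of_surjective _ (Combinat.surjective_of_bad ht ha hne)
        simp at this
    refine Subtype.ext (AddMonoidAlgebra.coeff_injective (Finsupp.ext fun b => ?_))
    have := h0 (negExp b) fun i => by simp only [negExp]; omega
    rw [negMap_apply, Finsupp.mapDomain_apply negExp_injective] at this
    exact this
  · intro h
    obtain ⟨z, rfl⟩ := classMap_surjective d n h
    classical
    -- the polynomial of the exponents negative in all entries
    let ℓ := z.1 (stdTuple n)
    let toN : (Idx.{u} n → ℤ) → (Fin (n + 1) →₀ ℕ) := fun a =>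
      Finsupp.equivFunOnFinite.symm fun i => (-a ⟨i⟩ - 1).toNat
    let S := ℓ.support.filter fun a => ∀ i, a i < 0
    have htoN : ∀ a ∈ S, negExp (toN a) = a := fun a ha => by
      funext i
      obtain ⟨i⟩ := i
      have := (Finset.mem_filter.mp ha).2 ⟨i⟩
      simp only [negExp, toN, Finsupp.equivFunOnFinite_symm_apply_apply,
        Int.toNat_of_nonneg (show 0 ≤ -a ⟨i⟩ - 1 by omega)]
      ring
    let m : MvPolynomial (Fin (n + 1)) R := ∑ a ∈ S, MvPolynomial.monomial (toN a) (ℓ a)
    have hm : m ∈ MvPolynomial.homogeneousSubmodule (Fin (n + 1)) R k := by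
      refine Submodule.sum_mem _ fun a ha => ?_
      refine (MvPolynomial.mem_homogeneousSubmodule _ _).mpr
        (MvPolynomial.isHomogeneous_monomial _ ?_)
      have := (Combinat.mem_cochains_iff.mp z.2.1 (stdTuple n) a
        (Finsupp.mem_support_iff.mp (Finset.mem_filter.mp ha).1)).1
      rw [← htoN a ha, sum_negExp] at this
      simp only [d] at this
      suffices (Finsupp.weight (1 : Fin (n + 1) → ℕ) (toN a) : ℕ) = k by
        rw [Finsupp.degree_eq_weight_one]
        exact this
      omega
    refine ⟨⟨m, hm⟩, ?_⟩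
    change classMap d n (topMap k ⟨m, hm⟩) = classMap d n z
    rw [← sub_eq_zero, ← map_sub]
    set w := topMap k ⟨m, hm⟩ - z
    have hw : Combinat.dL R n (Combinat.hL n w.1) = w.1 := by
      refine Combinat.eq_dL_hL (LinearMap.mem_ker.mp w.2.2) fun x a ha => ?_
      refine Combinat.eq_zero_of_apply_equiv_eq_zero (stdTuple n) w.2.1
        (LinearMap.mem_ker.mp w.2.2) ha ?_ x
      change ((Combinat.topCocycle (stdTuple n) (negMap n R m)) (stdTuple n) - ℓ) a = 0
      rw [Combinat.topCocycle, Combinat.detTuple_self, one_smul, Finsupp.sub_apply, sub_eq_zero,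
        map_sum, Finsupp.finsetSum_apply]
      have : ∀ b ∈ S, (negMap n R (MvPolynomial.monomial (toN b) (ℓ b))) a =
          if b = a then ℓ b else 0 := fun b hb => by
        rw [negMap_apply, show AddMonoidAlgebra.coeff (MvPolynomial.monomial (toN b) (ℓ b)) =
          Finsupp.single (toN b) (ℓ b) from rfl, Finsupp.mapDomain_single, htoN b hb,
          Finsupp.single_apply]
      rw [Finset.sum_congr rfl this, Finset.sum_ite_eq']
      split_ifs with h
      · rfl
      · simp only [S, Finset.mem_filter, Finsupp.mem_support_iff, not_and] at h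
        by_contra hne
        exact h (Ne.symm hne) ha
    rcases Nat.eq_zero_or_pos n with hn | hn
    · subst hn
      rw [show w = 0 from Subtype.ext (by
        rw [← hw, eq_zero_of_mem_cochains_zero (d := d) (Combinat.hL_mem w.2.1)
          (by simp only [d]; omega), map_zero]
        rfl), map_zero]
    · obtain ⟨p, rfl⟩ : ∃ p, n = p + 1 := ⟨n - 1, by omega⟩
      exact (classMap_eq_zero_iff p w).mpr ⟨_, Combinat.hL_mem w.2.1, hw⟩

/-- `Hⁿ(O(-(n+1+k)))` is the space of homogeneous polynomials of degree `k`. -/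
def hTopEquiv (k : ℕ) :
    MvPolynomial.homogeneousSubmodule (Fin (n + 1)) R k ≃ₗ[R]
      Coh.HH (CohB1.ProjSpace n R) (Twist.twistProjSpace n R (-((n : ℤ) + 1 + k))) n :=
  LinearEquiv.ofBijective ((classMap _ n).comp (topMap k)) (classMap_topMap_bijective k)

end Degrees

end Groth.PnCoh
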