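import Groth.Agent.CohFin.Linear
import Mathlib.RingTheory.Length
import Mathlib.RingTheory.HopkinsLevitzki
import Mathlib.NumberTheory.BernoulliPolynomials

/-!
# Euler characteristics by length, and polynomial functions on `ℤ`
-/

set_option autoImplicit false

universe u

open CategoryTheory AlgebraicGeometry

namespace Groth.PnCoh

variable {A : Type u} [CommRing A]

/-- The length of a module, as a rational number (`0` if infinite). -/
noncomputable def lenQ (A : Type u) [CommRing A] (M : Type u) [AddCommGroup M] [Module A M] : ℚ :=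
  ((Module.length A M).toNat : ℚ)

lemma lenQ_of_subsingleton {M : Type u} [AddCommGroup M] [Module A M] [Subsingleton M] :
    lenQ A M = 0 := by
  rw [lenQ, Module.length_eq_zero_iff.mpr inferInstance]
  rfl

lemma lenQ_congr {M N : Type u} [AddCommGroup M] [Module A M] [AddCommGroup N] [Module A N]
    (e : M ≃ₗ[A] N) : lenQ A M = lenQ A N := by rw [lenQ, lenQ, e.length_eq]

lemma lenQ_eq_ker_add_range [IsArtinianRing A] {M N : Type u} [AddCommGroup M] [Module A M]
    [AddCommGroup N] [Module A N] [Module.Finite A M] (φ : M →ₗ[A] N) :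
    lenQ A M = lenQ A (LinearMap.ker φ) + lenQ A (LinearMap.range φ) := by
  have h := Module.length_eq_add_of_exact (LinearMap.ker φ).subtype φ.rangeRestrict
    (Submodule.subtype_injective _) φ.surjective_rangeRestrict
    (LinearMap.exact_iff.mpr (by rw [LinearMap.ker_rangeRestrict, Submodule.range_subtype]))
  have : IsArtinian A M := inferInstance
  rw [lenQ, lenQ, lenQ, h, ENat.toNat_add Module.length_ne_top Module.length_ne_top]
  push_cast
  rfl

variable {X : Scheme.{u}} (f : X ⟶ Spec (CommRingCat.of A))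

/-- The Euler characteristic in degrees `≤ r`, by length. -/
noncomputable def chi (r : ℕ) (M : X.Modules) : ℚ :=
  ∑ j ∈ Finset.range (r + 1), (-1 : ℚ) ^ j * lenQ A (CohFin.HA f M j)

lemma chi_congr (r : ℕ) {M N : X.Modules} (e : M ≅ N) : chi f r M = chi f r N :=
  Finset.sum_congr rfl fun j _ => by
    rw [lenQ_congr (LinearEquiv.ofBijective (CohFin.mapL f e.hom j)
      ⟨Function.LeftInverse.injective (g := CohFin.mapL f e.inv j) fun x => by
        rw [← CohFin.mapL_comp, e.hom_inv_id, CohFin.mapL_id],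
       fun x => ⟨CohFin.mapL f e.inv j x, by
        rw [← CohFin.mapL_comp, e.inv_hom_id, CohFin.mapL_id]⟩⟩)]

lemma chi_eq_zero (r : ℕ) {M : X.Modules} (hM : Limits.IsZero M) : chi f r M = 0 :=
  Finset.sum_eq_zero fun j _ => by
    have := CohFin.subsingleton_of_isZero (f := f) hM j
    rw [lenQ_of_subsingleton, mul_zero]

/-- Additivity of the Euler characteristic. -/
theorem chi_shortExact [IsArtinianRing A] {S : ShortComplex X.Modules} (hS : S.ShortExact) (r : ℕ)
    (h₁ : ∀ j, CohFin.HFin f S.X₁ j) (h₂ : ∀ j, CohFin.HFin f S.X₂ j)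
    (h₃ : ∀ j, CohFin.HFin f S.X₃ j) (hvan : Subsingleton (CohFin.HA f S.X₁ (r + 1))) :
    chi f r S.X₂ = chi f r S.X₁ + chi f r S.X₃ := by
  let k : ℕ → ℚ := fun j => lenQ A (LinearMap.ker (CohFin.mapL f S.f j))
  have key : ∀ j, lenQ A (CohFin.HA f S.X₁ j) + lenQ A (CohFin.HA f S.X₃ j) -
      lenQ A (CohFin.HA f S.X₂ j) = k j + k (j + 1) := fun j => by
    have := h₁ j
    have := h₂ j
    have := h₃ j
    rw [lenQ_eq_ker_add_range (CohFin.mapL f S.f j),
      lenQ_eq_ker_add_range (CohFin.mapL f S.g j),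
      lenQ_eq_ker_add_range (CohFin.delta (f := f) hS j),
      LinearMap.exact_iff.mp (CohFin.exact_mapL_mapL (f := f) hS j),
      LinearMap.exact_iff.mp (CohFin.exact_mapL_delta (f := f) hS j),
      ← LinearMap.exact_iff.mp (CohFin.exact_delta_mapL (f := f) hS j)]
    simp only [k]
    ring
  have htel : ∀ m, ∑ j ∈ Finset.range m, (-1 : ℚ) ^ j * (k j + k (j + 1)) =
      k 0 - (-1 : ℚ) ^ m * k m := by
    intro m
    induction m with
    | zero => simp
    | succ m ih => rw [Finset.sum_range_succ, ih, pow_succ]; ring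
  have hk0 : k 0 = 0 := by
    have : Subsingleton (LinearMap.ker (CohFin.mapL f S.f 0)) := by
      rw [LinearMap.ker_eq_bot.mpr (CohFin.mapL_zero_injective (f := f) hS)]
      infer_instance
    exact lenQ_of_subsingleton
  have hkr : k (r + 1) = 0 := lenQ_of_subsingleton
  have h := htel (r + 1)
  rw [hk0, hkr, mul_zero, sub_zero] at h
  simp only [← key] at h
  simp only [mul_add, mul_sub, Finset.sum_add_distrib, Finset.sum_sub_distrib] at h
  simp only [chi]
  linarith

/-- A function on `ℤ` given by a rational polynomial. -/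
def IsPolyFun (g : ℤ → ℚ) : Prop := ∃ P : Polynomial ℚ, ∀ n : ℤ, g n = P.eval (n : ℚ)

lemma isPolyFun_sub_shift {g₁ g₂ : ℤ → ℚ} (h₁ : IsPolyFun g₁) (h₂ : IsPolyFun g₂) :
    IsPolyFun fun n => g₁ n - g₂ (n - 1) := by
  obtain ⟨P, hP⟩ := h₁
  obtain ⟨Q, hQ⟩ := h₂
  exact ⟨P - Q.comp (Polynomial.X - 1), fun n => by simp [hP, hQ]⟩

/-- An antidifference of a polynomial. -/
lemma exists_antidiff (p : Polynomial ℚ) :
    ∃ Q : Polynomial ℚ, ∀ x : ℚ, Q.eval x - Q.eval (x - 1) = p.eval x := by
  induction p using Polynomial.induction_on' with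
  | add p q hp hq =>
    obtain ⟨P, hP⟩ := hp
    obtain ⟨Q, hQ⟩ := hq
    exact ⟨P + Q, fun x => by simp only [Polynomial.eval_add, ← hP x, ← hQ x]; ring⟩
  | monomial k c =>
    refine ⟨Polynomial.C (c / (k + 1)) *
      (Polynomial.bernoulli (k + 1)).comp (Polynomial.X + 1), fun x => ?_⟩
    have h := Polynomial.bernoulli_eval_one_add (k + 1) x
    simp only [Polynomial.eval_mul, Polynomial.eval_C, Polynomial.eval_comp, Polynomial.eval_add,
      Polynomial.eval_X, Polynomial.eval_one, Polynomial.eval_monomial, Nat.add_sub_cancel] at h ⊢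
    rw [sub_add_cancel, add_comm x 1, h]
    push_cast
    field_simp
    ring

lemma isPolyFun_of_diff {g : ℤ → ℚ} (h : IsPolyFun fun n => g n - g (n - 1)) : IsPolyFun g := by
  obtain ⟨p, hp⟩ := h
  obtain ⟨Q, hQ⟩ := exists_antidiff p
  refine ⟨Q + Polynomial.C (g 0 - Q.eval 0), fun n => ?_⟩
  simp only [Polynomial.eval_add, Polynomial.eval_C]
  have h' : ∀ m : ℤ, g m - g (m - 1) = Q.eval (m : ℚ) - Q.eval ((m : ℚ) - 1) :=
    fun m => (hp m).trans (hQ m).symm
  induction n using Int.induction_on with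
  | zero => simp
  | succ m ih =>
    have := h' ((m : ℤ) + 1)
    simp only [add_sub_cancel_right] at this
    push_cast at this ih ⊢
    simp only [add_sub_cancel_right] at this
    linarith
  | pred m ih =>
    have := h' (-(m : ℤ))
    push_cast at this ih ⊢
    linarith

end Groth.PnCoh
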