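import Groth.Agent.Ega2Proj.TwistSheaf
import Groth.Agent.Ega2Proj.Generators
import Groth.Agent.CohTwo.Glue
import Groth.Agent.QCohMod.Affine
import Groth.Agent.QCohMod.FiniteType
import Mathlib.AlgebraicGeometry.ProjectiveSpectrum.Proper
import Groth.Prelude.Def_Coh

/-!
# Coherent modules on `Proj` are quotients of sums of twists
-/

universe u

open CategoryTheory CategoryTheory.Limits AlgebraicGeometry Opposite TopologicalSpace

namespace Groth.PnCoh

open Groth.Ega2Proj Groth.QCohMod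

variable {R A : Type u} [CommRing R] [CommRing A] [Algebra R A] (𝒜 : ℕ → Submodule R A)
  [GradedAlgebra 𝒜]

variable {𝒜}

/-- The value at a point of a function on an open of `Proj`. -/
noncomputable abbrev fval {U : (Proj 𝒜).Opens} (r : Γ(Proj 𝒜, U)) (x : ProjectiveSpectrum 𝒜)
    (hx : x ∈ U) : Twist.Loc 𝒜 x :=
  (r.1 ⟨x, hx⟩).val

lemma fval_mul {U : (Proj 𝒜).Opens} (r r' : Γ(Proj 𝒜, U)) (x : ProjectiveSpectrum 𝒜) (hx : x ∈ U) :
    fval (r * r') x hx = fval r x hx * fval r' x hx :=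
  HomogeneousLocalization.val_mul _ _

lemma fval_add {U : (Proj 𝒜).Opens} (r r' : Γ(Proj 𝒜, U)) (x : ProjectiveSpectrum 𝒜) (hx : x ∈ U) :
    fval (r + r') x hx = fval r x hx + fval r' x hx :=
  HomogeneousLocalization.val_add _ _

lemma fval_one {U : (Proj 𝒜).Opens} (x : ProjectiveSpectrum 𝒜) (hx : x ∈ U) :
    fval (1 : Γ(Proj 𝒜, U)) x hx = 1 :=
  HomogeneousLocalization.val_one

lemma fval_res {U V : (Proj 𝒜).Opens} (h : V ≤ U) (r : Γ(Proj 𝒜, U)) (x : ProjectiveSpectrum 𝒜)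
    (hx : x ∈ V) : fval (resFun (Proj 𝒜) h r) x hx = fval r x (h hx) := rfl

lemma fval_pow {U : (Proj 𝒜).Opens} (r : Γ(Proj 𝒜, U)) (P : ℕ) (x : ProjectiveSpectrum 𝒜)
    (hx : x ∈ U) : fval (r ^ P) x hx = fval r x hx ^ P := by
  induction P with
  | zero => rw [pow_zero, pow_zero, fval_one]
  | succ P ih => rw [pow_succ, pow_succ, fval_mul, ih]

/-- The value of an element of the ring. -/
noncomputable abbrev aval (x : ProjectiveSpectrum 𝒜) (a : A) : Twist.Loc 𝒜 x :=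
  algebraMap A (Twist.Loc 𝒜 x) a

lemma lfrac_mul_aval (x : ProjectiveSpectrum 𝒜) (a : A) {b : A} (hb : b ∉ x.asHomogeneousIdeal) :
    lfrac 𝒜 x a hb * aval x b = aval x a := by
  rw [lfrac, aval, aval, Localization.mk_eq_mk']
  exact IsLocalization.mk'_spec (Twist.Loc 𝒜 x) a (⟨b, hb⟩ : x.asHomogeneousIdeal.toIdeal.primeCompl)

lemma isUnit_aval (x : ProjectiveSpectrum 𝒜) {b : A} (hb : b ∉ x.asHomogeneousIdeal) :
    IsUnit (aval x b) :=
  IsLocalization.map_units (Twist.Loc 𝒜 x) (⟨b, hb⟩ : x.asHomogeneousIdeal.toIdeal.primeCompl)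

/-- A degree zero fraction, as a function. -/
lemma exists_fun_frac {i : ℕ} {a b : A} (ha : a ∈ 𝒜 i) (hb : b ∈ 𝒜 i) (U : (Proj 𝒜).Opens)
    (hU : ∀ x : ProjectiveSpectrum 𝒜, x ∈ U → b ∉ x.asHomogeneousIdeal) :
    ∃ r : Γ(Proj 𝒜, U), ∀ x hx, fval r x hx = lfrac 𝒜 x a (hU x hx) := by
  obtain ⟨r, hr⟩ := exists_fun_eq_wval (fracGen ha hb (n := 0) (by omega) U hU)
  exact ⟨r, fun x hx => (hr x hx).trans (wval_fracGen _ _ _ U hU x hx)⟩

/-- A section of `O(n)` times an element of degree `-n` is a function. -/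
lemma exists_fun_mul {n : ℤ} {h : ℕ} (hn : n + h = 0) {H : A} (hH : H ∈ 𝒜 h)
    {U : (Proj 𝒜).Opens} (t : Γ(Twist.twist 𝒜 n, U)) :
    ∃ r : Γ(Proj 𝒜, U), ∀ x hx, fval r x hx = wval t x hx * aval x H := by
  obtain ⟨r, hr⟩ := exists_fun_eq_wval (U := U)
    (Tilde.mulFrac (ℳ := 𝒜) (e' := 0) hH (SetLike.GradedOne.one_mem : (1 : A) ∈ 𝒜 0)
      (n := n) (n' := 0) (by omega)
      (fun x _ h1 => x.isPrime.ne_top ((Ideal.eq_top_iff_one _).mpr h1)) t)
  refine ⟨r, fun x hx => (hr x hx).trans ?_⟩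
  change lfrac 𝒜 x H _ * wval t x hx = _
  rw [mul_comm, aval, ← Localization.mk_one_eq_algebraMap]
  rfl

section Epi

variable {X : Scheme.{u}}

/-- A morphism to a quasi-coherent module whose image contains generators on an affine cover is an
epimorphism. -/
lemma epi_of_affine_cover {M N : X.Modules} [N.IsQuasicoherent] (φ : M ⟶ N) {ι : Type*}
    (U : ι → X.Opens) (hU : ∀ i, IsAffineOpen (U i)) (hcov : ∀ x, ∃ i, x ∈ U i)
    (S : ∀ i, Set Γ(N, U i)) (hS : ∀ i, Submodule.span Γ(X, U i) (S i) = ⊤)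
    (hφ : ∀ i, ∀ s ∈ S i, ∃ m, φ.app (U i) m = s) : Epi φ := by
  refine (epi_iff_stalk φ).mpr fun x t => ?_
  obtain ⟨V, hxV, n, rfl⟩ := TopCat.Presheaf.exists_germ_eq N.presheaf t
  obtain ⟨i, hxi⟩ := hcov x
  have hsurj : ∀ m' : Γ(N, U i), ∃ m, φ.app (U i) m = m' := fun m' => by
    have hm : m' ∈ Submodule.span Γ(X, U i) (S i) := (hS i).symm ▸ Submodule.mem_top
    induction hm using Submodule.span_induction with
    | mem s hs => exact hφ i s hs
    | zero => exact ⟨0, map_zero _⟩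
    | add a b _ _ ha hb =>
      obtain ⟨a', rfl⟩ := ha
      obtain ⟨b', rfl⟩ := hb
      exact ⟨a' + b', map_add _ _ _⟩
    | smul r a _ ha =>
      obtain ⟨a', rfl⟩ := ha
      exact ⟨r • a', Scheme.Modules.Hom.app_smul φ r a'⟩
  obtain ⟨a, hxa, haV⟩ := exists_basicOpen_mem (hU i) hxi hxV
  obtain ⟨k, m', hm'⟩ := exists_pow_smul_eq_res_of_qcqs N (hU i).isCompact
    (hU i).isQuasiSeparated a (res N haV n)
  obtain ⟨m, rfl⟩ := hsurj m'
  have hua : IsUnit (resFun X (X.basicOpen_le a) a) :=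
    AlgebraicGeometry.RingedSpace.isUnit_res_basicOpen (X := X.toRingedSpace) a
  obtain ⟨c, hc⟩ := IsUnit.exists_left_inv (hua.pow k)
  refine ⟨M.presheaf.germ (X.basicOpen a) x hxa (c • res M (X.basicOpen_le a) m), ?_⟩
  erw [TopCat.Presheaf.stalkFunctor_map_germ_apply (X.basicOpen a) x hxa φ.mapPresheaf
    (c • res M (X.basicOpen_le a) m)]
  rw [Scheme.Modules.mapPresheaf_app]
  have e : φ.app (X.basicOpen a) (c • res M (X.basicOpen_le a) m) = res N haV n := by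
    rw [Scheme.Modules.Hom.app_smul,
      show φ.app (X.basicOpen a) (res M (X.basicOpen_le a) m) =
        res N (X.basicOpen_le a) (φ.app (U i) m) from CohTwo.app_res φ _ m,
      hm', smul_smul, hc, one_smul]
  refine (congrArg (N.presheaf.germ (X.basicOpen a) x hxa) e).trans ?_
  exact TopCat.Presheaf.germ_res_apply N.presheaf (homOfLE haV) x hxa n

end Epi

/-- A finite family of standard opens covering `Proj`. -/
structure StdFamily (ι : Type*) where
  /-- The degrees. -/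
  e : ι → ℕ
  /-- The elements. -/
  g : ι → A
  pos : ∀ k, 0 < e k
  mem : ∀ k, g k ∈ 𝒜 (e k)
  cover : ∀ x : Proj 𝒜, ∃ k, x ∈ Proj.basicOpen 𝒜 (g k)

variable {ι : Type*} [Finite ι] (𝒢 : StdFamily (𝒜 := 𝒜) ι)

include 𝒢 in
/-- A section over `D₊(f)` of a quasi-coherent module is the image of `1 / f ^ N` under a morphism
from `O(-N e)`, for large `N`. -/
theorem exists_hom_twist (F : (Proj 𝒜).Modules) [F.IsQuasicoherent] {e : ℕ} {f : A}
    (hf : f ∈ 𝒜 e) (s : Γ(F, Proj.basicOpen 𝒜 f)) :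
    ∃ N₀ : ℕ, ∀ N : ℕ, N₀ ≤ N → ∃ φ : Twist.twist 𝒜 (-((N * e : ℕ) : ℤ)) ⟶ F,
      ∃ t, φ.app (Proj.basicOpen 𝒜 f) t = s := by
  classical
  have := Fintype.ofFinite ι
  let V : ι → (Proj 𝒜).Opens := fun k => Proj.basicOpen 𝒜 (𝒢.g k)
  have hV : ∀ k, IsAffineOpen (V k) := fun k =>
    Proj.isAffineOpen_basicOpen 𝒜 _ (𝒢.mem k) (𝒢.pos k)
  have hVg : ∀ k (x : ProjectiveSpectrum 𝒜), x ∈ V k → 𝒢.g k ∉ x.asHomogeneousIdeal :=
    fun k x hx => hx
  have hfe : ∀ k, f ^ 𝒢.e k ∈ 𝒜 (𝒢.e k * e) := fun k => by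
    simpa using SetLike.pow_mem_graded (𝒢.e k) hf
  have hge : ∀ k, 𝒢.g k ^ e ∈ 𝒜 (𝒢.e k * e) := fun k => by
    simpa [mul_comm] using SetLike.pow_mem_graded e (𝒢.mem k)
  choose φ hφ using fun k => exists_fun_frac (hfe k) (hge k) (V k)
    fun x hx h => hVg k x hx (x.isPrime.mem_of_pow_mem e h)
  have hφval : ∀ k x hx, fval (φ k) x hx * aval x (𝒢.g k ^ e) = aval x (f ^ 𝒢.e k) :=
    fun k x hx => by rw [hφ k x hx]; exact lfrac_mul_aval x _ _
  have hDφ : ∀ k, (Proj 𝒜).basicOpen (φ k) ≤ Proj.basicOpen 𝒜 f := fun k x hx => by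
    have hxk : x ∈ V k := (Proj 𝒜).basicOpen_le _ hx
    have := (mem_basicOpen_iff_of_frac 𝒜 (φ k) hxk (hφ k x hxk)).mp hx
    exact fun h => this (x.asHomogeneousIdeal.toIdeal.pow_mem_of_mem h _ (𝒢.pos k))
  have hDφ' : ∀ k x, x ∈ V k → x ∈ Proj.basicOpen 𝒜 f → x ∈ (Proj 𝒜).basicOpen (φ k) :=
    fun k x hxk hxf => (mem_basicOpen_iff_of_frac 𝒜 (φ k) hxk (hφ k x hxk)).mpr
      fun h => hxf (x.isPrime.mem_of_pow_mem _ h)
  -- extend `s` to each chart
  choose p s₀ hs₀ using fun k => exists_pow_smul_eq_res_of_qcqs F (hV k).isCompact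
    (hV k).isQuasiSeparated (φ k) (res F (hDφ k) s)
  obtain ⟨P, hP⟩ : ∃ P, ∀ k, p k ≤ P :=
    ⟨Finset.sup Finset.univ p,
      fun k => Finset.le_sup (Finset.mem_univ k)⟩
  let s₁ : ∀ k, Γ(F, V k) := fun k => φ k ^ (P - p k) • s₀ k
  have hs₁ : ∀ k, res F ((Proj 𝒜).basicOpen_le (φ k)) (s₁ k) =
      resFun (Proj 𝒜) ((Proj 𝒜).basicOpen_le (φ k)) (φ k) ^ P • res F (hDφ k) s := fun k => by
    simp only [s₁]
    erw [Scheme.Modules.map_smul]
    erw [hs₀ k]
    rw [smul_smul, map_pow, ← pow_add, Nat.sub_add_cancel (hP k)]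
  -- make the extensions agree on overlaps
  let φl : ∀ k l, Γ(Proj 𝒜, V k ⊓ V l) := fun k l => resFun (Proj 𝒜) inf_le_left (φ k)
  let φr : ∀ k l, Γ(Proj 𝒜, V k ⊓ V l) := fun k l => resFun (Proj 𝒜) inf_le_right (φ l)
  have hcompact : ∀ k l, IsCompact ((V k ⊓ V l : (Proj 𝒜).Opens) : Set (Proj 𝒜)) := fun k l => by
    rw [show V k ⊓ V l = Proj.basicOpen 𝒜 (𝒢.g k * 𝒢.g l) from (Proj.basicOpen_mul 𝒜 _ _).symm]
    exact (Proj.isAffineOpen_basicOpen 𝒜 _ (SetLike.mul_mem_graded (𝒢.mem k) (𝒢.mem l))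
      (Nat.add_pos_left (𝒢.pos k) _)).isCompact
  have hQ : ∀ k l, ∃ Q, (φl k l * φr k l) ^ Q •
      (φr k l ^ P • res F (inf_le_left : V k ⊓ V l ≤ V k) (s₁ k) - φl k l ^ P • res F (inf_le_right : V k ⊓ V l ≤ V l) (s₁ l)) = 0 := by
    intro k l
    refine exists_pow_smul_eq_zero_of_isCompact F (hcompact k l) _ _ ?_
    set B := (Proj 𝒜).basicOpen (φl k l * φr k l)
    have hBk : B ≤ (Proj 𝒜).basicOpen (φ k) := by
      simp only [B, Scheme.basicOpen_mul, φl, basicOpen_resFun]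
      exact inf_le_left.trans inf_le_right
    have hBl : B ≤ (Proj 𝒜).basicOpen (φ l) := by
      simp only [B, Scheme.basicOpen_mul, φr, basicOpen_resFun]
      exact inf_le_right.trans inf_le_right
    have ek := congrArg (res F hBk) (hs₁ k)
    have el := congrArg (res F hBl) (hs₁ l)
    simp only [res_res, res_smul, map_pow, resFun_resFun] at ek el
    simp only [map_sub, res_res, res_smul, map_pow, φl, φr, resFun_resFun, ek, el, smul_smul]
    exact sub_eq_zero.mpr (congrArg (· • _) (mul_comm _ _))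
  choose Qf hQf using hQ
  obtain ⟨Q, hQle⟩ : ∃ Q, ∀ k l, Qf k l ≤ Q := by
    refine ⟨Finset.sup (Finset.univ : Finset (ι × ι)) fun a => Qf a.1 a.2, fun k l => ?_⟩
    exact Finset.le_sup (f := fun a : ι × ι => Qf a.1 a.2) (Finset.mem_univ (k, l))
  let P' := P + Q
  let sE : ∀ k, Γ(F, V k) := fun k => φ k ^ Q • s₁ k
  have hcomp : ∀ k l, φr k l ^ P' • res F (inf_le_left : V k ⊓ V l ≤ V k) (sE k) =
      φl k l ^ P' • res F (inf_le_right : V k ⊓ V l ≤ V l) (sE l) := fun k l => by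
    have h0 : (φl k l * φr k l) ^ Q •
        (φr k l ^ P • res F (inf_le_left : V k ⊓ V l ≤ V k) (s₁ k) - φl k l ^ P • res F (inf_le_right : V k ⊓ V l ≤ V l) (s₁ l)) = 0 := by
      rw [← Nat.sub_add_cancel (hQle k l), pow_add, mul_smul, hQf, smul_zero]
    rw [smul_sub, sub_eq_zero, smul_smul, smul_smul] at h0
    simp only [sE, P', res_smul, map_pow, smul_smul]
    convert h0 using 2 <;> simp only [φl, φr, mul_pow, pow_add] <;> ring
  have hsE : ∀ k, res F ((Proj 𝒜).basicOpen_le (φ k)) (sE k) =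
      resFun (Proj 𝒜) ((Proj 𝒜).basicOpen_le (φ k)) (φ k) ^ P' • res F (hDφ k) s := fun k => by
    simp only [sE, res_smul, hs₁ k, map_pow, smul_smul, P', ← pow_add, Nat.add_comm Q P]
  obtain ⟨E, hE⟩ : ∃ E, ∀ k l, 𝒢.e k + 𝒢.e l ≤ E :=
    ⟨Finset.sup (Finset.univ : Finset (ι × ι)) fun a => 𝒢.e a.1 + 𝒢.e a.2,
      fun k l => Finset.le_sup (f := fun a : ι × ι => 𝒢.e a.1 + 𝒢.e a.2) (Finset.mem_univ (k, l))⟩
  refine ⟨E * P', fun N hN => ?_⟩
  have hNk : ∀ k, 𝒢.e k * P' ≤ N := fun k =>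
    le_trans (Nat.mul_le_mul_right P' (le_trans (Nat.le_add_right _ (𝒢.e k)) (hE k k))) hN
  have hNkl : ∀ k l, (𝒢.e k + 𝒢.e l) * P' ≤ N := fun k l =>
    le_trans (Nat.mul_le_mul_right P' (hE k l)) hN
  -- the multipliers
  let H : ι → A := fun k => f ^ (N - 𝒢.e k * P') * 𝒢.g k ^ (e * P')
  have hH : ∀ k, H k ∈ 𝒜 (N * e) := fun k => by
    have h := SetLike.mul_mem_graded (SetLike.pow_mem_graded (N - 𝒢.e k * P') hf)
      (SetLike.pow_mem_graded (e * P') (𝒢.mem k))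
    simp only [smul_eq_mul] at h
    rwa [show (N - 𝒢.e k * P') * e + e * P' * 𝒢.e k = N * e by
      rw [show e * P' * 𝒢.e k = 𝒢.e k * P' * e by ring, ← add_mul,
        Nat.sub_add_cancel (hNk k)]] at h
  let J : ι → ι → A := fun k l =>
    f ^ (N - (𝒢.e k + 𝒢.e l) * P') * (𝒢.g k * 𝒢.g l) ^ (e * P')
  have hJ : ∀ k l, J k l ∈ 𝒜 (N * e) := fun k l => by
    have h := SetLike.mul_mem_graded (SetLike.pow_mem_graded (N - (𝒢.e k + 𝒢.e l) * P') hf)
      (SetLike.pow_mem_graded (e * P') (SetLike.mul_mem_graded (𝒢.mem k) (𝒢.mem l)))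
    simp only [smul_eq_mul] at h
    rwa [show (N - (𝒢.e k + 𝒢.e l) * P') * e + e * P' * (𝒢.e k + 𝒢.e l) = N * e by
      rw [show e * P' * (𝒢.e k + 𝒢.e l) = (𝒢.e k + 𝒢.e l) * P' * e by ring, ← add_mul,
        Nat.sub_add_cancel (hNkl k l)]] at h
  let Rel : ∀ W : (Proj 𝒜).Opens, Γ(Twist.twist 𝒜 (-((N * e : ℕ) : ℤ)), W) → Γ(F, W) → Prop :=
    fun W t u => ∀ (k : ι) (W' : (Proj 𝒜).Opens) (hW : W' ≤ W) (hWk : W' ≤ V k) (c : Γ(Proj 𝒜, W')),
      (∀ x hx, fval c x hx = wval t x (hW hx) * aval x (H k)) →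
        res F hW u = c • res F hWk (sE k)
  have hc : ∀ {W : (Proj 𝒜).Opens} (t : Γ(Twist.twist 𝒜 (-((N * e : ℕ) : ℤ)), W)) (G : A),
      G ∈ 𝒜 (N * e) → ∃ c : Γ(Proj 𝒜, W), ∀ x hx, fval c x hx = wval t x hx * aval x G :=
    fun t G hG => exists_fun_mul (neg_add_cancel _) hG t
  obtain ⟨ψ, hψ⟩ := CohTwo.exists_hom_of_local (T := Twist.twist 𝒜 (-((N * e : ℕ) : ℤ)))
    (F := F) Rel
    (by
      intro W' W h t u hR k W'' hW hWk c hcv
      have := hR k W'' (hW.trans h) hWk c hcv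
      rw [← this]
      exact res_res F h hW u)
    (by
      intro W t u u' hR hR'
      refine CohTwo.eq_of_local F u u' fun x hx => ?_
      obtain ⟨k, hxk⟩ := 𝒢.cover x
      obtain ⟨c, hcv⟩ := hc t (H k) (hH k)
      refine ⟨W ⊓ V k, inf_le_left, ⟨hx, hxk⟩, ?_⟩
      exact (hR k _ inf_le_left inf_le_right (resFun (Proj 𝒜) inf_le_left c)
        fun y hy => hcv y _).trans (hR' k _ inf_le_left inf_le_right
          (resFun (Proj 𝒜) inf_le_left c) fun y hy => hcv y _).symm)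
    (by
      intro W t u hloc k W' hW hWk c hcv
      refine CohTwo.eq_of_local F _ _ fun x hx => ?_
      obtain ⟨W'', h'', hx'', hR⟩ := hloc x (hW hx)
      refine ⟨W' ⊓ W'', inf_le_left, ⟨hx, hx''⟩, ?_⟩
      have := hR k (W' ⊓ W'') inf_le_right (inf_le_left.trans hWk)
        (resFun (Proj 𝒜) inf_le_left c) fun y hy => hcv y hy.1
      change res F inf_le_left (res F hW u) = res F inf_le_left (c • res F hWk (sE k))
      rw [res_smul, res_res, res_res, ← this]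
      exact (res_res F h'' inf_le_right u).symm)
    (by
      intro W t x hx
      obtain ⟨k, hxk⟩ := 𝒢.cover x
      obtain ⟨c, hcv⟩ := hc t (H k) (hH k)
      refine ⟨W ⊓ V k, inf_le_left, resFun (Proj 𝒜) (inf_le_left : W ⊓ V k ≤ W) c •
          res F (inf_le_right : W ⊓ V k ≤ V k) (sE k),
        ⟨hx, hxk⟩, fun l W' hW hWl c' hc' => ?_⟩
      have hWkl : W' ≤ V k ⊓ V l := le_inf (hW.trans inf_le_right) hWl
      obtain ⟨w, hw⟩ := hc t (J k l) (hJ k l)
      have hWW : W' ≤ W := hW.trans inf_le_left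
      have e1 : resFun (Proj 𝒜) hWW c =
          resFun (Proj 𝒜) hWW w * resFun (Proj 𝒜) hWkl (φr k l ^ P') := by
        refine fun_ext fun y hy => ?_
        change fval (resFun (Proj 𝒜) hWW c) y hy = fval (_ * _) y hy
        rw [fval_mul, fval_res, fval_res, fval_res, fval_pow, hcv, hw]
        have hu := (isUnit_aval (x := y) (b := 𝒢.g l) (hVg l y (hWl hy))).pow (e * P')
        refine hu.mul_left_injective ?_
        simp only [φr, fval_res]
        have e2 := congrArg (· ^ P') (hφval l y (hWl hy))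
        simp only [mul_pow, ← map_pow, ← pow_mul] at e2
        calc wval t y (hWW hy) * aval y (H k) * aval y (𝒢.g l) ^ (e * P')
            = wval t y (hWW hy) * aval y (J k l) * aval y (f ^ (𝒢.e l * P')) := by
              simp only [H, J, aval, ← map_pow, mul_assoc, ← map_mul]
              congr 2
              rw [mul_pow, show N - 𝒢.e k * P' = N - (𝒢.e k + 𝒢.e l) * P' + 𝒢.e l * P' by
                have := hNkl k l
                rw [add_mul] at this ⊢
                omega, pow_add]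
              ring
          _ = _ := by
              simp only [aval, map_pow] at e2 ⊢
              rw [← e2]
              ring
      have e3 : c' = resFun (Proj 𝒜) hWW w * resFun (Proj 𝒜) hWkl (φl k l ^ P') := by
        refine fun_ext fun y hy => ?_
        change fval c' y hy = fval (_ * _) y hy
        rw [fval_mul, fval_res, fval_res, fval_pow, hc', hw]
        have hu := (isUnit_aval (x := y) (b := 𝒢.g k)
          (hVg k y ((hW.trans inf_le_right) hy))).pow (e * P')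
        refine hu.mul_left_injective ?_
        simp only [φl, fval_res]
        have e2 := congrArg (· ^ P') (hφval k y ((hW.trans inf_le_right) hy))
        simp only [mul_pow, ← map_pow, ← pow_mul] at e2
        calc wval t y (hWW hy) * aval y (H l) * aval y (𝒢.g k) ^ (e * P')
            = wval t y (hWW hy) * aval y (J k l) * aval y (f ^ (𝒢.e k * P')) := by
              simp only [H, J, aval, ← map_pow, mul_assoc, ← map_mul]
              congr 2
              rw [mul_pow, show N - 𝒢.e l * P' = N - (𝒢.e k + 𝒢.e l) * P' + 𝒢.e k * P' by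
                have := hNkl k l
                rw [add_mul] at this ⊢
                omega, pow_add]
              ring
          _ = _ := by
              simp only [aval, map_pow] at e2 ⊢
              rw [← e2]
              ring
      have e4 := congrArg (res F hWkl) (hcomp k l)
      simp only [res_smul, res_res] at e4
      rw [e3, res_smul, res_res, resFun_resFun, e1, mul_smul, e4, ← mul_smul])
    (by
      intro W t t' u u' hR hR' k W' hW hWk c hcv
      obtain ⟨a, ha⟩ := hc t (H k) (hH k)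
      obtain ⟨b, hb⟩ := hc t' (H k) (hH k)
      have e : c = resFun (Proj 𝒜) hW a + resFun (Proj 𝒜) hW b := fun_ext fun y hy => by
        change fval c y hy = fval (_ + _) y hy
        rw [fval_add, fval_res, fval_res, hcv, ha, hb, ← add_mul]
        rfl
      rw [map_add, hR k W' hW hWk (resFun (Proj 𝒜) hW a) (fun y hy => ha y _),
        hR' k W' hW hWk (resFun (Proj 𝒜) hW b) (fun y hy => hb y _), e, add_smul])
    (by
      intro W r t u hR k W' hW hWk c hcv
      obtain ⟨a, ha⟩ := hc t (H k) (hH k)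
      have e : c = resFun (Proj 𝒜) hW r * resFun (Proj 𝒜) hW a := fun_ext fun y hy => by
        change fval c y hy = fval (_ * _) y hy
        rw [fval_mul, fval_res, fval_res, hcv, ha, wval_smul, mul_assoc]
      rw [res_smul, hR k W' hW hWk (resFun (Proj 𝒜) hW a) (fun y hy => ha y _), e, mul_smul])
  refine ⟨ψ, fracGen (SetLike.GradedOne.one_mem : (1 : A) ∈ 𝒜 0)
    (h := f ^ N) (e' := N * e) (by simpa using SetLike.pow_mem_graded N hf)
    (n := -((N * e : ℕ) : ℤ)) (by simp) (Proj.basicOpen 𝒜 f)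
    (fun x hx h => hx (x.isPrime.mem_of_pow_mem N h)), ?_⟩
  set t := fracGen (SetLike.GradedOne.one_mem : (1 : A) ∈ 𝒜 0)
    (h := f ^ N) (e' := N * e) (by simpa using SetLike.pow_mem_graded N hf)
    (n := -((N * e : ℕ) : ℤ)) (by simp) (Proj.basicOpen 𝒜 f)
    (fun x hx h => hx (x.isPrime.mem_of_pow_mem N h))
  refine CohTwo.eq_of_local F _ _ fun x hx => ?_
  obtain ⟨k, hxk⟩ := 𝒢.cover x
  obtain ⟨c, hcv⟩ := hc t (H k) (hH k)
  have hle : Proj.basicOpen 𝒜 f ⊓ V k ≤ (Proj 𝒜).basicOpen (φ k) :=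
    fun y hy => hDφ' k y hy.2 hy.1
  refine ⟨_, inf_le_left, ⟨hx, hxk⟩, ?_⟩
  have e1 := hψ (Proj.basicOpen 𝒜 f) t k _ inf_le_left inf_le_right
    (resFun (Proj 𝒜) inf_le_left c) fun y hy => hcv y _
  have e2 := congrArg (res F hle) (hsE k)
  simp only [res_res, res_smul, map_pow, resFun_resFun] at e2
  refine e1.trans ?_
  rw [e2, smul_smul]
  refine (congrArg (· • _) (?_ : _ = (1 : Γ(Proj 𝒜, Proj.basicOpen 𝒜 f ⊓ V k)))).trans (one_smul _ _)
  refine fun_ext fun y hy => ?_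
  change fval (_ * _) y hy = fval 1 y hy
  rw [fval_mul, fval_pow, fval_one, fval_res, fval_res, hcv, wval_fracGen]
  have hu := ((isUnit_aval (x := y) (b := 𝒢.g k) (hVg k y hy.2)).pow (e * P')).mul
    ((isUnit_aval (x := y) (b := f) hy.1).pow N)
  refine hu.mul_left_injective ?_
  have e3 := congrArg (· ^ P') (hφval k y hy.2)
  simp only [mul_pow, ← map_pow, ← pow_mul] at e3
  have e4 := lfrac_mul_aval y 1 (b := f ^ N) (fun h => hy.1 (y.isPrime.mem_of_pow_mem N h))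
  simp only [aval, map_pow, map_one] at e3 e4
  simp only [H, aval, map_mul, map_pow, one_mul]
  have e5 : (algebraMap A (Twist.Loc 𝒜 y)) f ^ (N - 𝒢.e k * P') *
      (algebraMap A (Twist.Loc 𝒜 y)) f ^ (𝒢.e k * P') =
      (algebraMap A (Twist.Loc 𝒜 y)) f ^ N := by rw [← pow_add, Nat.sub_add_cancel (hNk k)]
  linear_combination (fval (φ k) y hy.2 ^ P' *
    (algebraMap A (Twist.Loc 𝒜 y)) f ^ (N - 𝒢.e k * P') *
    (algebraMap A (Twist.Loc 𝒜 y)) (𝒢.g k) ^ (e * P') *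
    (algebraMap A (Twist.Loc 𝒜 y)) (𝒢.g k) ^ (e * P')) * e4 +
    ((algebraMap A (Twist.Loc 𝒜 y)) f ^ (N - 𝒢.e k * P') *
      (algebraMap A (Twist.Loc 𝒜 y)) (𝒢.g k) ^ (e * P')) * e3 +
    (algebraMap A (Twist.Loc 𝒜 y)) (𝒢.g k) ^ (e * P') * e5

end Groth.PnCoh

namespace Groth.PnCoh

open Groth.Ega2Proj Groth.QCohMod

variable {R A : Type u} [CommRing R] [CommRing A] [Algebra R A] (𝒜 : ℕ → Submodule R A)
  [GradedAlgebra 𝒜] [IsNoetherianRing A]

/-- `Proj` of a Noetherian graded ring has a finite covering by standard opens. -/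
theorem exists_stdFamily : ∃ (ι : Type u) (_ : Finite ι), Nonempty (StdFamily (𝒜 := 𝒜) ι) := by
  classical
  obtain ⟨G, hG⟩ := IsNoetherian.noetherian (HomogeneousIdeal.irrelevant 𝒜).toIdeal
  let S : Finset A := G.biUnion fun a =>
    ((DirectSum.decompose 𝒜 a).support.filter (0 < ·)).image fun k => (DirectSum.decompose 𝒜 a k : A)
  have hS : ∀ x : S, ∃ k, 0 < k ∧ x.1 ∈ 𝒜 k := fun x => by
    obtain ⟨a, -, ha⟩ := Finset.mem_biUnion.mp x.2
    obtain ⟨k, hk, hkx⟩ := Finset.mem_image.mp ha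
    exact ⟨k, (Finset.mem_filter.mp hk).2, hkx ▸ SetLike.coe_mem _⟩
  refine ⟨S, inferInstance, ⟨⟨fun x => (hS x).choose, fun x => x.1,
    fun x => (hS x).choose_spec.1, fun x => (hS x).choose_spec.2, fun y => ?_⟩⟩⟩
  let x : ProjectiveSpectrum 𝒜 := y
  obtain ⟨d, g, hd, hg, hgx⟩ := exists_pos_notMem 𝒜 x
  by_contra hy
  push Not at hy
  have hy' : ∀ a : S, a.1 ∈ x.asHomogeneousIdeal.toIdeal := fun a =>
    by_contra fun h => hy a h
  refine hgx ((Ideal.span_le.mpr ?_ : Ideal.span (G : Set A) ≤ x.asHomogeneousIdeal.toIdeal)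
    (hG.ge (HomogeneousIdeal.mem_irrelevant_of_mem 𝒜 hd hg)))
  intro a ha
  rw [SetLike.mem_coe, ← DirectSum.sum_support_decompose 𝒜 a]
  refine Ideal.sum_mem _ fun k hk => ?_
  rcases Nat.eq_zero_or_pos k with rfl | hk'
  · have h0 : GradedRing.proj 𝒜 0 a = 0 := (HomogeneousIdeal.mem_irrelevant_iff 𝒜 a).mp
      (hG.le (Ideal.subset_span ha))
    rw [GradedRing.proj_apply] at h0
    rw [h0]
    exact zero_mem _
  · exact hy' ⟨_, Finset.mem_biUnion.mpr ⟨a, ha,
      Finset.mem_image.mpr ⟨k, Finset.mem_filter.mpr ⟨hk, hk'⟩, rfl⟩⟩⟩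

/-- A coherent module on `Proj` is a quotient of a finite sum of arbitrarily negative twists. -/
theorem exists_epi_twists (F : (Proj 𝒜).Modules) (hF : Coh.IsCoh F) (b : ℤ) :
    ∃ (r : ℕ) (d : Fin r → ℤ) (φ : (∐ fun j : Fin r => Twist.twist 𝒜 (d j)) ⟶ F),
      (∀ j, d j ≤ b) ∧ Epi φ := by
  classical
  obtain ⟨ι, hι, ⟨𝒢⟩⟩ := exists_stdFamily 𝒜
  have := hF.1
  have := Fintype.ofFinite ι
  have hU : ∀ k, IsAffineOpen (Proj.basicOpen 𝒜 (𝒢.g k)) := fun k =>
    Proj.isAffineOpen_basicOpen 𝒜 _ (𝒢.mem k) (𝒢.pos k)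
  choose S hS using fun k => (QCohMod.finite_sections F hF.2 (hU k)).fg_top
  let J := (k : ι) × S k
  choose N₀ hN₀ using fun j : J => exists_hom_twist 𝒢 F (𝒢.mem j.1) j.2.1
  let N : J → ℕ := fun j => max (N₀ j) b.natAbs
  choose φ t ht using fun j : J => hN₀ j (N j) (le_max_left _ _)
  let e : Fin (Fintype.card J) ≃ J := (Fintype.equivFin J).symm
  refine ⟨_, fun i => -((N (e i) * 𝒢.e (e i).1 : ℕ) : ℤ), Sigma.desc fun i => φ (e i),
    fun i => ?_, ?_⟩
  · have h1 : b.natAbs ≤ N (e i) * 𝒢.e (e i).1 :=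
      (le_max_right _ _).trans (Nat.le_mul_of_pos_right _ (𝒢.pos _))
    show -((N (e i) * 𝒢.e (e i).1 : ℕ) : ℤ) ≤ b
    omega
  · refine epi_of_affine_cover _ _ hU 𝒢.cover (fun k => (S k : Set _)) hS fun k s hs => ?_
    have key : ∀ j : J, ∃ m, (Sigma.desc fun i => φ (e i) : _ ⟶ F).app
        (Proj.basicOpen 𝒜 (𝒢.g j.1)) m = j.2.1 := fun j => by
      obtain ⟨i, rfl⟩ := e.surjective j
      refine ⟨(Sigma.ι (fun i => Twist.twist 𝒜 (-((N (e i) * 𝒢.e (e i).1 : ℕ) : ℤ))) i).app _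
        (t (e i)), ?_⟩
      rw [← ConcreteCategory.comp_apply, ← Scheme.Modules.Hom.comp_app, Sigma.ι_desc]
      exact ht (e i)
    exact key ⟨k, s, hs⟩

end Groth.PnCoh
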