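import Groth.Agent.PnCoh.Cohomology
import Groth.Agent.PnCoh.TwistQuot
import Groth.Agent.Ega2Proj.TwistPow
import Groth.Agent.CohFin.Linear
import Groth.Agent.QCohMod.Coherent
import Groth.Agent.S2357
import Mathlib.RingTheory.MvPolynomial.Homogeneous

/-!
# Finiteness of the cohomology of coherent modules on projective space
-/

universe u

open CategoryTheory CategoryTheory.Limits AlgebraicGeometry Opposite TopologicalSpace

namespace Groth.PnCoh

section FiniteSums

variable {X : Scheme.{u}} {r : ℕ} (M : Fin r → X.Modules)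

/-- The projection of a finite coproduct to a summand. -/
noncomputable def sigmaProj (i : Fin r) : ∐ M ⟶ M i :=
  Sigma.desc fun j => if h : j = i then eqToHom (congrArg M h) else 0

lemma sigmaProj_total : ∑ i, sigmaProj M i ≫ Sigma.ι M i = 𝟙 (∐ M) := by
  refine Sigma.hom_ext _ _ fun j => ?_
  rw [Preadditive.comp_sum, Category.comp_id, Finset.sum_eq_single j]
  · rw [sigmaProj, Sigma.ι_desc_assoc, dif_pos rfl, eqToHom_refl, Category.id_comp]
  · intro i _ hi
    rw [sigmaProj, Sigma.ι_desc_assoc, dif_neg (Ne.symm hi), zero_comp]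
  · simp

/-- A finite coproduct of coherent modules is coherent. -/
lemma isCoh_sigma (hM : ∀ i, Coh.IsCoh (M i)) : Coh.IsCoh (∐ M) := by
  have : ∀ j, ((Discrete.functor M).obj j).IsQuasicoherent := fun j => (hM j.as).1
  have : (∐ M).IsQuasicoherent :=
    QCohMod.isQCoh_of_isColimit (Discrete.functor M) _ (colimit.isColimit _)
  refine (QCohMod.isCoh_iff _).2 ⟨inferInstance, fun U hU => ?_⟩
  have : ∀ i, Module.Finite Γ(X, U) Γ(M i, U) := fun i =>
    ((QCohMod.isCoh_iff _).1 (hM i)).2 U hU
  let L : (∀ i, Γ(M i, U)) →ₗ[Γ(X, U)] Γ(∐ M, U) :=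
    ∑ i, (QCohMod.appₗ (Sigma.ι M i) U).comp (LinearMap.proj i)
  refine Module.Finite.of_surjective L fun a => ⟨fun i => (sigmaProj M i).app U a, ?_⟩
  simp only [L, LinearMap.coe_sum, Finset.sum_apply, LinearMap.comp_apply, LinearMap.proj_apply,
    QCohMod.appₗ_apply]
  refine Eq.trans ?_ (congrArg (fun φ => Scheme.Modules.Hom.app φ U a) (sigmaProj_total M))
  rw [QCohMod.app_sum]
  rfl

variable {A : Type u} [CommRing A] (f : X ⟶ Spec (CommRingCat.of A))

/-- Cohomology of a finite coproduct is a quotient of the product of the cohomologies. -/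
lemma mapL_sum {N P : X.Modules} {κ : Type*} (s : Finset κ) (φ : κ → (N ⟶ P)) (n : ℕ)
    (x : CohFin.HA f N n) :
    CohFin.mapL f (∑ i ∈ s, φ i) n x = ∑ i ∈ s, CohFin.mapL f (φ i) n x := by
  classical
  induction s using Finset.induction_on with
  | empty => simp [CohFin.mapL_zero]
  | insert a s ha ih => rw [Finset.sum_insert ha, Finset.sum_insert ha, CohFin.mapL_add, ih]

lemma hFin_sigma {n : ℕ} (hM : ∀ i, CohFin.HFin f (M i) n) : CohFin.HFin f (∐ M) n := by
  let L : (∀ i, CohFin.HA f (M i) n) →ₗ[A] CohFin.HA f (∐ M) n :=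
    ∑ i, (CohFin.mapL f (Sigma.ι M i) n).comp (LinearMap.proj i)
  refine Module.Finite.of_surjective L fun a => ⟨fun i => CohFin.mapL f (sigmaProj M i) n a, ?_⟩
  simp only [L, LinearMap.coe_sum, Finset.sum_apply, LinearMap.comp_apply, LinearMap.proj_apply,
    ← CohFin.mapL_comp]
  rw [← mapL_sum, sigmaProj_total, CohFin.mapL_id]

end FiniteSums

variable (n : ℕ) (R : Type u) [CommRing R]

/-- The twisting sheaves of projective space are coherent. -/
theorem isCoh_twist (d : ℤ) : Coh.IsCoh (Twist.twistProjSpace n R d) := by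
  refine ⟨(isQCoh_twist n R d : _), QCohMod.isFT_of_affine_cover _ fun x => ?_⟩
  obtain ⟨i, hi⟩ := Opens.mem_iSup.mp
    ((isAcyclicCover_stdOpen n R).cover.ge (show x ∈ (⊤ : (CohB1.ProjSpace n R).Opens) from trivial))
  have hX : (MvPolynomial.X i.down : MvPolynomial (Fin (n + 1)) R) ∈ CohB1.polyGrading n R 1 :=
    (MvPolynomial.mem_homogeneousSubmodule _ _).mpr (MvPolynomial.isHomogeneous_X R _)
  refine ⟨stdOpen n R i, Proj.isAffineOpen_basicOpen _ _ hX one_pos, hi, ?_⟩
  have hgen := Ega2Proj.gen_pwSec (N := d) hX d (by simp)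
    (U := Proj.basicOpen (CohB1.polyGrading n R) (MvPolynomial.X i.down)) fun y hy => hy
  change Module.Finite
    Γ(Proj (CohB1.polyGrading n R), Proj.basicOpen (CohB1.polyGrading n R) (MvPolynomial.X i.down))
    Γ(Twist.twist (CohB1.polyGrading n R) d,
      Proj.basicOpen (CohB1.polyGrading n R) (MvPolynomial.X i.down))
  refine Module.Finite.of_surjective (LinearMap.toSpanSingleton
    Γ(Proj (CohB1.polyGrading n R), Proj.basicOpen (CohB1.polyGrading n R) (MvPolynomial.X i.down))
    Γ(Twist.twist (CohB1.polyGrading n R) d,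
      Proj.basicOpen (CohB1.polyGrading n R) (MvPolynomial.X i.down))
    (Ega2Proj.pwSec (N := d) hX d (by simp) fun y hy => hy)) fun t => ?_
  obtain ⟨c, hc⟩ := hgen.exists_coeff le_rfl t
  exact ⟨c, (LinearMap.toSpanSingleton_apply _ _ _ _).trans (by rw [hc]; rfl)⟩

variable [IsNoetherianRing R]

omit [IsNoetherianRing R] in
/-- The cohomology of the twisting sheaves is finite. -/
theorem hFin_twist (d : ℤ) (q : ℕ) :
    CohFin.HFin ((CohB1.ProjSpace n R) ↘ Spec (CommRingCat.of R))
      (Twist.twistProjSpace n R d) q := by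
  have hfin : ∀ k, Module.Finite R ↥(MvPolynomial.homogeneousSubmodule (Fin (n + 1)) R k) :=
    fun k => Module.Finite.of_fg (MvPolynomial.homogeneousSubmodule_fg (Fin (n + 1)) R k)
  by_cases h₀ : q = 0 ∧ 0 ≤ d
  · obtain ⟨rfl, hd⟩ := h₀
    obtain ⟨k, rfl⟩ : ∃ k : ℕ, d = k := ⟨d.toNat, (Int.toNat_of_nonneg hd).symm⟩
    have := hfin k
    exact Module.Finite.equiv (h0Equiv (n := n) (R := R) k)
  by_cases hn : q = n ∧ d ≤ -((n : ℤ) + 1)
  · obtain ⟨rfl, hd⟩ := hn
    obtain ⟨k, rfl⟩ : ∃ k : ℕ, d = -((q : ℤ) + 1 + k) :=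
      ⟨(-d - (q : ℤ) - 1).toNat, by omega⟩
    have := hfin k
    exact Module.Finite.equiv (hTopEquiv (n := q) (R := R) k)
  exact CohFin.hFin_of_subsingleton (subsingleton_HH_twist d q h₀ hn)

/-- Projective space over a Noetherian ring is locally Noetherian. -/
theorem isLocallyNoetherian_projSpace : IsLocallyNoetherian (CohB1.ProjSpace n R) :=
  (Groth.Agent.S2357.result (CohB1.polyGrading n R)).toIsLocallyNoetherian

/-- Cohomology of coherent modules on projective space is finite. -/
theorem hFin_projSpace (M : (CohB1.ProjSpace n R).Modules) (hM : Coh.IsCoh M) (i : ℕ) :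
    CohFin.HFin ((CohB1.ProjSpace n R) ↘ Spec (CommRingCat.of R)) M i := by
  suffices h : ∀ j, n < i + j → ∀ M : (CohB1.ProjSpace n R).Modules, Coh.IsCoh M →
      CohFin.HFin ((CohB1.ProjSpace n R) ↘ Spec (CommRingCat.of R)) M i from
    h (n + 1) (by omega) M hM
  intro j
  induction j generalizing i with
  | zero =>
    intro hi M hM
    have : Coh.IsQCoh M := hM.1
    exact CohFin.hFin_of_subsingleton (subsingleton_HH_of_lt n R M (by omega))
  | succ j ih =>
    intro hi M hM
    obtain ⟨r, d, φ, -, hφ⟩ := exists_epi_twists (CohB1.polyGrading n R) M hM 0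
    have := isLocallyNoetherian_projSpace n R
    let E : Fin r → (CohB1.ProjSpace n R).Modules := fun j => Twist.twistProjSpace n R (d j)
    let ψ : ∐ E ⟶ M := φ
    have : Epi ψ := hφ
    have hE : Coh.IsCoh (∐ E) := isCoh_sigma E fun j => isCoh_twist n R (d j)
    have : M.IsQuasicoherent := hM.1
    have hK : Coh.IsCoh (kernel ψ) := QCohMod.isCoh_kernel ψ hE
    let S : ShortComplex (CohB1.ProjSpace n R).Modules :=
      ShortComplex.mk (kernel.ι ψ) ψ (kernel.condition ψ)
    have hS : S.ShortExact :=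
      { exact := ShortComplex.exact_of_f_is_kernel _ (kernelIsKernel ψ) }
    exact CohFin.hFin_third hS (hFin_sigma E _ fun j => hFin_twist n R (d j) i)
      (ih (i + 1) (by omega) _ hK)

end Groth.PnCoh
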