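import Groth.Agent.PnCoh.MulVar
import Groth.Agent.PnCoh.EulerLength
import Groth.Agent.PnCoh.Finite
import Groth.Agent.RefRank.Divisor

/-!
# Euler characteristics of twists on projective space are polynomial
-/

set_option autoImplicit false

universe u

open CategoryTheory CategoryTheory.Limits AlgebraicGeometry
open Groth.PicAux

namespace Groth.PnCoh

section Generic

variable {R B : Type u} [CommRing R] [CommRing B] [Algebra R B] (𝒜 : ℕ → Submodule R B)
  [GradedAlgebra 𝒜]

lemma nonempty_twist_comp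
    (hgen : (HomogeneousIdeal.irrelevant 𝒜).toIdeal ≤ Ideal.span (𝒜 1 : Set B)) (a b : ℤ)
    (G : (Proj 𝒜).Modules) :
    Nonempty ((DCoh.tensorRightMod (Twist.twist 𝒜 b)).obj
        ((DCoh.tensorRightMod (Twist.twist 𝒜 a)).obj G) ≅
      (DCoh.tensorRightMod (Twist.twist 𝒜 (a + b))).obj G) := by
  obtain ⟨e⟩ := Ega2Proj.nonempty_tensor_iso hgen a b
  exact ⟨(twistCompIso (Twist.twist 𝒜 a) (Twist.twist 𝒜 b)).app G ≪≫
    (twistCongr (X := Proj 𝒜) e).app G⟩

lemma nonempty_twist_comp_neg
    (hgen : (HomogeneousIdeal.irrelevant 𝒜).toIdeal ≤ Ideal.span (𝒜 1 : Set B))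
    (G : (Proj 𝒜).Modules) :
    Nonempty ((DCoh.tensorRightMod (Twist.twist 𝒜 1)).obj
        ((DCoh.tensorRightMod (Twist.twist 𝒜 (-1))).obj G) ≅ G) := by
  obtain ⟨e⟩ := nonempty_twist_comp 𝒜 hgen (-1) 1 G
  obtain ⟨e₀⟩ := nonempty_twist_zero_iso 𝒜
  have h0 : ((-1 : ℤ) + 1) = 0 := by norm_num
  rw [h0] at e
  exact ⟨e ≪≫ (twistCongr (X := Proj 𝒜) e₀).app G ≪≫ (twistUnitIso (X := Proj 𝒜)).app G⟩

end Generic

variable (r : ℕ) (A : Type u) [CommRing A]

local notation "P" => Proj (CohB1.polyGrading r A)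

/-- `- ⊗ O(n)`. -/
noncomputable abbrev twF (n : ℤ) : (Proj (CohB1.polyGrading r A)).Modules ⥤ (Proj (CohB1.polyGrading r A)).Modules :=
  DCoh.tensorRightMod (Twist.twist (CohB1.polyGrading r A) n)

lemma irrelevant_le_span_deg_one :
    (HomogeneousIdeal.irrelevant (CohB1.polyGrading r A)).toIdeal ≤
      Ideal.span ((CohB1.polyGrading r A) 1 : Set (MvPolynomial (Fin (r + 1)) A)) :=
  (irrelevant_le_span_X r A).trans (Ideal.span_mono (by
    rintro _ ⟨j, rfl⟩
    exact (MvPolynomial.mem_homogeneousSubmodule _ _).mpr (MvPolynomial.isHomogeneous_X A _)))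

lemma isEquivalence_twF (n : ℤ) : (twF r A n).IsEquivalence :=
  isEquivalence_tensorRightMod_of_isInvertible
    (Ega2Proj.isInvertible_twist (irrelevant_le_span_deg_one r A) n)

lemma nonempty_twF_comp (a b : ℤ) (G : (Proj (CohB1.polyGrading r A)).Modules) :
    Nonempty ((twF r A b).obj ((twF r A a).obj G) ≅ (twF r A (a + b)).obj G) := by
  exact nonempty_twist_comp (CohB1.polyGrading r A) (irrelevant_le_span_deg_one r A) a b G

lemma isCoh_twF (n : ℤ) {G : (Proj (CohB1.polyGrading r A)).Modules} (hG : Coh.IsCoh G) :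
    Coh.IsCoh ((twF r A n).obj G) :=
  Groth.RefRank.isCoh_tensorMod hG (isCoh_twist r A n)

/-- The Euler characteristic of `G(n)`. -/
noncomputable def chiTw (G : (Proj (CohB1.polyGrading r A)).Modules) (n : ℤ) : ℚ :=
  chi (CohB1.ProjSpace.toSpec r A) r ((twF r A n).obj G)

variable [IsArtinianRing A]

lemma chiTw_shortExact {S : ShortComplex (Proj (CohB1.polyGrading r A)).Modules} (hS : S.ShortExact)
    (h₁ : Coh.IsCoh S.X₁) (h₂ : Coh.IsCoh S.X₂) (h₃ : Coh.IsCoh S.X₃) (n : ℤ) :
    chiTw r A S.X₂ n = chiTw r A S.X₁ n + chiTw r A S.X₃ n := by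
  have hT := shortExact_tensorRightMod
    (Ega2Proj.isInvertible_twist (irrelevant_le_span_deg_one r A) n) hS
  have hfin : ∀ {M : (Proj (CohB1.polyGrading r A)).Modules}, Coh.IsCoh M → ∀ j,
      CohFin.HFin (CohB1.ProjSpace.toSpec r A) ((twF r A n).obj M) j := fun {M} hM j =>
    hFin_projSpace r A _ (isCoh_twF r A n hM) j
  refine chi_shortExact (CohB1.ProjSpace.toSpec r A) hT r (hfin h₁) (hfin h₂) (hfin h₃) ?_
  have : Coh.IsQCoh (X := CohB1.ProjSpace r A)
      (((twF r A n).obj S.X₁ : (Proj (CohB1.polyGrading r A)).Modules)) := (isCoh_twF r A n h₁).1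
  exact subsingleton_HH_of_lt r A ((twF r A n).obj S.X₁ : (Proj (CohB1.polyGrading r A)).Modules)
    (Nat.lt_succ_self r)

/-- `G ↦ G(n)` has polynomial Euler characteristic. -/
theorem isPolyFun_chiTw (G : (Proj (CohB1.polyGrading r A)).Modules) (hG : Coh.IsCoh G) :
    IsPolyFun (chiTw r A G) := by
  classical
  choose σ hσ using fun i : Fin (r + 1) => exists_mulHom (CohB1.polyGrading r A)
    (H := MvPolynomial.X i)
    ((MvPolynomial.mem_homogeneousSubmodule _ _).mpr (MvPolynomial.isHomogeneous_X A i))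
  have : IsLocallyNoetherian (Proj (CohB1.polyGrading r A)) := isLocallyNoetherian_projSpace r A
  let μ : Fin (r + 1) → (twF r A (-1) ⟶ 𝟭 (Proj (CohB1.polyGrading r A)).Modules) := fun i => actNat (σ i)
  suffices h : ∀ (T : Finset (Fin (r + 1))) (G : (Proj (CohB1.polyGrading r A)).Modules), Coh.IsCoh G →
      (∀ i, i ∉ T → (μ i).app G = 0) → IsPolyFun (chiTw r A G) from
    h Finset.univ G hG (fun i hi => absurd (Finset.mem_univ i) hi)
  intro T
  induction T using Finset.strongInduction with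
  | H T ih =>
  intro G hG hkill
  rcases T.eq_empty_or_nonempty with rfl | ⟨k, hk⟩
  · have hz : IsZero G := isZero_of_actNat_eq_zero (X := Proj (CohB1.polyGrading r A)) σ
      (fun i => Proj.basicOpen (CohB1.polyGrading r A) (MvPolynomial.X i))
      (Proj.iSup_basicOpen_eq_top (CohB1.polyGrading r A) _
        ((irrelevant_le_span_X r A).trans (Ideal.span_mono (by rintro _ ⟨j, rfl⟩; exact ⟨_, rfl⟩))))
      hσ G (fun i => hkill i (Finset.notMem_empty i))
    exact ⟨0, fun n => by
      rw [Polynomial.eval_zero]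
      exact chi_eq_zero _ r ((twF r A n).map_isZero hz)⟩
  let φ : (twF r A (-1)).obj G ⟶ G := (μ k).app G
  have hG' : Coh.IsCoh ((twF r A (-1)).obj G) := isCoh_twF r A (-1) hG
  have := hG.1
  have := hG'.1
  have hK : Coh.IsCoh (kernel φ) := QCohMod.isCoh_kernel φ hG'
  have hC : Coh.IsCoh (cokernel φ) := QCohMod.isCoh_cokernel φ hG
  have hI : Coh.IsCoh (Abelian.image φ) := by
    have := hC.1
    exact QCohMod.isCoh_kernel (cokernel.π φ) hG
  -- the untwisted kernel
  have := isEquivalence_twF r A (-1)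
  let K := (twF r A (-1)).objPreimage (kernel φ)
  let a : (twF r A (-1)).obj K ≅ kernel φ := (twF r A (-1)).objObjPreimageIso (kernel φ)
  let j : K ⟶ G := (twF r A (-1)).preimage (a.hom ≫ kernel.ι φ)
  have hj : (twF r A (-1)).map j = a.hom ≫ kernel.ι φ := (twF r A (-1)).map_preimage _
  have : Mono j := by
    refine (twF r A (-1)).mono_of_mono_map (f := j) ?_
    rw [hj]
    infer_instance
  have hKc : Coh.IsCoh K := by
    obtain ⟨e⟩ := nonempty_twist_comp_neg (CohB1.polyGrading r A) (irrelevant_le_span_deg_one r A) K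
    exact QCohMod.isCoh_of_iso ((twF r A 1).mapIso a.symm ≪≫ e) (isCoh_twF r A 1 hK)
  have hkK : ∀ i, i ∉ T.erase k → (μ i).app K = 0 := fun i hi => by
    rw [← cancel_mono j, zero_comp]
    refine ((μ i).naturality j).symm.trans ?_
    by_cases hik : i = k
    · subst hik
      rw [hj, Category.assoc, show kernel.ι φ ≫ (μ i).app G = 0 from kernel.condition φ, comp_zero]
    · rw [hkill i (fun h => hi (Finset.mem_erase.mpr ⟨hik, h⟩)), comp_zero]
  have hkC : ∀ i, i ∉ T.erase k → (μ i).app (cokernel φ) = 0 := fun i hi => by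
    have : Epi ((twF r A (-1)).map (cokernel.π φ)) := inferInstance
    rw [← cancel_epi ((twF r A (-1)).map (cokernel.π φ)), comp_zero]
    refine ((μ i).naturality (cokernel.π φ)).trans ?_
    by_cases hik : i = k
    · subst hik
      exact cokernel.condition φ
    · rw [hkill i (fun h => hi (Finset.mem_erase.mpr ⟨hik, h⟩))]
      exact zero_comp
  have p₁ := ih _ (Finset.erase_ssubset hk) (cokernel φ) hC hkC
  have p₂ := ih _ (Finset.erase_ssubset hk) K hKc hkK
  refine isPolyFun_of_diff ?_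
  obtain ⟨q, hq⟩ := isPolyFun_sub_shift p₁ p₂
  refine ⟨q, fun n => (?_ : _ = _).trans (hq n)⟩
  let S₁ : ShortComplex (Proj (CohB1.polyGrading r A)).Modules :=
    ShortComplex.mk (kernel.ι φ) (Abelian.factorThruImage φ) (by
      rw [← cancel_mono (Abelian.image.ι φ), Category.assoc, Abelian.image.fac, kernel.condition,
        zero_comp])
  have hS₁ : S₁.ShortExact :=
    { exact := ShortComplex.exact_of_f_is_kernel _ (KernelFork.IsLimit.ofι _ _
        (fun {W} l hl => kernel.lift φ l (by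
          rw [← Abelian.image.fac φ, ← Category.assoc, hl, zero_comp]))
        (fun {W} l hl => kernel.lift_ι _ _ _)
        (fun {W} l hl m hm => by rw [← cancel_mono (kernel.ι φ), kernel.lift_ι]; exact hm)) }
  let S₂ : ShortComplex (Proj (CohB1.polyGrading r A)).Modules :=
    ShortComplex.mk (Abelian.image.ι φ) (cokernel.π φ) (kernel.condition _)
  have hS₂ : S₂.ShortExact :=
    { exact := ShortComplex.exact_of_f_is_kernel _ (kernelIsKernel (cokernel.π φ)) }
  have e1 := chiTw_shortExact r A hS₁ hK hG' hI n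
  have e2 := chiTw_shortExact r A hS₂ hI hG hC n
  have hsh : ∀ M : (Proj (CohB1.polyGrading r A)).Modules,
      chiTw r A ((twF r A (-1)).obj M) n = chiTw r A M (n - 1) := fun M => by
    obtain ⟨e⟩ := nonempty_twF_comp r A (-1) n M
    rw [show n - 1 = -1 + n by ring]
    exact chi_congr _ r e
  have e3 : chiTw r A (kernel φ) n = chiTw r A K (n - 1) := by
    rw [← hsh K]
    exact chi_congr _ r ((twF r A n).mapIso a.symm)
  have e4 : chiTw r A S₁.X₂ n = chiTw r A G (n - 1) := hsh G
  change chiTw r A S₁.X₂ n = chiTw r A (kernel φ) n + chiTw r A (Abelian.image φ) n at e1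
  change chiTw r A G n = chiTw r A (Abelian.image φ) n + chiTw r A (cokernel φ) n at e2
  linarith

end Groth.PnCoh
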