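import Groth.Agent.PnCoh.Vanishing
import Groth.Agent.PnCoh.ProjectionFormula
import Groth.Agent.CohFin.PushAffine
import Groth.Agent.CohTwo.Devissage
import Groth.Agent.Variety2.ProjBasics

/-!
# Serre vanishing on closed subschemes of projective space
-/

set_option autoImplicit false

universe u

open CategoryTheory CategoryTheory.Limits AlgebraicGeometry

namespace Groth.PnCoh

variable (n : ℕ) (R : Type u) [CommRing R] {X : Scheme.{u}} (i : X ⟶ CohB1.ProjSpace n R)
  [IsClosedImmersion i]

/-- The twisting sheaves of projective space are invertible. -/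
theorem isInvertible_twist (d : ℤ) : PicF.IsInvertible (Twist.twistProjSpace n R d) :=
  Ega2Proj.isInvertible_twist ((irrelevant_le_span_X n R).trans (Ideal.span_mono (by
    rintro _ ⟨j, rfl⟩
    exact (MvPolynomial.mem_homogeneousSubmodule _ _).mpr (MvPolynomial.isHomogeneous_X R _)))) d

/-- Cohomology of `F(d)` on a closed subscheme is the cohomology of the twisted direct image. -/
theorem nonempty_linearEquiv_push_twist (F : X.Modules) [F.IsQuasicoherent] (d : ℤ) (q : ℕ) :
    Nonempty (CohFin.HA (CohB1.ProjSpace.toSpec n R)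
        (CohB1.tensorMod ((Scheme.Modules.pushforward i).obj F) (Twist.twistProjSpace n R d)) q ≃ₗ[R]
      CohFin.HA (i ≫ CohB1.ProjSpace.toSpec n R)
        (CohB1.tensorMod F ((Scheme.Modules.pullback i).obj (Twist.twistProjSpace n R d))) q) := by
  haveI : (CohB1.ProjSpace n R).IsSeparated := ⟨by
    rw [← terminal.comp_from (CohB1.ProjSpace.toSpec n R)]
    infer_instance⟩
  haveI : CompactSpace (CohB1.ProjSpace n R) :=
    QuasiCompact.compactSpace_of_compactSpace (CohB1.ProjSpace.toSpec n R)
  haveI : CompactSpace X := QuasiCompact.compactSpace_of_compactSpace i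
  haveI : X.IsSeparated := ⟨by
    rw [← terminal.comp_from i]
    infer_instance⟩
  haveI : (Twist.twistProjSpace n R d).IsQuasicoherent := (isQCoh_twist n R d : _)
  haveI := QCohMod.isQCoh_pullback_obj i (Twist.twistProjSpace n R d)
  let N := CohB1.tensorMod F ((Scheme.Modules.pullback i).obj (Twist.twistProjSpace n R d))
  haveI : N.IsQuasicoherent := QCohMod.isQCoh_tensorMod
  obtain ⟨θ, -⟩ := exists_projectionFormula i F (isInvertible_twist n R d)
  let f := CohB1.ProjSpace.toSpec n R
  obtain ⟨e⟩ := CohFin.nonempty_linearEquiv_push i f q N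
  let a : CohFin.HA f
      (CohB1.tensorMod ((Scheme.Modules.pushforward i).obj F) (Twist.twistProjSpace n R d)) q ≃ₗ[R]
      CohFin.HA f ((Scheme.Modules.pushforward i).obj N) q :=
    LinearEquiv.ofLinearMap (CohFin.mapL f θ.hom q) (CohFin.mapL f θ.inv q)
      (LinearMap.ext fun x => by
        change CohFin.mapL f θ.hom q (CohFin.mapL f θ.inv q x) = x
        rw [← CohFin.mapL_comp, θ.inv_hom_id, CohFin.mapL_id])
      (LinearMap.ext fun x => by
        change CohFin.mapL f θ.inv q (CohFin.mapL f θ.hom q x) = x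
        rw [← CohFin.mapL_comp, θ.hom_inv_id, CohFin.mapL_id])
  exact ⟨a ≪≫ₗ e⟩

/-- Serre vanishing on closed subschemes of projective space. -/
theorem exists_subsingleton_twist_closed [IsNoetherianRing R] (F : X.Modules) (hF : Coh.IsCoh F) :
    ∃ d₀ : ℤ, ∀ d : ℤ, d₀ ≤ d → ∀ q : ℕ, 0 < q →
      Subsingleton (Coh.HH X
        (CohB1.tensorMod F ((Scheme.Modules.pullback i).obj (Twist.twistProjSpace n R d))) q) := by
  haveI := hF.1
  haveI := isLocallyNoetherian_projSpace n R
  obtain ⟨d₀, hd⟩ := exists_subsingleton_twistBy n R _ (Groth.CohTwo.isCoh_push i hF)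
  refine ⟨d₀, fun d hdd q hq => ?_⟩
  obtain ⟨e⟩ := nonempty_linearEquiv_push_twist n R i F d q
  have h : Subsingleton (CohFin.HA (CohB1.ProjSpace.toSpec n R)
      (CohB1.tensorMod ((Scheme.Modules.pushforward i).obj F) (Twist.twistProjSpace n R d)) q) :=
    hd d hdd q hq
  exact (e.symm.toEquiv.subsingleton :)

/-- Vanishing is invariant under isomorphism. -/
theorem subsingleton_HH_of_iso {A : Type u} [CommRing A] {Y : Scheme.{u}}
    (f : Y ⟶ Spec (CommRingCat.of A)) {M N : Y.Modules} (e : M ≅ N) {q : ℕ}
    (h : Subsingleton (Coh.HH Y M q)) : Subsingleton (Coh.HH Y N q) := by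
  haveI : Subsingleton (CohFin.HA f M q) := h
  exact ((Function.LeftInverse.injective (g := CohFin.mapL f e.hom q) (f := CohFin.mapL f e.inv q)
    fun x => by rw [← CohFin.mapL_comp, e.inv_hom_id, CohFin.mapL_id]).subsingleton :)


end Groth.PnCoh
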