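import Groth.Agent.CohFin.Linear
import Groth.Agent.PicAux.Sections

/-!
# Exactness of global sections when the first cohomology of the kernel vanishes
-/

set_option autoImplicit false

universe u

open CategoryTheory CategoryTheory.Limits AlgebraicGeometry Opposite TopologicalSpace
open Groth.PicAux

namespace Groth.PnCoh

variable {A : Type u} [CommRing A] {X : Scheme.{u}} (f : X ⟶ Spec (CommRingCat.of A))

include f in
/-- Global sections of an exact complex are exact if `H¹` of the first kernel vanishes. -/
theorem exact_app_top_of_subsingleton (D : ShortComplex X.Modules) (hD : D.Exact)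
    (h : Subsingleton (Coh.HH X (kernel D.f) 1)) :
    Function.Exact (D.f.app ⊤) (D.g.app ⊤) := by
  intro y
  refine ⟨fun hy => ?_, ?_⟩
  · let φ := homOfSection y
    have hφ : φ ≫ D.g = 0 := hom_structure_ext (by
      change D.g.app ⊤ (φ.app ⊤ (oneSec X ⊤)) = _
      rw [show φ.app ⊤ (oneSec X ⊤) = y from homOfSection_one y, hy]
      rfl)
    let p : D.X₁ ⟶ kernel D.g := kernel.lift D.g D.f D.zero
    have hp : Epi p := D.exact_iff_epi_kernel_lift.mp hD
    let S : ShortComplex X.Modules :=
      ShortComplex.mk (kernel.ι D.f) p (by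
        rw [← cancel_mono (kernel.ι D.g), Category.assoc, kernel.lift_ι, kernel.condition, zero_comp])
    have hS : S.ShortExact :=
      { exact := by
          refine ShortComplex.exact_of_f_is_kernel _ (KernelFork.IsLimit.ofι _ _
            (fun {W} k hk => kernel.lift D.f k (by
              rw [← kernel.lift_ι D.g D.f D.zero, ← Category.assoc, hk, zero_comp]))
            (fun {W} k hk => kernel.lift_ι _ _ _)
            (fun {W} k hk m hm => by
              rw [← cancel_mono (kernel.ι D.f), kernel.lift_ι]; exact hm)) }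
    let z := (kernel.lift D.g φ hφ).app ⊤ (oneSec X ⊤)
    obtain ⟨x, hx⟩ := (CohFin.exact_mapL_delta (f := f) hS 0
      ((CohFin.equivSections f (kernel D.g)).symm z)).1
      ((show Subsingleton (CohFin.HA f (kernel D.f) 1) from h).elim _ _)
    have h1 := congrArg (CohFin.equivSections f (kernel D.g)) hx
    rw [CohFin.equivSections_mapL, AddEquiv.apply_symm_apply] at h1
    refine ⟨CohFin.equivSections f D.X₁ x, ?_⟩
    have h2 := congrArg ((kernel.ι D.g).app ⊤) h1
    have e1 : D.f = p ≫ kernel.ι D.g := (kernel.lift_ι _ _ _).symm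
    have e2 : kernel.lift D.g φ hφ ≫ kernel.ι D.g = φ := kernel.lift_ι _ _ _
    calc D.f.app ⊤ (CohFin.equivSections f D.X₁ x)
        = (p ≫ kernel.ι D.g).app ⊤ (CohFin.equivSections f D.X₁ x) := by rw [← e1]
      _ = (kernel.ι D.g).app ⊤ z := h2
      _ = (kernel.lift D.g φ hφ ≫ kernel.ι D.g).app ⊤ (oneSec X ⊤) := rfl
      _ = y := by rw [e2]; exact homOfSection_one y
  · rintro ⟨x, rfl⟩
    change (D.f ≫ D.g).app ⊤ x = 0
    rw [D.zero]
    rfl

end Groth.PnCoh
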