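import Groth.Agent.PnCoh.OverAffine
import Groth.Agent.PnCoh.Finite
import Groth.Agent.CohFin.Proper

/-!
# Finiteness of coherent cohomology on `P^n_{Spec B}`
-/

set_option autoImplicit false

universe u

open CategoryTheory CategoryTheory.Limits AlgebraicGeometry

namespace Groth.PnCoh

/-- Coherent cohomology of projective spaces over Noetherian rings is finite. -/
theorem projFinite : CohFin.ProjFinite.{u} := by
  intro n B _ _ M hM i
  let P := CohB1.ProjSpaceOver n (Spec (CommRingCat.of B))
  let g : P ⟶ CohB1.ProjSpace n B := (overIso n B).inv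
  haveI : IsAffineHom g := inferInstance
  haveI : IsClosedImmersion g := inferInstance
  haveI := CohFin.isSeparated_toBase n (Spec (CommRingCat.of B))
  haveI := CohFin.isSeparated_of_proper (CohB1.ProjSpaceOver.toBase n (Spec (CommRingCat.of B)))
  haveI : (CohB1.ProjSpace n B).IsSeparated := inferInstanceAs (Proj _).IsSeparated
  haveI : IsLocallyNoetherian (CohB1.ProjSpace n B) := isLocallyNoetherian_projSpace n B
  haveI : IsLocallyNoetherian P := isLocallyNoetherian_of_isOpenImmersion g
  haveI : CompactSpace (CohB1.ProjSpace n B) :=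
    QuasiCompact.compactSpace_of_compactSpace (CohB1.ProjSpace.toSpec n B)
  haveI : CompactSpace P := QuasiCompact.compactSpace_of_compactSpace g
  haveI := hM.1
  have h := (CohFin.hFin_push_affine_iff g (CohB1.ProjSpace.toSpec n B) i M).1
    (hFin_projSpace n B _ (Groth.CohTwo.isCoh_push g hM) i)
  have e : g ≫ CohB1.ProjSpace.toSpec n B =
      CohB1.ProjSpaceOver.toBase n (Spec (CommRingCat.of B)) := by
    rw [← overIso_hom_toBase n B, ← Category.assoc]
    simp [g]
  rwa [e] at h

end Groth.PnCoh
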