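import Groth.Agent.PnCoh.GlobalFun
import Groth.Agent.PicAux.Powers
import Groth.Agent.Ega2Proj.TensorGen

/-!
# Multiplication by a homogeneous element of degree one, `F(-1) → F`
-/

set_option autoImplicit false

universe u

open CategoryTheory CategoryTheory.Limits AlgebraicGeometry Opposite TopologicalSpace
open Groth.PicAux Groth.Ega2Proj

namespace Groth.PnCoh

variable {R A : Type u} [CommRing R] [CommRing A] [Algebra R A] (𝒜 : ℕ → Submodule R A)
  [GradedAlgebra 𝒜]

/-- An element of degree one gives `O(-1) → O`, bijective where it does not vanish. -/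
theorem exists_mulHom {H : A} (hH : H ∈ 𝒜 1) :
    ∃ σ : Twist.twist 𝒜 (-1) ⟶ Coh.structureModule (Proj 𝒜),
      ∀ V : (Proj 𝒜).Opens, V ≤ Proj.basicOpen 𝒜 H → Function.Bijective (σ.app V) := by
  obtain ⟨e⟩ := nonempty_twist_zero_iso 𝒜
  have h1 : ∀ (U : (Proj 𝒜).Opens) (x : ProjectiveSpectrum 𝒜), x ∈ U →
      (1 : A) ∉ x.asHomogeneousIdeal := fun _ x _ h =>
    x.isPrime.ne_top ((Ideal.eq_top_iff_one _).mpr h)
  let g (U : (Proj 𝒜).Opens) : Γ(Twist.twist 𝒜 (-1), U) →+ Γ(Twist.twist 𝒜 0, U) :=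
    AddMonoidHom.mk'
      (fun s => Ega2Proj.Tilde.mulFrac (ℳ := 𝒜) (e' := 0) hH SetLike.GradedOne.one_mem
        (n := -1) (n' := 0) (by omega) (h1 U) s)
      fun a b => Ega2Proj.Tilde.tval_ext (𝒜 := 𝒜) (ℳ := 𝒜) fun x hx => smul_add _ _ _
  let η : (Twist.twist 𝒜 (-1)).presheaf ⟶ (Twist.twist 𝒜 0).presheaf :=
    { app := fun U => AddCommGrpCat.ofHom (g U.unop)
      naturality := fun _ _ _ => rfl }
  let φ : Twist.twist 𝒜 (-1) ⟶ Twist.twist 𝒜 0 := ⟨PresheafOfModules.homMk η (by
    intro U r s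
    have key : ∀ (r : Γ(Proj 𝒜, U.unop)) (s : Γ(Twist.twist 𝒜 (-1), U.unop)),
        g U.unop (r • s) = r • g U.unop s := fun r s =>
      Ega2Proj.wval_ext fun x hx => by
        refine Eq.trans ?_ (Ega2Proj.wval_smul r (g U.unop s) x hx).symm
        exact (congrArg (fun q => lfrac 𝒜 x H (h1 U.unop x hx) * q) (Ega2Proj.wval_smul r s x hx)).trans (mul_left_comm _ _ _)
    exact key r s)⟩
  refine ⟨φ ≫ e.hom, fun V hV => ?_⟩
  have hb : Function.Bijective (φ.app V) :=
    Ega2Proj.Tilde.mulFrac_bijective (ℳ := 𝒜) (e' := 0) hH SetLike.GradedOne.one_mem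
      (n := -1) (n' := 0) (by omega) (h1 V) (fun x hx => hV hx)
  have he : Function.Bijective (e.hom.app V) :=
    ⟨Function.LeftInverse.injective (g := e.inv.app V) fun x => by
        change (e.hom ≫ e.inv).app V x = x
        rw [e.hom_inv_id]; rfl,
      fun x => ⟨e.inv.app V x, by
        change (e.inv ≫ e.hom).app V x = x
        rw [e.inv_hom_id]; rfl⟩⟩
  exact he.comp hb

section Abstract

variable {X : Scheme.{u}} {L : X.Modules} (σ : L ⟶ Coh.structureModule X)

theorem exists_actNat :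
    ∃ μ : DCoh.tensorRightMod L ⟶ 𝟭 X.Modules, ∀ (G : X.Modules) (W : X.Opens)
      (a : Γ(G, W)) (l : Γ(L, W)),
        (μ.app G).app W (tmulSec a l : Γ(CohB1.tensorMod G L, W)) = toFun (σ.app W l) • a := by
  have hG : ∀ G : X.Modules, ∃ φ : CohB1.tensorMod G L ⟶ G, ∀ W a l,
      φ.app W (tmulSec a l) = toFun (σ.app W l) • a := fun G => by
    obtain ⟨φ, hφ⟩ := exists_tensor_lift (L := G) (M := L) (P := G)
      (fun W => LinearMap.mk₂ Γ(X, W) (fun a l => toFun (σ.app W l) • a)
        (fun a a' l => smul_add _ _ _)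
        (fun r a l => smul_comm _ _ _)
        (fun a l l' => by rw [map_add]; exact add_smul _ _ _)
        (fun r a l => by rw [Scheme.Modules.Hom.app_smul, toFun_smul, mul_smul]))
      (fun W W' h a l => by
        simp only [LinearMap.mk₂_apply]
        rw [res_smul, ← toFun_res, app_res])
    exact ⟨φ, hφ⟩
  choose φ hφ using hG
  refine ⟨{ app := φ, naturality := fun {G G'} ψ => tensor_hom_ext (L := G) (M := L) fun W a l => ?_ },
    hφ⟩
  refine (congrArg ((φ G').app W) (tensorRightMod_map_tmulSec L ψ W a l)).trans ((hφ G' W _ l).trans ?_)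
  exact ((ψ.app_smul (toFun (σ.app W l)) a).symm.trans (congrArg (ψ.app W) (hφ G W a l).symm))

/-- The action of `σ : L → O` on modules, `G ⊗ L → G`. -/
noncomputable def actNat : DCoh.tensorRightMod L ⟶ 𝟭 X.Modules := (exists_actNat σ).choose

theorem actNat_tmulSec (G : X.Modules) (W : X.Opens) (a : Γ(G, W)) (l : Γ(L, W)) :
    ((actNat σ).app G).app W (tmulSec a l : Γ(CohB1.tensorMod G L, W)) = toFun (σ.app W l) • a :=
  (exists_actNat σ).choose_spec G W a l

/-- A module killed by a family of sections generating `O` vanishes. -/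
theorem isZero_of_actNat_eq_zero {ι : Type*} (σ : ι → (L ⟶ Coh.structureModule X))
    (U : ι → X.Opens) (hU : iSup U = ⊤)
    (hσ : ∀ i V, V ≤ U i → Function.Bijective ((σ i).app V))
    (G : X.Modules) (h : ∀ i, (actNat (σ i)).app G = 0) : IsZero G := by
  refine (IsZero.iff_id_eq_zero _).mpr (hom_ext_cover hU fun i V hV a => ?_)
  obtain ⟨l, hl⟩ := (hσ i V hV).2 (oneSec X V)
  have e := actNat_tmulSec (σ i) G V a l
  rw [h i, hl, toFun_oneSec, one_smul] at e
  exact e.symm

end Abstract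

end Groth.PnCoh
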