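import Groth.Agent.PnCoh.Cohomology
import Groth.Agent.SGA7.Forms
import Mathlib.RingTheory.Binomial
import Mathlib.Algebra.BigOperators.Ring.Finset

/-!
# The Euler characteristic of `O(d)` on projective space over a field
-/

universe u

open CategoryTheory AlgebraicGeometry

namespace Groth.PnCoh

variable (k : Type u) [Field k] (r : ℕ)

lemma finrank_h0 (m : ℕ) :
    Module.finrank k (Coh.HH (CohB1.ProjSpace r k) (Twist.twistProjSpace r k (m : ℤ)) 0) =
      (r + m).choose m :=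
  ((h0Equiv (n := r) (R := k) m).finrank_eq).symm.trans (Groth.SGA7.Forms.finrank_form r k m)

lemma finrank_hTop (m : ℕ) :
    Module.finrank k (Coh.HH (CohB1.ProjSpace r k)
      (Twist.twistProjSpace r k (-((r : ℤ) + 1 + m))) r) = (r + m).choose m :=
  ((hTopEquiv (n := r) (R := k) m).finrank_eq).symm.trans (Groth.SGA7.Forms.finrank_form r k m)

lemma finrank_eq_zero (d : ℤ) (q : ℕ) (h₀ : ¬ (q = 0 ∧ 0 ≤ d))
    (hn : ¬ (q = r ∧ d ≤ -((r : ℤ) + 1))) :
    Module.finrank k (Coh.HH (CohB1.ProjSpace r k) (Twist.twistProjSpace r k d) q) = 0 :=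
  have := subsingleton_HH_twist (n := r) (R := k) d q h₀ hn
  Module.finrank_zero_of_subsingleton

/-- `χ(O(d)) = C(d + r, r)`. -/
theorem euler_twist (d : ℤ) :
    ((Finset.range (r + 1)).sum fun j => (-1 : ℤ) ^ j *
        (Module.finrank k (Coh.HH (CohB1.ProjSpace r k) (Twist.twistProjSpace r k d) j) : ℤ)) =
      Ring.choose (d + r) r := by
  rcases le_or_gt 0 d with hd | hd
  · obtain ⟨m, rfl⟩ : ∃ m : ℕ, d = m := ⟨d.toNat, (Int.toNat_of_nonneg hd).symm⟩
    rw [Finset.sum_eq_single 0]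
    · rw [pow_zero, one_mul, finrank_h0, show ((m : ℤ) + r) = ((m + r : ℕ) : ℤ) by push_cast; ring,
        Ring.choose_natCast, Nat.add_comm r m, Nat.choose_symm_add]
    · intro j hj hj0
      rw [finrank_eq_zero k r _ j (by simp [hj0]) (by omega), Nat.cast_zero, mul_zero]
    · simp
  rcases le_or_gt d (-((r : ℤ) + 1)) with hd' | hd'
  · obtain ⟨m, rfl⟩ : ∃ m : ℕ, d = -((r : ℤ) + 1 + m) :=
      ⟨(-d - (r : ℤ) - 1).toNat, by omega⟩
    rw [Finset.sum_eq_single r]
    · rw [finrank_hTop, show -((r : ℤ) + 1 + m) + r = -((m + 1 : ℕ) : ℤ) by push_cast; ring,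
        Ring.choose_neg,
        show ((m + 1 : ℕ) : ℤ) + r - 1 = ((r + m : ℕ) : ℤ) by push_cast; ring,
        Ring.choose_natCast, Nat.choose_symm_add, Units.smul_def, smul_eq_mul]
      congr 1
    · intro j hj hjr
      rw [finrank_eq_zero k r _ j (by omega) (by simp [hjr]), Nat.cast_zero, mul_zero]
    · simp
  · rw [Finset.sum_eq_zero fun j hj => by
      rw [finrank_eq_zero k r _ j (by omega) (by omega), Nat.cast_zero, mul_zero]]
    obtain ⟨m, hm⟩ : ∃ m : ℕ, d + r = m := ⟨(d + r).toNat, (Int.toNat_of_nonneg (by omega)).symm⟩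
    rw [hm, Ring.choose_natCast, Nat.choose_eq_zero_of_lt (by omega), Nat.cast_zero]

end Groth.PnCoh
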