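import Groth.Agent.Ega2Proj.TwistGen
import Groth.Agent.Ega2Proj.TwistBaseChange
import Groth.Agent.Ega2Proj.TwistExtend
import Groth.Agent.RefRank.Divisor
import Groth.Agent.Misc1.Twist.Cover

/-!
# Twisting sheaves on an arbitrary `Proj`, through a covering degree `L`
-/

set_option autoImplicit false

universe u

open CategoryTheory AlgebraicGeometry Opposite TopologicalSpace DirectSum Limits
open Groth.PicAux Groth.Ega2Proj

namespace Groth.PnCoh

variable {R A : Type u} [CommRing R] [CommRing A] [Algebra R A] {𝒜 : ℕ → Submodule R A}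
  [GradedAlgebra 𝒜]

section Shift

variable {M : Type u} [AddCommGroup M] [Module R M] [Module A M]
  {ℳ : ℕ → Submodule R M} [SetLike.GradedSMul 𝒜 ℳ]

/-- Division by `f ^ n`, `deg f = d`. -/
noncomputable def shiftDownBy {d : ℕ} {f : A} (hf : f ∈ 𝒜 d) (n : ℤ) (a : ℤ) {V : (Proj 𝒜).Opens}
    (hV : ∀ x : ProjectiveSpectrum 𝒜, x ∈ V → f ∉ x.asHomogeneousIdeal)
    (s : Γ(GrTilde.tilde 𝒜 ℳ (a + n * d), V)) : Γ(GrTilde.tilde 𝒜 ℳ a, V) :=
  Tilde.mulFrac (pow_mem_deg hf (-n).toNat) (pow_mem_deg hf n.toNat)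
    (by
      have h := congrArg (fun t : ℤ => t * d) (Int.toNat_sub_toNat_neg n)
      simp only [sub_mul] at h
      push_cast
      omega)
    (fun x hx => notMem_pow x (hV x hx) _) s

theorem tval_shiftDownBy {d : ℕ} {f : A} (hf : f ∈ 𝒜 d) (n a : ℤ) {V : (Proj 𝒜).Opens}
    (hV : ∀ x : ProjectiveSpectrum 𝒜, x ∈ V → f ∉ x.asHomogeneousIdeal)
    (s : Γ(GrTilde.tilde 𝒜 ℳ (a + n * d), V)) (x : ProjectiveSpectrum 𝒜) (hx : x ∈ V) :
    Tilde.tval (shiftDownBy hf n a hV s) x hx =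
      ((funit x (hV x hx) ^ (-n) : (Twist.Loc 𝒜 x)ˣ) : Twist.Loc 𝒜 x) • Tilde.tval s x hx := by
  rw [shiftDownBy, Tilde.tval_mulFrac, lfrac_pow_eq x (hV x hx)]
  congr 3
  omega

/-- `M(a + nd)~ ≅ M(a)~ ⊗ O(nd)` when the degree-`d` opens cover. -/
theorem nonempty_tilde_iso_tensor {d : ℕ} (hd : 0 < d)
    (hcov : ⨆ f : 𝒜 d, Proj.basicOpen 𝒜 (f : A) = ⊤) (a n : ℤ) :
    Nonempty (GrTilde.tilde 𝒜 ℳ (a + n * d) ≅
      CohB1.tensorMod (GrTilde.tilde 𝒜 ℳ a) (Twist.twist 𝒜 (n * d))) := by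
  have hV : ∀ (f : 𝒜 d) (V : (Proj 𝒜).Opens), V ≤ Proj.basicOpen 𝒜 (f : A) →
      ∀ x : ProjectiveSpectrum 𝒜, x ∈ V → (f : A) ∉ x.asHomogeneousIdeal :=
    fun f V h x hx => h hx
  obtain ⟨φ, hφ⟩ := exists_hom_of_cover (L := GrTilde.tilde 𝒜 ℳ (a + n * d))
    (M := CohB1.tensorMod (GrTilde.tilde 𝒜 ℳ a) (Twist.twist 𝒜 (n * d))) hcov
    (fun f V h x => tmulSec (shiftDownBy f.2 n a (hV f V h) x)
      (pwSec (N := n * d) f.2 n rfl (hV f V h)))
    (fun f V h x y => by
      have : shiftDownBy f.2 n a (hV f V h) (x + y) =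
          shiftDownBy f.2 n a (hV f V h) x + shiftDownBy f.2 n a (hV f V h) y :=
        Tilde.tval_ext fun z hz => by simp [tval_shiftDownBy, smul_add]
      simp only [this, tmulSec, TensorProduct.add_tmul, map_add])
    (fun f V h r x => by
      have : shiftDownBy f.2 n a (hV f V h) (r • x) = r • shiftDownBy f.2 n a (hV f V h) x :=
        Tilde.tval_ext fun z hz => by
          rw [tval_shiftDownBy, Tilde.tval_smul, Tilde.tval_smul, tval_shiftDownBy, smul_comm]
      simp only [this, tmulSec_smul_left])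
    (fun f V W h h' x => by rw [res_tmulSec]; rfl)
    (fun f g V hf hg x => by
      obtain ⟨c, hc⟩ := (gen_pwSec (N := n * d) g.2 n rfl (hV g V hg)).exists_coeff le_rfl
        (pwSec (N := n * d) f.2 n rfl (hV f V hf))
      rw [Groth.PicAux.res_self] at hc
      have : c • shiftDownBy f.2 n a (hV f V hf) x = shiftDownBy g.2 n a (hV g V hg) x :=
        Tilde.tval_ext fun z hz => by
          rw [Tilde.tval_smul, tval_shiftDownBy, tval_shiftDownBy, coeff_val _ _ _ _ _ _ hc, smul_smul,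
            ← Units.val_mul]
          congr 2
          rw [mul_comm (funit z (hV f V hf z hz) ^ n), mul_assoc, ← zpow_add, add_neg_cancel,
            zpow_zero, mul_one]
      rw [hc, tmulSec_smul_right, ← tmulSec_smul_left, this])
  have : IsIso φ := isIso_of_cover hcov φ fun f V h => by
    have e : (φ.app V : Γ(GrTilde.tilde 𝒜 ℳ (a + n * d), V) → _) =
        (fun y : Γ(GrTilde.tilde 𝒜 ℳ a, V) => tmulSec y
          (Groth.PicAux.res _ h (pwSec (N := n * d) f.2 n rfl fun x hx => hx))) ∘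
          fun x => shiftDownBy f.2 n a (hV f V h) x := funext fun x => hφ f V h x
    rw [e]
    exact (Ega2Proj.tmulSec_bijective h (gen_pwSec _ _ _ _)).comp
      (Tilde.mulFrac_bijective _ _ _ _ fun x hx => notMem_pow x (hV f V h x hx) _)
  exact ⟨@asIso _ _ _ _ φ this⟩

end Shift

/-- `O(a) ⊗ O(nd) ≅ O(a + nd)` when the degree-`d` opens cover. -/
theorem nonempty_twist_tensor {d : ℕ} (hd : 0 < d)
    (hcov : ⨆ f : 𝒜 d, Proj.basicOpen 𝒜 (f : A) = ⊤) (a n : ℤ) :
    Nonempty (CohB1.tensorMod (Twist.twist 𝒜 a) (Twist.twist 𝒜 (n * d)) ≅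
      Twist.twist 𝒜 (a + n * d)) := by
  obtain ⟨e⟩ := nonempty_tilde_iso_tensor (ℳ := 𝒜) hd hcov a n
  exact ⟨e.symm⟩

theorem isInvertible_twist_mul {d : ℕ} (hcov : ⨆ f : 𝒜 d, Proj.basicOpen 𝒜 (f : A) = ⊤) (n : ℤ) :
    PicF.IsInvertible (Twist.twist 𝒜 (n * d)) :=
  isInvertible_of_gen_cover _ hcov
    (fun f => pwSec (N := n * d) f.2 n rfl fun _ hx => hx) fun _ => gen_pwSec _ _ _ _

/-- `O(d)` is ample when the degree-`d` opens cover. -/
theorem isAmple_twist_of_cover {d : ℕ} (hd : 0 < d) [CompactSpace (Proj 𝒜)]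
    (hcov : ⨆ f : 𝒜 d, Proj.basicOpen 𝒜 (f : A) = ⊤) : CohB1.IsAmple (Twist.twist 𝒜 (d : ℤ)) := by
  have hinv : PicF.IsInvertible (Twist.twist 𝒜 (d : ℤ)) := by
    have := isInvertible_twist_mul hcov 1
    rwa [one_mul] at this
  refine ⟨hinv, inferInstance, fun x => ?_⟩
  obtain ⟨f, hxf⟩ := Opens.mem_iSup.1 (hcov.ge (Set.mem_univ x) :
    x ∈ ⨆ f : 𝒜 d, Proj.basicOpen 𝒜 (f : A))
  refine ⟨0, homOfSection (powSec (globalSec f.2) 1), ?_⟩
  suffices h : CohB1.genLocus (CohB1.tensorPow (Twist.twist 𝒜 (d : ℤ)) 1)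
      (homOfSection (powSec (globalSec f.2) 1)) = Proj.basicOpen 𝒜 (f : A) by
    rw [h]
    exact ⟨hxf, Proj.isAffineOpen_basicOpen 𝒜 (f : A) f.2 hd⟩
  refine opens_ext_cover hcov fun g => ?_
  have hU : ∀ x : ProjectiveSpectrum 𝒜, x ∈ Proj.basicOpen 𝒜 (g : A) →
      (g : A) ∉ x.asHomogeneousIdeal := fun _ hx => hx
  have he := gen_pwSec (N := (d : ℤ)) g.2 1 (by simp) hU
  obtain ⟨c, hc⟩ := he.exists_coeff le_rfl
    (Groth.PicAux.res (Twist.twist 𝒜 (d : ℤ)) (le_top : Proj.basicOpen 𝒜 (g : A) ≤ ⊤) (globalSec f.2))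
  rw [Groth.PicAux.res_self] at hc
  have hc' : Groth.PicAux.res _ (le_top : Proj.basicOpen 𝒜 (g : A) ≤ ⊤)
      (gsec (homOfSection (powSec (globalSec f.2) 1))) =
        c • powSec (pwSec (N := (d : ℤ)) g.2 1 (by simp) hU) 1 := by
    rw [gsec, homOfSection_one, res_powSec, hc, powSec_smul, pow_one]
  have hval : ∀ (x : ProjectiveSpectrum 𝒜) (hx : x ∈ Proj.basicOpen 𝒜 (g : A)),
      algebraMap A (Twist.Loc 𝒜 x) f = (c.1 ⟨x, hx⟩).val *
        ((funit x (hU x hx) ^ (1 : ℤ) : (Twist.Loc 𝒜 x)ˣ) : Twist.Loc 𝒜 x) := fun x hx =>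
    (wval_globalSec f.2 x trivial).symm.trans ((congrArg (fun s => wval s x hx) hc).trans
      ((wval_smul _ _ x hx).trans (congrArg _ (wval_pwSec _ _ _ _ x hx))))
  rw [genLocus_inf_eq_basicOpen (he.pow 1) hc']
  ext x
  constructor
  · intro hx
    have hxg : x ∈ Proj.basicOpen 𝒜 (g : A) := (Proj 𝒜).basicOpen_le c hx
    refine ⟨?_, hxg⟩
    have hu := (mem_basicOpen_iff_isUnit_val c hxg).mp hx
    have h := hval x hxg
    have : IsUnit (algebraMap A (Twist.Loc 𝒜 x) f) := h ▸ hu.mul (Units.isUnit _)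
    haveI hprime : x.asHomogeneousIdeal.toIdeal.IsPrime := x.isPrime
    exact (IsLocalization.AtPrime.isUnit_to_map_iff _ x.asHomogeneousIdeal.toIdeal f.1).mp this
  · rintro ⟨hxf, hxg⟩
    refine (mem_basicOpen_iff_isUnit_val c hxg).mpr ?_
    have h := hval x hxg
    haveI hprime : x.asHomogeneousIdeal.toIdeal.IsPrime := x.isPrime
    have : IsUnit (algebraMap A (Twist.Loc 𝒜 x) f) :=
      (IsLocalization.AtPrime.isUnit_to_map_iff _ x.asHomogeneousIdeal.toIdeal f.1).mpr hxf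
    rw [h] at this
    exact isUnit_of_mul_isUnit_left this

/-- The twisting sheaves of a Noetherian graded ring are coherent. -/
theorem isCoh_twist_proj [IsNoetherianRing A] (n : ℤ) : Coh.IsCoh (Twist.twist 𝒜 n) := by
  classical
  haveI := isQuasicoherent_twist 𝒜 n
  refine ⟨inferInstance, QCohMod.isFT_of_affine_cover _ fun x => ?_⟩
  obtain ⟨d, g, hd, hg, hgx⟩ := exists_pos_notMem 𝒜 x
  refine ⟨Proj.basicOpen 𝒜 g, Proj.isAffineOpen_basicOpen 𝒜 g hg hd, hgx, ?_⟩
  let S : Set A := {c | ∃ (k i : ℕ), (i : ℤ) = k * d + n ∧ c ∈ 𝒜 i}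
  obtain ⟨T, hTS, hT⟩ := (Submodule.fg_span_iff_fg_span_finset_subset S).mp
    (IsNoetherian.noetherian (Submodule.span A S))
  choose k i hki hmem using fun c : T => hTS c.2
  let sec : T → Γ(Twist.twist 𝒜 n, Proj.basicOpen 𝒜 g) := fun c =>
    compFrac hg (k c) (i c) (hki c) c.1
  refine ⟨⟨Finset.univ.image sec, eq_top_iff.mpr fun s _ => ?_⟩⟩
  rw [Finset.coe_image, Finset.coe_univ, Set.image_univ]
  obtain ⟨l, j, b, hlj, hb⟩ := Tilde.exists_frac 𝒜 𝒜 n hd hg s
  have hs : s = compFrac hg l j hlj (b : A) := wval_ext fun y hy => by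
    rw [wval_compFrac, decompose_of_mem_same 𝒜 b.2]
    exact hb ⟨y, hy⟩
  have hbT : (b : A) ∈ Submodule.span A (T : Set A) :=
    hT.le (Submodule.subset_span ⟨l, j, hlj, b.2⟩)
  rw [hs]
  suffices key : ∀ c ∈ Submodule.span A (T : Set A), ∀ a : A,
      compFrac hg l j hlj (a * c) ∈
        Submodule.span Γ(Proj 𝒜, Proj.basicOpen 𝒜 g) (Set.range sec) by
    simpa using key (b : A) hbT 1
  intro c hc
  induction hc using Submodule.span_induction with
  | zero => intro a; rw [mul_zero, map_zero]; exact zero_mem _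
  | add p q _ _ hp hq => intro a; rw [mul_add, map_add]; exact add_mem (hp a) (hq a)
  | smul r p _ hp => intro a; rw [smul_eq_mul, ← mul_assoc]; exact hp _
  | mem c hc =>
    intro a
    let c' : T := ⟨c, hc⟩
    have hci : c ∈ 𝒜 (i c') := hmem c'
    have hdec : (decompose 𝒜 (a * c) j : A) =
        if i c' ≤ j then (decompose 𝒜 a (j - i c') : A) * c else 0 := by
      split_ifs with h
      · exact coe_decompose_mul_of_right_mem_of_le 𝒜 hci h
      · exact coe_decompose_mul_of_right_mem_of_not_le 𝒜 hci h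
    by_cases h : i c' ≤ j ∧ k c' ≤ l
    · have hdeg : j - i c' = (l - k c') * d := by
        have h1 := hki c'
        zify [h.1, h.2]
        linarith
      let φ : Γ(Proj 𝒜, Proj.basicOpen 𝒜 g) :=
        funFrac hg (l - k c') (decompose 𝒜 a (j - i c') : A) (hdeg ▸ SetLike.coe_mem _)
      have e : compFrac hg l j hlj (a * c) = φ • sec c' := wval_ext fun y hy => by
        refine Eq.trans ?_ (wval_smul φ (sec c') y hy).symm
        rw [wval_compFrac]
        simp only [sec, φ]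
        rw [funFrac_val, wval_compFrac, decompose_of_mem_same 𝒜 hci, lfrac_mul_lfrac]
        swap
        · exact y.asHomogeneousIdeal.toIdeal.primeCompl.mul_mem
            (fun h' => hy (y.isPrime.mem_of_pow_mem _ h')) (fun h' => hy (y.isPrime.mem_of_pow_mem _ h'))
        refine lfrac_congr y _ _ ?_
        rw [hdec, if_pos h.1, ← pow_add, Nat.sub_add_cancel h.2]
      rw [e]
      exact Submodule.smul_mem _ _ (Submodule.subset_span ⟨c', rfl⟩)
    · have h0 : i c' ≤ j → False := fun hle => h ⟨hle, by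
        by_contra hlt
        have h1 := hki c'
        have h2 : (l : ℤ) * d + d ≤ (k c' : ℤ) * d := by
          rw [← add_one_mul]
          exact mul_le_mul_of_nonneg_right (by exact_mod_cast (Nat.lt_of_not_le hlt)) (by positivity)
        omega⟩
      have e : compFrac hg l j hlj (a * c) = 0 := wval_ext fun y hy => by
        rw [wval_compFrac, hdec, if_neg h0]
        exact Localization.mk_zero _
      rw [e]
      exact zero_mem _

end Groth.PnCoh
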