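import Groth.Agent.PnCoh.OverAffine
import Groth.Agent.PnCoh.TwistQuot
import Groth.Agent.PicAux.UFDSpec
import Groth.Agent.Misc15.ProjPts
import Groth.Agent.Ega2Proj.RelAmple
import Groth.Agent.PnCoh.Cohomology
import Groth.Agent.Ega2Proj.TwistPow
import Groth.Agent.Ega2Proj.TildeQCoh
import Mathlib.RingTheory.Polynomial.UniqueFactorization
import Mathlib.Algebra.MvPolynomial.Nilpotent

/-!
# Invertible modules on projective space over a field are twisting sheaves
-/

set_option autoImplicit false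

universe u

open CategoryTheory CategoryTheory.Limits AlgebraicGeometry Opposite TopologicalSpace
open Groth.PicAux Groth.Ega2Proj

namespace Groth.PnCoh

section General

variable {X : Scheme.{u}}

/-- A trivialisation along an open immersion gives a basis over its range. -/
theorem exists_gen_of_restrict_iso {Y : Scheme.{u}} (j : Y ⟶ X) [IsOpenImmersion j] (M : X.Modules)
    (e : M.restrict j ≅ Coh.structureModule Y) : ∃ s : Γ(M, j.opensRange), Gen M j.opensRange s := by
  refine (nonempty_restrict_iso_iff j.opensRange).1 ?_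
  obtain ⟨e₀⟩ := pullback_structure_iso j.isoOpensRange.inv
  have hj : j.isoOpensRange.inv ≫ j = j.opensRange.ι := by
    rw [Iso.inv_comp_eq, Scheme.Hom.isoOpensRange_hom_ι]
  exact ⟨(Scheme.Modules.restrictFunctorIsoPullback j.opensRange.ι).app M ≪≫
    (Scheme.Modules.pullbackCongr hj.symm).app M ≪≫
    ((Scheme.Modules.pullbackComp j.isoOpensRange.inv j).app M).symm ≪≫
    (Scheme.Modules.pullback j.isoOpensRange.inv).mapIso
      (((Scheme.Modules.restrictFunctorIsoPullback j).app M).symm ≪≫ e) ≪≫ e₀⟩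

/-- An invertible module is trivial on a chart isomorphic to the spectrum of a factorial ring. -/
theorem exists_gen_chart (R : CommRingCat.{u}) [IsDomain R] [UniqueFactorizationMonoid R]
    (j : Spec R ⟶ X) [IsOpenImmersion j] (M : X.Modules) (hM : PicF.IsInvertible M) :
    ∃ s : Γ(M, j.opensRange), Gen M j.opensRange s := by
  let T : (Spec R).Opens := ⊤
  have hr : (T.ι ≫ j).opensRange = j.opensRange := by
    refine TopologicalSpace.Opens.ext ?_
    change Set.range (T.ι ≫ j).base = Set.range j.base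
    rw [Scheme.Hom.comp_base, TopCat.coe_comp, Set.range_comp, Scheme.Opens.range_ι]
    exact Set.image_univ
  obtain ⟨e⟩ := trivial_of_open_spec R T (M.restrict (T.ι ≫ j))
    (Ega2Proj.isInvertible_restrict (T.ι ≫ j) hM)
  obtain ⟨s, hs⟩ := exists_gen_of_restrict_iso (T.ι ≫ j) M e
  exact ⟨Groth.PicAux.res M hr.ge s, hs.res hr.ge⟩

end General

variable {n : ℕ} {k : Type u} [Field k]

local notation "gr" => CohB1.polyGrading n k

lemma X_mem_gr (i : Fin (n + 1)) : (MvPolynomial.X i : MvPolynomial (Fin (n + 1)) k) ∈ gr 1 :=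
  (MvPolynomial.mem_homogeneousSubmodule _ _).mpr (MvPolynomial.isHomogeneous_X k i)

lemma C_mem_gr (c : k) : (MvPolynomial.C c : MvPolynomial (Fin (n + 1)) k) ∈ gr 0 :=
  (MvPolynomial.mem_homogeneousSubmodule _ _).mpr (MvPolynomial.isHomogeneous_C _ c)

/-- The open `x_i ≠ 0`. -/
noncomputable abbrev DX (i : Fin (n + 1)) : (Proj gr).Opens := Proj.basicOpen gr (MvPolynomial.X i)

variable (n k) in
/-- The generic point of projective space. -/
noncomputable def genPt : ProjectiveSpectrum gr where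
  asHomogeneousIdeal := ⊥
  isPrime := by
    rw [HomogeneousIdeal.toIdeal_bot]
    exact Ideal.isPrime_bot
  not_irrelevant_le h := by
    have := h (HomogeneousIdeal.mem_irrelevant_of_mem gr one_pos (X_mem_gr (n := n) (k := k) 0))
    change (MvPolynomial.X 0 : MvPolynomial (Fin (n + 1)) k) ∈ (⊥ : Ideal _) at this
    exact MvPolynomial.X_ne_zero 0 ((Submodule.mem_bot _).mp this)

lemma notMem_genPt {a : MvPolynomial (Fin (n + 1)) k} (ha : a ≠ 0) :
    a ∉ (genPt n k).asHomogeneousIdeal := by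
  change a ∉ (⊥ : HomogeneousIdeal gr).toIdeal
  rw [HomogeneousIdeal.toIdeal_bot]
  exact fun h => ha ((Submodule.mem_bot _).mp h)

lemma genPt_mem (i : Fin (n + 1)) : genPt n k ∈ DX i := notMem_genPt (MvPolynomial.X_ne_zero i)

lemma aval_genPt_injective : Function.Injective (aval (genPt n k)) := by
  refine IsLocalization.injective (Twist.Loc gr (genPt n k))
    (M := (genPt n k).asHomogeneousIdeal.toIdeal.primeCompl) fun a ha => ?_
  refine mem_nonZeroDivisors_of_ne_zero fun h => ha ?_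
  rw [h]
  exact zero_mem _

/-- The unit of the local ring at the generic point given by a variable. -/
noncomputable abbrev gX (i : Fin (n + 1)) : (Twist.Loc gr (genPt n k))ˣ :=
  funit (genPt n k) (genPt_mem (k := k) i)

/-- Monomials with integral exponents are independent. -/
theorem zpow_prod_eq_one {c : k} {e : Fin (n + 1) → ℤ}
    (h : aval (genPt n k) (MvPolynomial.C c) * ((∏ l, gX l ^ e l : (Twist.Loc gr (genPt n k))ˣ) : Twist.Loc gr (genPt n k)) = 1) :
    c = 1 ∧ e = 0 := by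
  classical
  let N : Fin (n + 1) →₀ ℕ := Finsupp.equivFunOnFinite.symm fun l => (e l).natAbs
  let P : Fin (n + 1) →₀ ℕ := Finsupp.equivFunOnFinite.symm fun l => (e l + (e l).natAbs).toNat
  have hmon : ∀ (Q : Fin (n + 1) →₀ ℕ) (a : k),
      aval (genPt n k) (MvPolynomial.monomial Q a) = aval (genPt n k) (MvPolynomial.C a) *
        ((∏ l, gX l ^ (Q l : ℤ) : (Twist.Loc gr (genPt n k))ˣ) : Twist.Loc gr (genPt n k)) := fun Q a => by
    rw [MvPolynomial.monomial_eq, aval, map_mul, Finsupp.prod_fintype _ _ (fun _ => pow_zero _),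
      map_prod, Units.coe_prod]
    congr 1
    refine Finset.prod_congr rfl fun l _ => ?_
    rw [zpow_natCast, Units.val_pow_eq_pow_val, map_pow]
    rfl
  have hPe : ∀ l, ((P l : ℕ) : ℤ) = e l + (N l : ℤ) := fun l => by
    simp only [P, N, Finsupp.equivFunOnFinite_symm_apply_apply]
    omega
  have key : MvPolynomial.monomial P c = MvPolynomial.monomial N (1 : k) := by
    refine aval_genPt_injective ?_
    rw [hmon, hmon, show aval (genPt n k) (MvPolynomial.C (1 : k)) = 1 by simp, one_mul]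
    have hP : (∏ l, gX (k := k) l ^ (P l : ℤ)) = (∏ l, gX l ^ e l) * ∏ l, gX l ^ (N l : ℤ) := by
      rw [← Finset.prod_mul_distrib]
      exact Finset.prod_congr rfl fun l _ => by rw [hPe, zpow_add]
    rw [hP, Units.val_mul, ← mul_assoc, h, one_mul]
  rcases MvPolynomial.monomial_eq_monomial_iff _ _ _ _ |>.mp key with ⟨hPN, hc⟩ | ⟨-, h1⟩
  · refine ⟨hc, funext fun l => ?_⟩
    have := hPe l
    rw [hPN] at this
    simpa using this
  · exact absurd h1 one_ne_zero

lemma exists_eq_of_dvd {i j : Fin (n + 1)} {a b : ℕ} {p : MvPolynomial (Fin (n + 1)) k}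
    (h : p ∣ MvPolynomial.X i ^ a * MvPolynomial.X j ^ b) :
    ∃ (c : k) (a' b' : ℕ), c ≠ 0 ∧
      p = MvPolynomial.C c * (MvPolynomial.X i ^ a' * MvPolynomial.X j ^ b') := by
  obtain ⟨p₁, p₂, h₁, h₂, rfl⟩ := exists_dvd_and_dvd_of_dvd_mul h
  obtain ⟨a', -, ha⟩ := (dvd_prime_pow (MvPolynomial.X_prime (R := k) (i := i)) a).mp h₁
  obtain ⟨b', -, hb⟩ := (dvd_prime_pow (MvPolynomial.X_prime (R := k) (i := j)) b).mp h₂
  obtain ⟨u, hu⟩ := ha.symm
  obtain ⟨v, hv⟩ := hb.symm
  obtain ⟨c, hc, hcu⟩ := MvPolynomial.isUnit_iff_eq_C_of_isReduced.mp u.isUnit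
  obtain ⟨d, hd, hdv⟩ := MvPolynomial.isUnit_iff_eq_C_of_isReduced.mp v.isUnit
  refine ⟨c * d, a', b', mul_ne_zero hc.ne_zero hd.ne_zero, ?_⟩
  rw [← hu, ← hv, hcu, hdv, map_mul]
  ring

/-- Units on `x_i x_j ≠ 0` are monomials. -/
theorem exists_unit_val {i j : Fin (n + 1)} (u : Γ(Proj gr, DX (k := k) i ⊓ DX j)) (hu : IsUnit u) :
    ∃ (c : k) (m : ℤ), c ≠ 0 ∧ ∀ (x : ProjectiveSpectrum gr) (hx : x ∈ DX i ⊓ DX j),
      fval u x hx = aval x (MvPolynomial.C c) *
        ((funit x hx.2 ^ m * funit x hx.1 ^ (-m) : (Twist.Loc gr x)ˣ) : Twist.Loc gr x) := by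
  let f : MvPolynomial (Fin (n + 1)) k := MvPolynomial.X i * MvPolynomial.X j
  have hf : f ∈ gr 2 := SetLike.mul_mem_graded (X_mem_gr i) (X_mem_gr j)
  have hU : Proj.basicOpen gr f = DX i ⊓ DX j := Proj.basicOpen_mul gr _ _
  obtain ⟨w, hw⟩ := hu.exists_right_inv
  obtain ⟨a, p, hp, hpv⟩ := exists_fun_eq_frac gr two_pos hf (resX (Proj gr) hU.le u)
  obtain ⟨b, q, -, hqv⟩ := exists_fun_eq_frac gr two_pos hf (resX (Proj gr) hU.le w)
  have hval : ∀ (x : ProjectiveSpectrum gr) (hx : x ∈ DX i ⊓ DX j),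
      fval u x hx * aval x (f ^ a) = aval x p := fun x hx => by
    have hx' : x ∈ Proj.basicOpen gr f := hU.ge hx
    have h1 : fval u x hx = lfrac gr x p (h := f ^ a) (fun h => hx' (x.isPrime.mem_of_pow_mem a h)) :=
      hpv x hx'
    rw [h1]
    exact lfrac_mul_aval x p _
  have hg : genPt n k ∈ DX i ⊓ DX (k := k) j := ⟨genPt_mem i, genPt_mem j⟩
  have hpq : p * q = MvPolynomial.X i ^ (a + b) * MvPolynomial.X j ^ (a + b) := by
    refine aval_genPt_injective ?_
    have h1 := hval _ hg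
    have h2 : fval w (genPt n k) hg * aval (genPt n k) (f ^ b) = aval (genPt n k) q := by
      have hx' : genPt n k ∈ Proj.basicOpen gr f := hU.ge hg
      have h1 : fval w (genPt n k) hg = lfrac gr (genPt n k) q (h := f ^ b)
          (fun h => hx' ((genPt n k).isPrime.mem_of_pow_mem b h)) := hqv _ hx'
      rw [h1]
      exact lfrac_mul_aval _ q _
    rw [← mul_pow]
    calc aval (genPt n k) (p * q) = aval (genPt n k) p * aval (genPt n k) q := map_mul _ _ _
      _ = (fval u (genPt n k) hg * fval w (genPt n k) hg) *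
          (aval (genPt n k) (f ^ a) * aval (genPt n k) (f ^ b)) := by
        rw [← h1, ← h2, mul_mul_mul_comm]
      _ = aval (genPt n k) ((MvPolynomial.X i * MvPolynomial.X j) ^ (a + b)) := by
        rw [← fval_mul, hw, fval_one, one_mul, pow_add]
        exact (map_mul _ _ _).symm
  obtain ⟨c, a', b', hc, rfl⟩ := exists_eq_of_dvd ⟨q, hpq.symm⟩
  have hdeg : a' + b' = a * 2 := by
    have h1 := (MvPolynomial.mem_homogeneousSubmodule _ _).mp hp
    have h2 : (MvPolynomial.C c * (MvPolynomial.X i ^ a' * MvPolynomial.X j ^ b') :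
        MvPolynomial (Fin (n + 1)) k).IsHomogeneous (0 + (1 * a' + 1 * b')) :=
      (MvPolynomial.isHomogeneous_C _ c).mul
        (((MvPolynomial.isHomogeneous_X k i).pow a').mul ((MvPolynomial.isHomogeneous_X k j).pow b'))
    have h3 : (MvPolynomial.C c * (MvPolynomial.X i ^ a' * MvPolynomial.X j ^ b') :
        MvPolynomial (Fin (n + 1)) k) ≠ 0 :=
      mul_ne_zero (by simpa using hc) (mul_ne_zero (pow_ne_zero _ (MvPolynomial.X_ne_zero i))
        (pow_ne_zero _ (MvPolynomial.X_ne_zero j)))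
    have := h2.inj_right h1 h3
    omega
  refine ⟨c, (b' : ℤ) - a, hc, fun x hx => ?_⟩
  have h1 := hval x hx
  have hfa : aval x (f ^ a) =
      ((funit x hx.1 ^ (a : ℤ) * funit x hx.2 ^ (a : ℤ) : (Twist.Loc gr x)ˣ) : Twist.Loc gr x) := by
    simp only [f, mul_pow, aval, map_mul, map_pow, zpow_natCast, Units.val_mul,
      Units.val_pow_eq_pow_val, coe_funit]
  have hp' : aval x (MvPolynomial.C c * (MvPolynomial.X i ^ a' * MvPolynomial.X j ^ b')) =
      aval x (MvPolynomial.C c) *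
      ((funit x hx.1 ^ (a' : ℤ) * funit x hx.2 ^ (b' : ℤ) : (Twist.Loc gr x)ˣ) : Twist.Loc gr x) := by
    simp only [aval, map_mul, map_pow, zpow_natCast, Units.val_mul, Units.val_pow_eq_pow_val,
      coe_funit]
  rw [hfa, hp', ← Units.eq_mul_inv_iff_mul_eq, mul_assoc, ← Units.val_mul] at h1
  rw [h1]
  congr 2
  rw [mul_inv, mul_mul_mul_comm, ← zpow_neg, ← zpow_neg, ← zpow_add, ← zpow_add, mul_comm]
  congr 2 <;> omega

private lemma commGroup_aux {G : Type*} [CommGroup G] (a b c : G) (p q r : ℤ) :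
    b ^ p * c ^ (-p) * (a ^ r * b ^ (-r) * (a ^ q * c ^ (-q)))⁻¹ *
      (a ^ (r + q) * b ^ (-r - p) * c ^ (p - q)) = 1 := by
  rw [mul_right_comm, mul_inv_eq_one,
    show b ^ p * c ^ (-p) * (a ^ (r + q) * b ^ (-r - p) * c ^ (p - q)) =
      a ^ (r + q) * (b ^ p * b ^ (-r - p)) * (c ^ (-p) * c ^ (p - q)) by ac_rfl,
    ← zpow_add b, ← zpow_add c, zpow_add a, show p + (-r - p) = -r by ring,
    show -p + (p - q) = -q by ring]
  ac_rfl

private lemma commGroup_aux₂ {G : Type*} [CommGroup G] (a b c : G) (r q : ℤ) :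
    a ^ (r + q) * b ^ (-r - q) * (b ^ q * c ^ (-q)) = a ^ r * b ^ (-r) * (a ^ q * c ^ (-q)) := by
  rw [zpow_add a, sub_eq_add_neg, zpow_add b,
    show a ^ r * a ^ q * (b ^ (-r) * b ^ (-q)) * (b ^ q * c ^ (-q)) =
      a ^ r * b ^ (-r) * (a ^ q * c ^ (-q)) * (b ^ (-q) * b ^ q) by ac_rfl,
    ← zpow_add b, neg_add_cancel, zpow_zero, mul_one]

/-- Every invertible module on `P^n_k` has bases on the standard opens. -/
theorem exists_gen_stdOpen (M : (Proj gr).Modules) (hM : PicF.IsInvertible M) (i : Fin (n + 1)) :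
    ∃ s : Γ(M, DX i), Gen M (DX i) s := by
  let j : Spec (CommRingCat.of (MvPolynomial (Fin n) k)) ⟶ CohB1.ProjSpace n k :=
    Misc15.ProjPts.chart i k ≫ (overIso n k).inv
  have hr : j.opensRange = DX i := by
    refine TopologicalSpace.Opens.ext (Set.ext fun x => ?_)
    change x ∈ Set.range j.base ↔ _
    have h := Misc15.ProjPts.chart_mem_iff i k ((overIso n k).hom x)
    have e : x ∈ Set.range j.base ↔
        (overIso n k).hom x ∈ Set.range (Misc15.ProjPts.chart (n := n) i k).base := by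
      constructor
      · rintro ⟨y, rfl⟩
        refine ⟨y, ?_⟩
        change _ = ((Misc15.ProjPts.chart i k ≫ (overIso n k).inv) ≫ (overIso n k).hom).base y
        rw [Category.assoc, Iso.inv_hom_id, Category.comp_id]
      · rintro ⟨y, hy⟩
        refine ⟨y, ?_⟩
        change (overIso n k).inv.base ((Misc15.ProjPts.chart i k).base y) = x
        rw [hy]
        change ((overIso n k).hom ≫ (overIso n k).inv).base x = x
        rw [Iso.hom_inv_id]
        rfl
    refine e.trans (h.trans ?_)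
    have e2 : Misc15.ProjPts.toZ k ((overIso n k).hom x) = toInt n k x := by
      rw [← overIso_hom_fst n k]
      rfl
    rw [e2]
    change toInt n k x ∈ Proj.basicOpen _ (MvPolynomial.X i) ↔ x ∈ Proj.basicOpen gr (MvPolynomial.X i)
    have e3 : toInt n k ⁻¹ᵁ Proj.basicOpen (CohB1.polyGrading n (ULift.{u} ℤ)) (MvPolynomial.X i) =
        Proj.basicOpen gr (MvPolynomial.X i) := by
      refine (Proj.map_preimage_basicOpen _ _ _).trans ?_
      congr 1
      exact MvPolynomial.map_X _ i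
    exact ⟨fun h => e3.le h, fun h => e3.ge h⟩
  obtain ⟨s, hs⟩ := exists_gen_chart _ j M hM
  exact ⟨Groth.PicAux.res M hr.ge s, hs.res hr.ge⟩

set_option maxHeartbeats 2000000 in
/-- Invertible modules on projective space over a field are twisting sheaves. -/
theorem exists_iso_twist_of_isInvertible (hn : 1 ≤ n) (M : (Proj gr).Modules)
    (hM : PicF.IsInvertible M) : ∃ d : ℤ, Nonempty (M ≅ Twist.twist gr d) := by
  classical
  choose s hs using exists_gen_stdOpen (n := n) (k := k) M hM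
  -- coefficients against the first basis
  choose r hr using fun i => (hs 0).exists_coeff (inf_le_right : DX i ⊓ DX 0 ≤ DX 0)
    (Groth.PicAux.res M (inf_le_left : DX i ⊓ DX 0 ≤ DX i) (s i))
  have hru : ∀ i, IsUnit (r i) := fun i =>
    ((hs 0).res inf_le_right).isUnit_of_smul (hr i ▸ (hs i).res inf_le_left)
  choose c m hc hv using fun i => exists_unit_val (i := i) (j := 0) (r i) (hru i)
  choose a ha using fun i => exists_fun_frac (C_mem_gr (n := n) (c i)⁻¹)
    (SetLike.GradedOne.one_mem : (1 : MvPolynomial (Fin (n + 1)) k) ∈ gr 0) (DX i)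
    fun x _ h => x.isPrime.ne_top ((Ideal.eq_top_iff_one _).mpr h)
  have hav : ∀ i x hx, fval (a i) x hx = aval x (MvPolynomial.C (c i)⁻¹) := fun i x hx => by
    rw [ha i x hx]
    exact Localization.mk_one_eq_algebraMap _
  have hau : ∀ i, IsUnit (a i) := fun i => by
    obtain ⟨b, hb⟩ := exists_fun_frac (C_mem_gr (n := n) (c i))
      (SetLike.GradedOne.one_mem : (1 : MvPolynomial (Fin (n + 1)) k) ∈ gr 0) (DX i)
      fun x _ h => x.isPrime.ne_top ((Ideal.eq_top_iff_one _).mpr h)
    refine IsUnit.of_mul_eq_one b (Ega2Proj.fun_ext fun x hx => ?_)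
    change fval (a i * b) x hx = fval 1 x hx
    rw [fval_mul, fval_one, hav]
    refine (congrArg (_ * ·) ((hb x hx).trans (Localization.mk_one_eq_algebraMap _))).trans ?_
    rw [← map_mul, ← map_mul, inv_mul_cancel₀ (hc i), map_one, map_one]
  let t : ∀ i, Γ(M, DX (k := k) i) := fun i => a i • s i
  have ht : ∀ i, Gen M (DX i) (t i) := fun i => (hs i).smul_unit (hau i)
  -- exponents at the generic point
  obtain ⟨i₁, hi₁⟩ : ∃ i : Fin (n + 1), i ≠ 0 := ⟨⟨1, by omega⟩, fun h => by simpa using congrArg Fin.val h⟩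
  let d : ℤ := -(m i₁)
  let D : Fin (n + 1) → ℤ := fun i => if i = 0 then d else -(m i)
  have hρ : ∀ i (x : ProjectiveSpectrum gr) (hx : x ∈ DX i ⊓ DX 0),
      fval (resX _ (inf_le_left : DX i ⊓ DX 0 ≤ DX i) (a i) * r i) x hx =
        ((funit x hx.1 ^ D i * funit x hx.2 ^ (-D i) : (Twist.Loc gr x)ˣ) : Twist.Loc gr x) := by
    intro i x hx
    rw [fval_mul, hv i x hx, ← mul_assoc]
    have e : fval (resX _ (inf_le_left : DX i ⊓ DX 0 ≤ DX i) (a i)) x hx *
        aval x (MvPolynomial.C (c i)) = 1 := by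
      change fval (a i) x hx.1 * _ = 1
      rw [hav, aval, ← map_mul, ← map_mul, inv_mul_cancel₀ (hc i), map_one, map_one]
    rw [e, one_mul]
    congr 1
    by_cases h : i = 0
    · subst h
      change funit x hx.2 ^ m 0 * funit x hx.1 ^ (-m 0) = funit x hx.1 ^ D 0 * funit x hx.2 ^ (-D 0)
      rw [← zpow_add, ← zpow_add]
      simp
    · simp only [D, if_neg h, neg_neg]
      rw [mul_comm]
  have hrel : ∀ i, Groth.PicAux.res M (inf_le_left : DX i ⊓ DX 0 ≤ DX i) (t i) =
      (resX _ (inf_le_left : DX i ⊓ DX 0 ≤ DX i) (a i) * r i) •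
        Groth.PicAux.res M (inf_le_right : DX i ⊓ DX 0 ≤ DX 0) (s 0) := fun i => by
    rw [res_smul, hr i, mul_smul]
  -- coefficients between the normalised bases
  have hpair : ∀ i j (v : Γ(Proj gr, DX i ⊓ DX j)),
      Groth.PicAux.res M (inf_le_left : DX i ⊓ DX j ≤ DX i) (t i) =
        v • Groth.PicAux.res M (inf_le_right : DX i ⊓ DX j ≤ DX j) (t j) →
      fval v (genPt n k) ⟨genPt_mem i, genPt_mem j⟩ *
        ((gX j ^ D j * gX 0 ^ (-D j) : (Twist.Loc gr (genPt n k))ˣ) : Twist.Loc gr (genPt n k)) =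
        ((gX i ^ D i * gX 0 ^ (-D i) : (Twist.Loc gr (genPt n k))ˣ) : Twist.Loc gr (genPt n k)) := by
    intro i j v hv'
    let W : (Proj gr).Opens := DX i ⊓ DX j ⊓ DX 0
    have hW : genPt n k ∈ W := ⟨⟨genPt_mem i, genPt_mem j⟩, genPt_mem 0⟩
    have hWi : W ≤ DX i ⊓ DX 0 := inf_le_inf_right _ inf_le_left
    have hWj : W ≤ DX j ⊓ DX 0 := inf_le_inf_right _ inf_le_right
    have h1 := congrArg (Groth.PicAux.res M hWi) (hrel i)
    have h2 := congrArg (Groth.PicAux.res M hWj) (hrel j)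
    have h3 := congrArg (Groth.PicAux.res M (inf_le_left : W ≤ DX i ⊓ DX j)) hv'
    simp only [res_smul, res_res] at h1 h2 h3
    rw [h1, h2, ← mul_smul] at h3
    have h4 := congrArg (fun z => fval z (genPt n k) hW) ((hs 0).smul_inj inf_le_right h3)
    simp only [fval_mul] at h4
    change fval (resX _ inf_le_left (a i) * r i) (genPt n k) (hWi hW) =
      fval v (genPt n k) ⟨genPt_mem i, genPt_mem j⟩ *
        fval (resX _ inf_le_left (a j) * r j) (genPt n k) (hWj hW) at h4
    rw [hρ, hρ] at h4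
    exact h4.symm
  have hD : ∀ i j, i ≠ j → ∀ v : Γ(Proj gr, DX i ⊓ DX j),
      Groth.PicAux.res M (inf_le_left : DX i ⊓ DX j ≤ DX i) (t i) =
        v • Groth.PicAux.res M (inf_le_right : DX i ⊓ DX j ≤ DX j) (t j) →
      D i = D j ∨ i = 0 ∨ j = 0 := fun i j hij v hv' => by
    by_cases hi0 : i = 0
    · exact Or.inr (Or.inl hi0)
    by_cases hj0 : j = 0
    · exact Or.inr (Or.inr hj0)
    refine Or.inl ?_
    have hvu : IsUnit v := ((ht j).res inf_le_right).isUnit_of_smul (hv' ▸ (ht i).res inf_le_left)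
    obtain ⟨c', m', -, hv''⟩ := exists_unit_val v hvu
    have h := hpair i j v hv'
    rw [hv'' (genPt n k) ⟨genPt_mem i, genPt_mem j⟩, mul_assoc, ← Units.val_mul, ← Units.eq_mul_inv_iff_mul_eq] at h
    let e : Fin (n + 1) → ℤ :=
      Pi.single j (m' + D j) + Pi.single i (-m' - D i) + Pi.single 0 (D i - D j)
    have he : (∏ l, gX (k := k) l ^ e l) =
        gX j ^ (m' + D j) * gX i ^ (-m' - D i) * gX 0 ^ (D i - D j) := by
      have hs' : ∀ (q : Fin (n + 1)) (z : ℤ),
          (∏ l, gX (k := k) l ^ (Pi.single q z : Fin (n + 1) → ℤ) l) = gX q ^ z := fun q z => by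
        rw [Finset.prod_eq_single q]
        · rw [Pi.single_eq_same]
        · intro b _ hb; rw [Pi.single_eq_of_ne hb, zpow_zero]
        · simp
      simp only [e, Pi.add_apply, zpow_add, Finset.prod_mul_distrib, hs']
    have h1 : aval (genPt n k) (MvPolynomial.C c') *
        ((∏ l, gX l ^ e l : (Twist.Loc gr (genPt n k))ˣ) : Twist.Loc gr (genPt n k)) = 1 := by
      rw [he, h, ← Units.val_mul, ← Units.val_mul, Units.val_eq_one]
      exact commGroup_aux _ _ _ _ _ _
    have h2 := congrFun (zpow_prod_eq_one h1).2 0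
    simp only [e, Pi.add_apply, Pi.zero_apply, Pi.single_eq_same,
      Pi.single_eq_of_ne (Ne.symm hi0), Pi.single_eq_of_ne (Ne.symm hj0)] at h2
    omega
  have hDd : ∀ i, D i = d := fun i => by
    by_cases h : i = 0
    · simp [D, h]
    by_cases h' : i = i₁
    · simp [D, h', hi₁, d]
    obtain ⟨v, hv'⟩ := (ht i₁).exists_coeff (inf_le_right : DX i ⊓ DX i₁ ≤ DX i₁)
      (Groth.PicAux.res M (inf_le_left : DX i ⊓ DX i₁ ≤ DX i) (t i))
    rcases hD i i₁ h' v hv' with h2 | h2 | h2
    · rw [h2]; simp [D, hi₁, d]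
    · exact absurd h2 h
    · exact absurd h2 hi₁
  refine ⟨d, ?_⟩
  refine Exists.elim (exists_iso_of_gen (M := Twist.twist gr d) (U := fun i => DX i)
    (by
      refine Proj.iSup_basicOpen_eq_top gr _ ?_
      exact irrelevant_le_span_X n k |>.trans (Ideal.span_mono (by rintro _ ⟨i, rfl⟩; exact ⟨_, rfl⟩)))
    t ht (fun i => pwSec (N := d) (X_mem_gr i) d (by simp) fun _ hx => hx)
    (fun i => gen_pwSec _ _ _ _) ?_) fun φ _ => ⟨φ⟩
  intro i j v hv'
  refine wval_ext fun x hx => ?_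
  refine Eq.trans ?_ (wval_smul v _ x hx).symm
  change wval (pwSec (N := d) (X_mem_gr i) d (by simp) fun _ (hx : _ ∈ DX i) => hx) x hx.1 =
    fval v x hx * wval (pwSec (N := d) (X_mem_gr j) d (by simp) fun _ (hx : _ ∈ DX j) => hx) x hx.2
  refine (wval_pwSec (X_mem_gr i) d _ _ x hx.1).trans ?_
  refine Eq.trans ?_ (congrArg (fval v x hx * ·) (wval_pwSec (X_mem_gr j) d _ _ x hx.2).symm)
  by_cases hij : i = j
  · subst hij
    have hv1 : v = 1 := ((ht i).res inf_le_right).smul_inj le_rfl (by simpa using hv'.symm)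
    rw [hv1, fval_one, one_mul]
  have hvu : IsUnit v := ((ht j).res inf_le_right).isUnit_of_smul (hv' ▸ (ht i).res inf_le_left)
  obtain ⟨c', m', -, hv''⟩ := exists_unit_val v hvu
  have h := hpair i j v hv'
  rw [hv'' (genPt n k) ⟨genPt_mem i, genPt_mem j⟩, hDd, hDd, mul_assoc, ← Units.val_mul] at h
  let e : Fin (n + 1) → ℤ := Pi.single j (m' + d) + Pi.single i (-m' - d)
  have he : (∏ l, gX (k := k) l ^ e l) = gX j ^ (m' + d) * gX i ^ (-m' - d) := by
    have hs' : ∀ (q : Fin (n + 1)) (z : ℤ),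
        (∏ l, gX (k := k) l ^ (Pi.single q z : Fin (n + 1) → ℤ) l) = gX q ^ z := fun q z => by
      rw [Finset.prod_eq_single q]
      · rw [Pi.single_eq_same]
      · intro b _ hb; rw [Pi.single_eq_of_ne hb, zpow_zero]
      · simp
    simp only [e, Pi.add_apply, zpow_add, Finset.prod_mul_distrib, hs']
  have h1 : aval (genPt n k) (MvPolynomial.C c') *
      ((∏ l, gX l ^ e l : (Twist.Loc gr (genPt n k))ˣ) : Twist.Loc gr (genPt n k)) = 1 := by
    rw [he]
    refine (Units.mul_left_inj (gX i ^ d * gX 0 ^ (-d))).mp ?_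
    rw [one_mul, mul_assoc, ← Units.val_mul]
    refine Eq.trans ?_ h
    congr 2
    exact commGroup_aux₂ _ _ _ _ _
  obtain ⟨rfl, he0⟩ := zpow_prod_eq_one h1
  have h2 := congrFun he0 j
  simp only [e, Pi.add_apply, Pi.zero_apply, Pi.single_eq_same, Pi.single_eq_of_ne (Ne.symm hij)] at h2
  rw [hv'' x hx, show m' = -d by omega, map_one, aval, map_one, one_mul, ← Units.val_mul]
  congr 1
  rw [mul_right_comm, ← zpow_add, neg_add_cancel, zpow_zero, one_mul]
  exact (congrArg _ (neg_neg d)).symm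

end Groth.PnCoh
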