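import Groth.Agent.PnCoh.PicProjSpace
import Groth.Agent.PnCoh.GlobalFun
import Groth.Agent.PnCoh.SectionsExact
import Groth.Agent.PnCoh.VanishingClosed
import Groth.Agent.PicAux.Powers

/-!
# Extensions of twisting sheaves on projective space split in dimension at least two
-/

set_option autoImplicit false

universe u

open CategoryTheory CategoryTheory.Limits AlgebraicGeometry Opposite TopologicalSpace
open Groth.PicAux

namespace Groth.PnCoh

/-- The irrelevant ideal of the polynomial grading is generated in degree one. -/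
theorem irrelevant_le_span_one (n : ℕ) (k : Type u) [CommRing k] :
    (HomogeneousIdeal.irrelevant (CohB1.polyGrading n k)).toIdeal ≤
      Ideal.span (CohB1.polyGrading n k 1 : Set (MvPolynomial (Fin (n + 1)) k)) :=
  (irrelevant_le_span_X n k).trans (Ideal.span_mono (by
    rintro _ ⟨i, rfl⟩
    exact (MvPolynomial.mem_homogeneousSubmodule _ _).mpr (MvPolynomial.isHomogeneous_X k _)))

/-- An extension of `O(b)` by `O(a)` on projective space of dimension at least two splits. -/
theorem nonempty_splitting_twists {n : ℕ} (hn : 2 ≤ n) (k : Type u) [Field k] {a b : ℤ}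
    {S : ShortComplex (CohB1.ProjSpace n k).Modules} (hS : S.ShortExact)
    (ha : Nonempty (S.X₁ ≅ Twist.twistProjSpace n k a))
    (hb : Nonempty (S.X₃ ≅ Twist.twistProjSpace n k b)) : Nonempty S.Splitting := by
  obtain ⟨α⟩ := ha
  obtain ⟨β⟩ := hb
  have hgen := irrelevant_le_span_one n k
  let L : (CohB1.ProjSpace n k).Modules := Twist.twist (CohB1.polyGrading n k) (-b)
  have hL : PicF.IsInvertible L := Ega2Proj.isInvertible_twist hgen (-b)
  haveI := isEquivalence_tensorRightMod_of_isInvertible hL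
  let F := DCoh.tensorRightMod L
  have hT : (S.map F).ShortExact := shortExact_tensorRightMod hL hS
  obtain ⟨ta⟩ := Ega2Proj.nonempty_tensor_iso hgen a (-b)
  obtain ⟨tb⟩ := Ega2Proj.nonempty_tensor_iso hgen b (-b)
  obtain ⟨z⟩ := nonempty_twist_zero_iso (CohB1.polyGrading n k)
  let i₁ : F.obj S.X₁ ≅ Twist.twistProjSpace n k (a + -b) := PicGrp.tensorModIso α (Iso.refl _) ≪≫ ta
  let i₃ : F.obj S.X₃ ≅ Coh.structureModule (CohB1.ProjSpace n k) :=
    PicGrp.tensorModIso β (Iso.refl _) ≪≫ tb ≪≫ eqToIso (by rw [add_neg_cancel]) ≪≫ z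
  let D : ShortComplex (CohB1.ProjSpace n k).Modules :=
    ShortComplex.mk (S.map F).g (0 : (S.map F).X₃ ⟶ (S.map F).X₃) comp_zero
  have hD : D.Exact := (D.exact_iff_epi rfl).mpr hT.epi_g
  let e : Twist.twistProjSpace n k (a + -b) ≅ kernel (S.map F).g :=
    i₁.symm ≪≫ (IsLimit.conePointUniqueUpToIso hT.fIsKernel (limit.isLimit _))
  have hH : Subsingleton (Coh.HH _ (kernel D.f) 1) :=
    subsingleton_HH_of_iso (CohB1.ProjSpace.toSpec n k) e
      (subsingleton_HH_twist (n := n) (R := k) (a + -b) 1 (by omega) (by omega))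
  obtain ⟨x, hx⟩ := ((exact_app_top_of_subsingleton (CohB1.ProjSpace.toSpec n k) D hD hH)
    (i₃.inv.app ⊤ (oneSec _ ⊤))).1 rfl
  have hσ : homOfSection x ≫ (S.map F).g = i₃.inv := hom_structure_ext (by
    change (S.map F).g.app ⊤ ((homOfSection x).app ⊤ (oneSec _ ⊤)) = _
    rw [homOfSection_one]
    exact hx)
  obtain ⟨s, hs⟩ := F.map_surjective (i₃.hom ≫ homOfSection x)
  refine ⟨ShortComplex.Splitting.ofExactOfSection S hS.exact s (F.map_injective ?_) hS.mono_f⟩
  rw [F.map_comp, hs, F.map_id, Category.assoc]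
  exact (congrArg (i₃.hom ≫ ·) hσ).trans i₃.hom_inv_id

end Groth.PnCoh
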