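import Groth.Agent.PnCoh.Finite
import Groth.Agent.PicAux.Powers
import Groth.Agent.QCohMod.Tensor

/-!
# Serre vanishing on projective space
-/

set_option autoImplicit false

universe u

open CategoryTheory CategoryTheory.Limits AlgebraicGeometry

namespace Groth.PnCoh

section General

variable {R A : Type u} [CommRing R] [CommRing A] [Algebra R A] (𝒜 : ℕ → Submodule R A)
  [GradedAlgebra 𝒜] [IsNoetherianRing A]

/-- Serre vanishing on `Proj` from vanishing of the twisting sheaves. -/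
theorem exists_subsingleton_of_twists
    (hgen : (HomogeneousIdeal.irrelevant 𝒜).toIdeal ≤ Ideal.span (𝒜 1 : Set A))
    [IsLocallyNoetherian (Proj 𝒜)] {B : Type u} [CommRing B]
    (f : Proj 𝒜 ⟶ Spec (CommRingCat.of B)) (r : ℕ)
    (hbig : ∀ (M : (Proj 𝒜).Modules) (q : ℕ), M.IsQuasicoherent → r < q →
      Subsingleton (Coh.HH (Proj 𝒜) M q))
    (c : ℤ) (htw : ∀ (e : ℤ) (q : ℕ), 0 < q → c ≤ e →
      Subsingleton (Coh.HH (Proj 𝒜) (Twist.twist 𝒜 e) q))
    (hcoh : ∀ e : ℤ, Coh.IsCoh (Twist.twist 𝒜 e))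
    (hinv : ∀ e : ℤ, PicF.IsInvertible (Twist.twist 𝒜 e))
    (F : (Proj 𝒜).Modules) (hF : Coh.IsCoh F) :
    ∃ d₀ : ℤ, ∀ d : ℤ, d₀ ≤ d → ∀ q : ℕ, 0 < q →
      Subsingleton (Coh.HH (Proj 𝒜) (Twist.twistBy 𝒜 F d) q) := by
  suffices h : ∀ j, ∀ F : (Proj 𝒜).Modules, Coh.IsCoh F → ∃ d₀ : ℤ, ∀ d : ℤ, d₀ ≤ d →
      ∀ q : ℕ, 0 < q → r < q + j → Subsingleton (Coh.HH (Proj 𝒜) (Twist.twistBy 𝒜 F d) q) by
    obtain ⟨d₀, hd⟩ := h r F hF
    exact ⟨d₀, fun d hdd q hq => hd d hdd q hq (by omega)⟩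
  intro j
  induction j with
  | zero =>
    intro F hF
    exact ⟨0, fun d _ q hq hqj => hbig _ q
      (by have : F.IsQuasicoherent := hF.1; have : (Twist.twist 𝒜 d).IsQuasicoherent := (hcoh d).1; exact Groth.QCohMod.isQCoh_tensorMod) (by omega)⟩
  | succ j ih =>
    intro F hF
    obtain ⟨m, e, φ, -, hφ⟩ := exists_epi_twists 𝒜 F hF 0
    let E : Fin m → (Proj 𝒜).Modules := fun i => Twist.twist 𝒜 (e i)
    let ψ : ∐ E ⟶ F := φ
    have : Epi ψ := hφ
    have hE : Coh.IsCoh (∐ E) := isCoh_sigma E fun i => hcoh (e i)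
    have : F.IsQuasicoherent := hF.1
    have hK : Coh.IsCoh (kernel ψ) := QCohMod.isCoh_kernel ψ hE
    let S : ShortComplex (Proj 𝒜).Modules :=
      ShortComplex.mk (kernel.ι ψ) ψ (kernel.condition ψ)
    have hS : S.ShortExact :=
      { exact := ShortComplex.exact_of_f_is_kernel _ (kernelIsKernel ψ) }
    obtain ⟨d₁, hd₁⟩ := ih (kernel ψ) hK
    let s : ℤ := (Finset.univ : Finset (Fin m)).sum fun i => |e i|
    refine ⟨max d₁ (|c| + s), fun d hd q hq hqj => ?_⟩
    let T := DCoh.tensorRightMod (Twist.twist 𝒜 d)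
    have hT := PicAux.shortExact_tensorRightMod (hinv d) hS
    have h3 : Subsingleton (CohFin.HA f (T.obj (kernel ψ)) (q + 1)) :=
      hd₁ d (le_trans (le_max_left _ _) hd) (q + 1) (by omega) (by omega)
    have h2 : Subsingleton (CohFin.HA f (T.obj (∐ E)) q) := by
      refine subsingleton_of_forall_eq 0 fun x => ?_
      have hi : ∀ i, Subsingleton (CohFin.HA f (T.obj (E i)) q) := fun i => by
        obtain ⟨e'⟩ := Ega2Proj.nonempty_tensor_iso hgen (e i) d
        have h1 : |e i| ≤ s :=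
          Finset.single_le_sum (f := fun i => |e i|) (fun i _ => abs_nonneg _) (Finset.mem_univ i)
        have h4 : c ≤ e i + d := by
          have := le_trans (le_max_right _ _) hd
          have := neg_abs_le (e i)
          have := le_abs_self c
          omega
        have : Subsingleton (CohFin.HA f (Twist.twist 𝒜 (e i + d)) q) := htw _ q hq h4
        let e'' : T.obj (E i) ≅ Twist.twist 𝒜 (e i + d) := e'
        exact (Function.LeftInverse.injective (g := CohFin.mapL f e''.inv q)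
          (f := CohFin.mapL f e''.hom q) fun x => by
            rw [← CohFin.mapL_comp, e''.hom_inv_id, CohFin.mapL_id]).subsingleton
      have hid : ∑ i, T.map (sigmaProj E i) ≫ T.map (Sigma.ι E i) = 𝟙 (T.obj (∐ E)) := by
        simp only [← T.map_comp]
        rw [← T.map_sum, sigmaProj_total, T.map_id]
      rw [← CohFin.mapL_id f _ q x, ← hid, mapL_sum]
      refine Finset.sum_eq_zero fun i _ => ?_
      rw [CohFin.mapL_comp, (hi i).elim (CohFin.mapL f (T.map (sigmaProj E i)) q x) 0, map_zero]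
    refine subsingleton_of_forall_eq 0 fun (x : CohFin.HA f (T.obj F) q) => ?_
    obtain ⟨y, rfl⟩ := (CohFin.exact_mapL_delta hT q x).1 (h3.elim _ _)
    exact (congrArg _ (h2.elim y 0)).trans (map_zero _)

end General

variable (n : ℕ) (R : Type u) [CommRing R]

/-- Serre vanishing on projective space. -/
theorem exists_subsingleton_twistBy [IsNoetherianRing R]
    (F : (CohB1.ProjSpace n R).Modules) (hF : Coh.IsCoh F) :
    ∃ d₀ : ℤ, ∀ d : ℤ, d₀ ≤ d → ∀ q : ℕ, 0 < q →
      Subsingleton (Coh.HH (CohB1.ProjSpace n R) (Twist.twistBy (CohB1.polyGrading n R) F d) q) := by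
  have hgen : (HomogeneousIdeal.irrelevant (CohB1.polyGrading n R)).toIdeal ≤
      Ideal.span ((CohB1.polyGrading n R) 1 : Set (MvPolynomial (Fin (n + 1)) R)) :=
    (irrelevant_le_span_X n R).trans (Ideal.span_mono (by
      rintro _ ⟨i, rfl⟩
      exact (MvPolynomial.mem_homogeneousSubmodule _ _).mpr (MvPolynomial.isHomogeneous_X R _)))
  have : IsLocallyNoetherian (Proj (CohB1.polyGrading n R)) := isLocallyNoetherian_projSpace n R
  exact exists_subsingleton_of_twists (CohB1.polyGrading n R) hgen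
    (CohB1.ProjSpace.toSpec n R) n
    (fun M q hM hq => by
      have : Coh.IsQCoh (X := CohB1.ProjSpace n R) M := hM
      exact subsingleton_HH_of_lt n R (M : (CohB1.ProjSpace n R).Modules) hq)
    0 (fun e q hq he => subsingleton_HH_twist e q (fun h => by omega) (fun h => by omega))
    (isCoh_twist n R) (fun e => Ega2Proj.isInvertible_twist hgen e) F hF

end Groth.PnCoh
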