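import Groth.Agent.PnCoh.PullTwist
import Groth.Agent.PnCoh.Cohomology
import Groth.Agent.Ega2Proj2.ProjMaps
import Groth.Prelude.Def_ega3

/-!
# `Proj` of an algebra generated in degree one as a closed subscheme of projective space
-/

set_option autoImplicit false

universe u

open CategoryTheory CategoryTheory.Limits AlgebraicGeometry
open scoped HomogeneousIdeal

noncomputable section

namespace Groth.PnCoh

variable {A S : Type u} [CommRing A] [CommRing S] [Algebra A S] (𝒜 : ℕ → Submodule A S)
  [GradedAlgebra 𝒜] {r : ℕ} (g : Fin (r + 1) → S) (hg1 : ∀ i, g i ∈ 𝒜 1)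

/-- `A[x] → S`, `x_i ↦ g_i`. -/
def genHom : CohB1.polyGrading r A →+*ᵍ 𝒜 where
  toRingHom := (MvPolynomial.aeval g).toRingHom
  map_mem {i x} hx := by
    have hx' := (MvPolynomial.mem_homogeneousSubmodule _ _).mp hx
    change MvPolynomial.aeval g x ∈ 𝒜 i
    rw [MvPolynomial.as_sum x, map_sum]
    refine sum_mem fun d hd => ?_
    rw [MvPolynomial.aeval_monomial, ← hx' (MvPolynomial.mem_support_iff.mp hd), Finsupp.weight_apply,
      ← Algebra.smul_def]
    refine Submodule.smul_mem _ _ ?_
    rw [Finsupp.prod, Finsupp.sum]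
    simp only [Pi.one_apply, smul_eq_mul, mul_one]
    refine SetLike.prod_mem_graded _ _ _ fun j _ => ?_
    simpa using SetLike.pow_mem_graded (d j) (hg1 j)

variable (hgen : Algebra.adjoin A (Set.range g) = ⊤)

include hgen in
lemma genHom_surjective : Function.Surjective (genHom 𝒜 g hg1) := fun s => by
  have hs : s ∈ Algebra.adjoin A (Set.range g) := hgen.ge trivial
  rw [Algebra.adjoin_range_eq_range_aeval] at hs
  exact hs

include hgen in
lemma irrelevant_le_map_genHom :
    𝒜₊ ≤ ((CohB1.polyGrading r A)₊).map (genHom 𝒜 g hg1) := by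
  refine (HomogeneousIdeal.irrelevant_le _).mpr fun i hi y hy => ?_
  obtain ⟨x, hx, rfl⟩ :=
    Ega2P2.eventually_surj_of_surjective _ (genHom_surjective 𝒜 g hg1 hgen) i (Nat.zero_le _) y hy
  exact Ideal.mem_map_of_mem _ (HomogeneousIdeal.mem_irrelevant_of_mem _ hi hx)

/-- The embedding of `Proj S` into projective space. -/
def genEmb : Proj 𝒜 ⟶ CohB1.ProjSpace r A :=
  Proj.map (genHom 𝒜 g hg1) (irrelevant_le_map_genHom 𝒜 g hg1 hgen)

instance isClosedImmersion_genEmb : IsClosedImmersion (genEmb 𝒜 g hg1 hgen) :=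
  Ega2P2.isClosedImmersion_projMap _ _
    (Ega2P2.eventually_surj_of_surjective _ (genHom_surjective 𝒜 g hg1 hgen))

/-- The twisting sheaves are the inverse images of those of projective space. -/
theorem nonempty_pullback_genEmb_twist (d : ℤ) :
    Nonempty ((Scheme.Modules.pullback (genEmb 𝒜 g hg1 hgen)).obj (Twist.twistProjSpace r A d) ≅
      Twist.twist 𝒜 d) :=
  nonempty_pullback_twist_iso_of_gen (genHom 𝒜 g hg1) (irrelevant_le_map_genHom 𝒜 g hg1 hgen)
    ((irrelevant_le_span_X r A).trans (Ideal.span_mono (by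
      rintro _ ⟨j, rfl⟩
      exact (MvPolynomial.mem_homogeneousSubmodule _ _).mpr (MvPolynomial.isHomogeneous_X A _)))) d

end Groth.PnCoh
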