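import Groth.Prelude.Def_Twist2

/-!
# The constant functions on `Proj`
-/

universe u

open CategoryTheory AlgebraicGeometry Opposite TopologicalSpace

namespace Groth.PnCoh

lemma appTop_topIso_inv {X : Scheme.{u}} (U : X.Opens) (hU : U = ⊤) (j : X ⟶ U.toScheme) (hj : j ≫ U.ι = 𝟙 X) :
    U.topIso.inv ≫ j.appTop = X.presheaf.map (homOfLE hU.ge).op := by
  have h1 : U.ι.appTop = X.presheaf.map (homOfLE (le_top : U ≤ ⊤)).op ≫ U.topIso.inv := by
    simp [Scheme.Hom.appTop, Scheme.Opens.ι_app, Scheme.Opens.topIso]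
    exact (X.presheaf.map_comp _ _).symm.trans rfl |>.symm
  calc U.topIso.inv ≫ j.appTop
      = X.presheaf.map (homOfLE hU.ge).op ≫ X.presheaf.map (homOfLE (le_top : U ≤ ⊤)).op ≫
          U.topIso.inv ≫ j.appTop := by
        have he : X.presheaf.map (homOfLE hU.ge).op ≫ X.presheaf.map (homOfLE (le_top : U ≤ ⊤)).op =
            𝟙 _ := by rw [← Functor.map_comp, ← X.presheaf.map_id]; rfl
        rw [← Category.assoc (X.presheaf.map (homOfLE hU.ge).op), he, Category.id_comp]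
    _ = X.presheaf.map (homOfLE hU.ge).op ≫ (j ≫ U.ι).appTop := by
        rw [Scheme.Hom.comp_appTop, h1, Category.assoc]
    _ = X.presheaf.map (homOfLE hU.ge).op := by rw [hj]; simp
variable {R A : Type u} [CommRing R] [CommRing A] [Algebra R A] (𝒜 : ℕ → Submodule R A) [GradedAlgebra 𝒜]
lemma toGlobal_toSpecZero (c : 𝒜 0) : (Coh.toGlobal (A := 𝒜 0) (Proj.toSpecZero 𝒜) c) =
   ((Proj 𝒜).presheaf.map (homOfLE (Proj.basicOpen_one 𝒜).ge).op) ((Proj.awayToSection 𝒜 1) (HomogeneousLocalization.fromZeroRingHom 𝒜 _ c)) := by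
  have hj : ((Scheme.topIso (Proj 𝒜)).inv ≫ ((Proj 𝒜).isoOfEq (Proj.basicOpen_one 𝒜)).inv) ≫ (Proj.basicOpen 𝒜 1).ι = 𝟙 _ := by
    simp [Scheme.isoOfEq_inv_ι]
  have h : (Scheme.ΓSpecIso (CommRingCat.of (𝒜 0))).inv ≫ (Proj.toSpecZero 𝒜).appTop =
      CommRingCat.ofHom (HomogeneousLocalization.fromZeroRingHom 𝒜 (Submonoid.powers (1 : A))) ≫
        Proj.awayToSection 𝒜 1 ≫ (Proj 𝒜).presheaf.map (homOfLE (Proj.basicOpen_one 𝒜).ge).op := by
    rw [← appTop_topIso_inv _ (Proj.basicOpen_one 𝒜) _ hj]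
    rw [Proj.toSpecZero]
    simp only [Scheme.Hom.comp_appTop, Category.assoc]
    rw [← Scheme.ΓSpecIso_inv_naturality_assoc]
    simp only [Scheme.Hom.appTop, Proj.basicOpenToSpec_app_top, Category.assoc, Iso.inv_hom_id_assoc]
  have h' := RingHom.congr_fun (congrArg CommRingCat.Hom.hom h) c
  rw [CommRingCat.hom_comp, CommRingCat.hom_comp, CommRingCat.hom_comp] at h'
  exact h'

/-- The value of a constant function at a point. -/
lemma toGlobal_toSpecZero_val (c : 𝒜 0) (U : (Proj 𝒜).Opens) (y : U) :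
    (((Coh.resTop (Proj 𝒜) (op U) (Coh.toGlobal (A := 𝒜 0) (Proj.toSpecZero 𝒜) c)) :
      Twist.O (𝒜 := 𝒜) (op U)).1 y).val = Localization.mk c.1 1 := by
  rw [toGlobal_toSpecZero]
  rfl

/-- Constant functions along a composite to an affine base. -/
lemma toGlobal_comp_specMap {X : Scheme.{u}} {B C : Type u} [CommRing B] [CommRing C]
    (f : X ⟶ Spec (CommRingCat.of C)) (φ : B →+* C) (b : B) :
    Coh.toGlobal (f ≫ Spec.map (CommRingCat.ofHom φ)) b = Coh.toGlobal f (φ b) := by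
  have h : (Scheme.ΓSpecIso (CommRingCat.of B)).inv ≫
      (f ≫ Spec.map (CommRingCat.ofHom φ)).appTop =
      CommRingCat.ofHom φ ≫ (Scheme.ΓSpecIso (CommRingCat.of C)).inv ≫ f.appTop := by
    rw [Scheme.Hom.comp_appTop, ← Scheme.ΓSpecIso_inv_naturality_assoc]
  exact RingHom.congr_fun (congrArg CommRingCat.Hom.hom h) b

/-- The value of a scalar at a point of projective space. -/
lemma toGlobal_projSpace_val (n : ℕ) (R₀ : Type u) [CommRing R₀] (r : R₀)
    (U : (CohB1.ProjSpace n R₀).Opens) (y : U) :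
    (((Coh.resTop (CohB1.ProjSpace n R₀) (op U)
      (Coh.toGlobal ((CohB1.ProjSpace n R₀) ↘ Spec (CommRingCat.of R₀)) r)) :
        Twist.O (𝒜 := CohB1.polyGrading n R₀) (op U)).1 y).val =
      Localization.mk (MvPolynomial.C r) 1 := by
  change (((Coh.resTop (Proj (CohB1.polyGrading n R₀)) (op U) (Coh.toGlobal
    (Proj.toSpecZero (CohB1.polyGrading n R₀) ≫ Spec.map (CommRingCat.ofHom
      (algebraMap R₀ (CohB1.polyGrading n R₀ 0)))) r)) :
      Twist.O (𝒜 := CohB1.polyGrading n R₀) (op U)).1 y).val = _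
  rw [toGlobal_comp_specMap]
  exact toGlobal_toSpecZero_val _ _ U y

end Groth.PnCoh
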