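import Mathlib.LinearAlgebra.Matrix.NonsingularInverse
import Mathlib.LinearAlgebra.Finsupp.Supported
import Mathlib.GroupTheory.Perm.Sign
import Mathlib.Data.Finsupp.Basic
import Mathlib.Tactic.LinearCombination
import Mathlib.Tactic.Abel
import Mathlib.Tactic.Ring

/-!
# The Čech complex of Laurent monomials

For a finite set `ι` of variables, a `q`-cochain assigns to each `q`-tuple `x` of variables a
combination of exponents `a : ι → ℤ` of total degree `d` which are negative only on entries of `x`.
An exponent with a nonnegative entry contributes nothing to the cohomology (contract along that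
entry); the exponents with all entries negative contribute one copy each, in top degree.
-/

universe u v

namespace Groth.PnCoh.Combinat

open Finsupp

variable {R : Type v} [CommRing R] {ι : Type u} [Fintype ι]

/-- Finite combinations of exponents. -/
abbrev Exp (R : Type v) [CommRing R] (ι : Type u) := (ι → ℤ) →₀ R

variable (R) in
/-- Cochains: a combination of exponents for each tuple. -/
abbrev C (ι : Type u) (q : ℕ) := (Fin q → ι) → Exp R ι

/-- The exponents allowed on the tuple `x` in degree `d`. -/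
def allowed (d : ℤ) {q : ℕ} (x : Fin q → ι) : Set (ι → ℤ) :=
  {a | ∑ i, a i = d ∧ ∀ i, a i < 0 → i ∈ Set.range x}

variable (R) in
/-- Cochains with allowed exponents. -/
def cochains (d : ℤ) (q : ℕ) : Submodule R (C R ι q) where
  carrier := {s | ∀ x, s x ∈ Finsupp.supported R R (allowed d x)}
  zero_mem' x := Submodule.zero_mem _
  add_mem' hs ht x := Submodule.add_mem _ (hs x) (ht x)
  smul_mem' c _ hs x := Submodule.smul_mem _ c (hs x)

lemma mem_cochains_iff {d : ℤ} {q : ℕ} {s : C R ι q} :
    s ∈ cochains R d q ↔ ∀ x a, s x a ≠ 0 → a ∈ allowed d x :=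
  ⟨fun h x a ha => (Finsupp.mem_supported R _).mp (h x) (Finsupp.mem_support_iff.mpr ha),
    fun h x => (Finsupp.mem_supported R _).mpr fun a ha => h x a (Finsupp.mem_support_iff.mp ha)⟩

variable (R) in
/-- The differential. -/
noncomputable def dL (q : ℕ) : C R ι q →ₗ[R] C R ι (q + 1) where
  toFun s x := ∑ a : Fin (q + 1), ((-1 : R) ^ (a : ℕ)) • s (x ∘ a.succAbove)
  map_add' s t := by ext x; simp [Finset.sum_add_distrib]
  map_smul' c s := by
    ext x
    simp [Finset.mul_sum, mul_left_comm]

omit [Fintype ι] in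
lemma dL_apply {q : ℕ} (s : C R ι q) (x : Fin (q + 1) → ι) :
    dL R q s x = ∑ a : Fin (q + 1), ((-1 : R) ^ (a : ℕ)) • s (x ∘ a.succAbove) := rfl

omit [Fintype ι] in
lemma cons_comp_succ {q : ℕ} (j : ι) (x : Fin (q + 1) → ι) (a : Fin (q + 1)) :
    (Fin.cons j x : Fin (q + 2) → ι) ∘ a.succ.succAbove =
      Fin.cons j (x ∘ a.succAbove) := by
  funext b
  cases b using Fin.cases with
  | zero => simp
  | succ b => simp [Fin.succ_succAbove_succ]

omit [Fintype ι] in
lemma cons_comp_zero {q : ℕ} (j : ι) (x : Fin q → ι) :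
    (Fin.cons j x : Fin (q + 1) → ι) ∘ (0 : Fin (q + 1)).succAbove = x := by
  funext b
  simp

open Classical in
/-- A variable with nonnegative exponent, if there is one. -/
noncomputable def pivot [Nonempty ι] (a : ι → ℤ) : ι :=
  if h : ∃ j, 0 ≤ a j then h.choose else Classical.arbitrary ι

lemma pivot_spec [Nonempty ι] {a : ι → ℤ} (h : ∃ j, 0 ≤ a j) : 0 ≤ a (pivot a) := by
  rw [pivot, dif_pos h]
  exact h.choose_spec

variable [Nonempty ι]

open Classical in
/-- The contracting homotopy. -/
noncomputable def hL (q : ℕ) (s : C R ι (q + 1)) : C R ι q := fun y =>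
  ∑ j, (s (Fin.cons j y)).filter (fun a => (∃ k, 0 ≤ a k) ∧ pivot a = j)

lemma hL_apply_of_good {q : ℕ} (s : C R ι (q + 1)) (y : Fin q → ι) {a : ι → ℤ}
    (h : ∃ k, 0 ≤ a k) : hL q s y a = s (Fin.cons (pivot a) y) a := by
  classical
  rw [hL, Finsupp.finsetSum_apply, Finset.sum_eq_single (pivot a)]
  · rw [Finsupp.filter_apply_pos]
    exact ⟨h, rfl⟩
  · intro j _ hj
    rw [Finsupp.filter_apply_neg]
    exact fun h' => hj h'.2.symm
  · simp

lemma hL_apply_of_bad {q : ℕ} (s : C R ι (q + 1)) (y : Fin q → ι) {a : ι → ℤ}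
    (h : ¬ ∃ k, 0 ≤ a k) : hL q s y a = 0 := by
  classical
  rw [hL, Finsupp.finsetSum_apply, Finset.sum_eq_zero]
  exact fun j _ => Finsupp.filter_apply_neg _ _ fun h' => h h'.1

lemma hL_mem {d : ℤ} {q : ℕ} {s : C R ι (q + 1)} (hs : s ∈ cochains R d (q + 1)) :
    hL q s ∈ cochains R d q := by
  rw [mem_cochains_iff] at hs ⊢
  intro y a ha
  by_cases h : ∃ k, 0 ≤ a k
  · rw [hL_apply_of_good s y h] at ha
    refine ⟨(hs _ a ha).1, fun i hi => ?_⟩
    obtain ⟨b, hb⟩ := (hs _ a ha).2 i hi
    cases b using Fin.cases with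
    | zero =>
      rw [Fin.cons_zero] at hb
      have h' := pivot_spec h
      rw [hb] at h'
      omega
    | succ b => exact ⟨b, by rwa [Fin.cons_succ] at hb⟩
  · exact absurd (hL_apply_of_bad s y h) ha

/-- The homotopy identity on exponents with a nonnegative entry. -/
lemma homotopy {q : ℕ} (s : C R ι (q + 1)) (x : Fin (q + 1) → ι) {a : ι → ℤ}
    (h : ∃ k, 0 ≤ a k) : dL R q (hL q s) x a + hL (q + 1) (dL R (q + 1) s) x a = s x a := by
  rw [hL_apply_of_good _ x h, dL_apply, dL_apply, Fin.sum_univ_succ (n := q + 1),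
    Finsupp.finsetSum_apply, Finsupp.add_apply, Finsupp.finsetSum_apply]
  simp only [Finsupp.smul_apply, hL_apply_of_good _ _ h, cons_comp_zero, cons_comp_succ,
    Fin.val_zero, Fin.val_succ, pow_zero, pow_succ', smul_eq_mul, one_mul, neg_mul,
    Finset.sum_neg_distrib]
  abel

/-- A cocycle without exponents negative in all entries is a coboundary. -/
lemma eq_dL_hL {q : ℕ} {s : C R ι (q + 1)} (hs : dL R (q + 1) s = 0)
    (hbad : ∀ x a, (∀ i, a i < 0) → s x a = 0) : dL R q (hL q s) = s := by
  funext x
  ext a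
  by_cases h : ∃ k, 0 ≤ a k
  · have := homotopy s x h
    rwa [hs, hL_apply_of_good _ _ h, Pi.zero_apply, Finsupp.zero_apply, add_zero] at this
  · rw [dL_apply, Finsupp.finsetSum_apply, hbad x a (by simpa using h),
      Finset.sum_eq_zero fun b _ => by rw [Finsupp.smul_apply, hL_apply_of_bad _ _ h, smul_zero]]

omit [Nonempty ι] in
lemma surjective_of_bad {d : ℤ} {q : ℕ} {s : C R ι q} (hs : s ∈ cochains R d q) {x : Fin q → ι}
    {a : ι → ℤ} (ha : ∀ i, a i < 0) (h : s x a ≠ 0) : Function.Surjective x :=
  fun i => ((mem_cochains_iff.mp hs) x a h).2 i (ha i)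

omit [Nonempty ι] in
lemma degree_le_of_bad {d : ℤ} {q : ℕ} {s : C R ι q} (hs : s ∈ cochains R d q) {x : Fin q → ι}
    {a : ι → ℤ} (ha : ∀ i, a i < 0) (h : s x a ≠ 0) : d ≤ -(Fintype.card ι : ℤ) := by
  rw [← ((mem_cochains_iff.mp hs) x a h).1]
  calc ∑ i, a i ≤ ∑ _i : ι, (-1 : ℤ) := Finset.sum_le_sum fun i _ => by have := ha i; omega
    _ = -(Fintype.card ι : ℤ) := by simp

/-- Vanishing below the top degree, or above the critical twist. -/
lemma exists_primitive {d : ℤ} {q : ℕ} {s : C R ι (q + 1)} (hs : s ∈ cochains R d (q + 1))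
    (hd : dL R (q + 1) s = 0) (h : q + 1 < Fintype.card ι ∨ -(Fintype.card ι : ℤ) < d) :
    hL q s ∈ cochains R d q ∧ dL R q (hL q s) = s := by
  refine ⟨hL_mem hs, eq_dL_hL hd fun x a ha => ?_⟩
  by_contra hne
  rcases h with h | h
  · have := Fintype.card_le_of_surjective x (surjective_of_bad hs ha hne)
    simp at this
    omega
  · have := degree_le_of_bad hs ha hne
    omega

section Top

variable {n : ℕ} (e : Fin (n + 1) ≃ ι)

omit [Nonempty ι] in
/-- A cocycle changes sign when two adjacent entries of a bijective tuple are exchanged. -/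
lemma apply_swap {s : C R ι (n + 1)} (hd : dL R (n + 1) s = 0)
    (hz : ∀ x : Fin (n + 1) → ι, ¬ Function.Surjective x → ∀ a, (∀ i, a i < 0) → s x a = 0)
    {a : ι → ℤ} (ha : ∀ i, a i < 0) (σ : Fin (n + 1) ≃ ι) (i : Fin n) :
    s (σ ∘ Equiv.swap i.castSucc i.succ) a = - s σ a := by
  -- repeat the entry at `i + 1` in front of position `i`
  let x : Fin (n + 2) → ι := Fin.insertNth (α := fun _ => ι) i.castSucc.castSucc (σ i.succ) σ
  have hx0 : x ∘ i.castSucc.castSucc.succAbove = σ := funext fun b => by simp [x]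
  have hx2 : x ∘ i.succ.succ.succAbove = σ ∘ Equiv.swap i.castSucc i.succ := by
    funext b
    simp only [Function.comp_apply, x]
    rcases lt_trichotomy (b : ℕ) (i : ℕ) with hb | hb | hb
    · rw [show i.succ.succ.succAbove b = i.castSucc.castSucc.succAbove b from ?_,
        Fin.insertNth_apply_succAbove, Equiv.swap_apply_of_ne_of_ne]
      · simp [Fin.ext_iff]; omega
      · simp [Fin.ext_iff]; omega
      · rw [Fin.succAbove_of_castSucc_lt, Fin.succAbove_of_castSucc_lt] <;>
          simp [Fin.lt_def] <;> omega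
    · have e : b = i.castSucc := Fin.ext hb
      subst e
      rw [show i.succ.succ.succAbove i.castSucc = i.castSucc.castSucc from
        Fin.succAbove_of_castSucc_lt _ _ (by simp [Fin.lt_def]), Fin.insertNth_apply_same,
        Equiv.swap_apply_left]
    · rcases eq_or_lt_of_le (show (i : ℕ) + 1 ≤ b by omega) with hb' | hb'
      · have e : b = i.succ := Fin.ext hb'.symm
        subst e
        rw [show i.succ.succ.succAbove i.succ = i.castSucc.castSucc.succAbove i.castSucc from ?_,
          Fin.insertNth_apply_succAbove, Equiv.swap_apply_right]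
        rw [Fin.succAbove_of_castSucc_lt _ _ (by simp [Fin.lt_def]),
          Fin.succAbove_of_le_castSucc _ _ (by simp [Fin.le_def])]
        simp [Fin.ext_iff]
      · rw [show i.succ.succ.succAbove b = i.castSucc.castSucc.succAbove b from ?_,
          Fin.insertNth_apply_succAbove, Equiv.swap_apply_of_ne_of_ne]
        · simp [Fin.ext_iff]; omega
        · simp [Fin.ext_iff]; omega
        · rw [Fin.succAbove_of_le_castSucc, Fin.succAbove_of_le_castSucc] <;>
            simp [Fin.le_def] <;> omega
  have hlt : i.castSucc.castSucc < i.succ.succ := by simp [Fin.lt_def]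
  have hxeq : x i.castSucc.castSucc = x i.succ.succ := by
    rw [show i.succ.succ = i.castSucc.castSucc.succAbove i.succ from
      (Fin.succAbove_of_le_castSucc _ _ (by simp [Fin.le_def])).symm]
    simp [x]
  have h0 := congrArg (fun f => f x a) hd
  simp only [Pi.zero_apply, Finsupp.zero_apply, dL_apply, Finsupp.finsetSum_apply,
    Finsupp.smul_apply] at h0
  rw [Finset.sum_eq_add (a := i.castSucc.castSucc) (b := i.succ.succ) hlt.ne, hx0, hx2] at h0
  · simp only [Fin.val_castSucc, Fin.val_succ, smul_eq_mul, pow_succ] at h0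
    have hu : IsUnit ((-1 : R) ^ (i : ℕ)) := (isUnit_one.neg).pow _
    refine eq_neg_of_add_eq_zero_left (hu.mul_right_eq_zero.mp ?_)
    linear_combination h0
  · rintro b - ⟨hb0, hb2⟩
    rw [hz _ ?_ a ha, smul_zero]
    intro hsur
    have hinj : Function.Injective (x ∘ b.succAbove) :=
      ((Fintype.bijective_iff_surjective_and_card _).mpr
        ⟨hsur, by simpa using Fintype.card_congr σ⟩).1
    obtain ⟨u, hu⟩ := Fin.exists_succAbove_eq hb0.symm
    obtain ⟨v, hv⟩ := Fin.exists_succAbove_eq hb2.symm
    have : u = v := hinj (by simp [Function.comp_apply, hu, hv, hxeq])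
    exact hlt.ne (by rw [← hu, ← hv, this])
  all_goals simp

omit [Nonempty ι] in
/-- The coefficients negative in all entries of a cocycle are determined at one bijective tuple. -/
lemma eq_zero_of_apply_equiv_eq_zero {d : ℤ} {s : C R ι (n + 1)}
    (hs : s ∈ cochains R d (n + 1)) (hd : dL R (n + 1) s = 0) {a : ι → ℤ} (ha : ∀ i, a i < 0)
    (h0 : s e a = 0) (x : Fin (n + 1) → ι) : s x a = 0 := by
  by_contra hne
  have hz : ∀ x : Fin (n + 1) → ι, ¬ Function.Surjective x → ∀ a, (∀ i, a i < 0) → s x a = 0 :=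
    fun x hx a ha => by_contra fun h => hx (surjective_of_bad hs ha h)
  have hb : Function.Bijective x := (Fintype.bijective_iff_surjective_and_card _).mpr
    ⟨surjective_of_bad hs ha hne, by simpa using Fintype.card_congr e⟩
  have key : ∀ τ ∈ Submonoid.closure (Set.range fun i : Fin n => Equiv.swap i.castSucc i.succ),
      ∀ σ : Fin (n + 1) ≃ ι, s σ a = 0 → s (σ ∘ (τ : Equiv.Perm (Fin (n + 1)))) a = 0 := by
    intro τ hτ
    induction hτ using Submonoid.closure_induction with
    | mem τ hτ =>
      obtain ⟨i, rfl⟩ := hτ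
      intro σ hσ
      rw [apply_swap hd hz ha σ i, hσ, neg_zero]
    | one => exact fun σ hσ => by simpa using hσ
    | mul τ τ' _ _ ih ih' =>
      intro σ hσ
      have := ih' (τ.trans σ) (by simpa [Equiv.coe_trans] using ih σ hσ)
      simpa [Equiv.coe_trans, Function.comp_assoc, Equiv.Perm.coe_mul] using this
  have := key ((Equiv.ofBijective x hb).trans e.symm)
    ((Equiv.Perm.mclosure_swap_castSucc_succ n).ge (Submonoid.mem_top _)) e h0
  refine hne ?_
  convert this using 3
  funext b
  simp

/-- The alternating sign of a tuple relative to `e`. -/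
noncomputable def detTuple (x : Fin (n + 1) → ι) : R :=
  open Classical in (Matrix.of fun a b => if x a = e b then (1 : R) else 0).det

omit [Fintype ι] [Nonempty ι] in
lemma detTuple_self : detTuple (R := R) e e = 1 := by
  classical
  rw [detTuple]
  convert Matrix.det_one (n := Fin (n + 1)) (R := R) using 2
  ext a b
  simp [Matrix.one_apply]

omit [Fintype ι] [Nonempty ι] in
lemma surjective_of_detTuple_ne_zero {x : Fin (n + 1) → ι} (h : detTuple (R := R) e x ≠ 0) :
    Function.Surjective x := by
  classical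
  intro i
  by_contra hi
  push Not at hi
  exact h (Matrix.det_eq_zero_of_column_eq_zero (e.symm i) fun a => by simp [hi a])

/-- The cocycle carried by a combination of exponents negative in all entries. -/
noncomputable def topCocycle (ℓ : Exp R ι) : C R ι (n + 1) :=
  fun x => detTuple (R := R) e x • ℓ

omit [Fintype ι] [Nonempty ι] in
lemma dL_topCocycle (ℓ : Exp R ι) : dL R (n + 1) (topCocycle e ℓ) = 0 := by
  classical
  funext x
  simp only [dL_apply, topCocycle, smul_smul, ← Finset.sum_smul, Pi.zero_apply]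
  suffices h : ∑ a : Fin (n + 2), (-1 : R) ^ (a : ℕ) * detTuple e (x ∘ a.succAbove) = 0 by
    rw [h, zero_smul]
  let N : Matrix (Fin (n + 2)) (Fin (n + 2)) R :=
    Matrix.of fun a => Fin.cons 1 fun b => if x a = e b then (1 : R) else 0
  have hN : N.det = 0 := by
    have hv : N.mulVec (Fin.cons 1 fun _ => -1) = 0 := by
      funext a
      simp [Matrix.mulVec, dotProduct, N, Fin.sum_univ_succ (n := n + 1), ← e.symm_apply_eq]
    have h := congrArg (N.adjugate.mulVec) hv
    rw [Matrix.mulVec_mulVec, Matrix.adjugate_mul, Matrix.mulVec_zero, Matrix.smul_mulVec,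
      Matrix.one_mulVec] at h
    simpa using congrFun h 0
  rw [← hN, Matrix.det_succ_column_zero]
  refine Finset.sum_congr rfl fun a _ => ?_
  rw [show N a 0 = 1 from rfl, mul_one, detTuple]
  rfl

omit [Nonempty ι] in
lemma topCocycle_mem {d : ℤ} (ℓ : Exp R ι)
    (hℓ : ∀ a, ℓ a ≠ 0 → ∑ i, a i = d) : topCocycle e ℓ ∈ cochains R d (n + 1) := by
  rw [mem_cochains_iff]
  intro x a h
  rw [topCocycle, Finsupp.smul_apply, smul_eq_mul] at h
  exact ⟨hℓ a (right_ne_zero_of_mul h),
    fun i _ => surjective_of_detTuple_ne_zero e (left_ne_zero_of_mul h) i⟩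

end Top

end Groth.PnCoh.Combinat
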