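import Groth.Agent.CohBase.CechDerived
import Mathlib.Algebra.Homology.HomologySequenceLemmas

/-!
# Leray's comparison between Čech and derived cohomology, naturally in the sheaf
-/

universe u

open CategoryTheory Limits TopologicalSpace Opposite
open CategoryTheory.Abelian (Ext)

namespace Groth.PnCoh

open Groth.CohBase

variable {X : TopCat.{u}} {ι : Type u} (U : ι → Opens X) (W : Opens X)

/-- The map on Čech cohomology induced by a map of presheaves. -/
noncomputable abbrev cechMap {F G : TopCat.Presheaf AddCommGrpCat.{u} X} (φ : F ⟶ G) (p : ℕ) :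
    (cechCx U F).homology p ⟶ (cechCx U G).homology p :=
  HomologicalComplex.homologyMap ((cechComplexFunctor (A := AddCommGrpCat.{u}) U).map φ) p

lemma addEquivOfSameKer_apply {A B C : Type*} [AddCommGroup A] [AddCommGroup B] [AddCommGroup C]
    (f : A →+ B) (g : A →+ C) (hf : Function.Surjective f) (hg : Function.Surjective g)
    (h : f.ker = g.ker) (a : A) : addEquivOfSameKer f g hf hg h (f a) = g a := by
  have e : (QuotientAddGroup.quotientKerEquivOfSurjective f hf).symm (f a) =
      QuotientAddGroup.mk a := by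
    rw [AddEquiv.symm_apply_eq]
    rfl
  simp only [addEquivOfSameKer, AddEquiv.trans_apply, e]
  rfl

lemma addEquivOfSameKer_natural {A B C A' B' C' : Type*} [AddCommGroup A] [AddCommGroup B]
    [AddCommGroup C] [AddCommGroup A'] [AddCommGroup B'] [AddCommGroup C']
    (f : A →+ B) (g : A →+ C) (hf : Function.Surjective f) (hg : Function.Surjective g)
    (h : f.ker = g.ker) (f' : A' →+ B') (g' : A' →+ C') (hf' : Function.Surjective f')
    (hg' : Function.Surjective g') (h' : f'.ker = g'.ker) (α : A → A') (β : B → B') (γ : C → C')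
    (hβ : ∀ a, β (f a) = f' (α a)) (hγ : ∀ a, γ (g a) = g' (α a)) (b : B) :
    addEquivOfSameKer f' g' hf' hg' h' (β b) = γ (addEquivOfSameKer f g hf hg h b) := by
  obtain ⟨a, rfl⟩ := hf b
  rw [hβ, addEquivOfSameKer_apply f g hf hg h, addEquivOfSameKer_apply f' g' hf' hg' h', hγ]

section InjPres

variable {F G : AbSheaf X} (φ : F ⟶ G)

/-- `φ`, between the first objects of the presentations. -/
abbrev map₁ : (injPres F).X₁ ⟶ (injPres G).X₁ := φ

/-- The lift of `φ` to the injective sheaves of the presentations. -/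
noncomputable def injPresMid : (injPres F).X₂ ⟶ (injPres G).X₂ :=
  have := (injPres_shortExact F).mono_f
  Injective.factorThru (map₁ φ ≫ (injPres G).f) (injPres F).f

lemma f_injPresMid : (injPres F).f ≫ injPresMid φ = map₁ φ ≫ (injPres G).f := by
  have := (injPres_shortExact F).mono_f
  exact Injective.comp_factorThru _ _

lemma f_injPresMid_g : (injPres F).f ≫ injPresMid φ ≫ (injPres G).g = 0 := by
  rw [← Category.assoc, f_injPresMid, Category.assoc, (injPres G).zero, comp_zero]

/-- The induced map on the quotients of the presentations. -/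
noncomputable def injPresQuot : (injPres F).X₃ ⟶ (injPres G).X₃ :=
  cokernel.desc _ (injPresMid φ ≫ (injPres G).g) (f_injPresMid_g φ)

lemma g_injPresQuot : (injPres F).g ≫ injPresQuot φ = injPresMid φ ≫ (injPres G).g :=
  cokernel.π_desc _ _ _

/-- A morphism of injective presentations lifting `φ`. -/
noncomputable def injPresMap : injPres F ⟶ injPres G :=
  ShortComplex.homMk (map₁ φ) (injPresMid φ) (injPresQuot φ)
    (f_injPresMid φ).symm (g_injPresQuot φ).symm

@[simp] lemma injPresMap_τ₁ : (injPresMap φ).τ₁ = map₁ φ := rfl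

end InjPres

lemma interExact_injPres {F : AbSheaf X} (hF : InterAcyclic U F) :
    InterExact (U := U) (injPres F).f.hom (injPres F).g.hom :=
  ⟨interLeftExact (injPres_shortExact F) U,
    fun x => sections_surjective (injPres_shortExact F) (hF x 0)⟩

lemma injPres_comp_hom (F : AbSheaf X) : (injPres F).f.hom ≫ (injPres F).g.hom = 0 :=
  congrArg (fun γ => γ.hom) (injPres F).zero

lemma shortExact_cechInjPres {F : AbSheaf X} (hF : InterAcyclic U F) :
    (cechShortComplex (U := U) (injPres_comp_hom F)).ShortExact :=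
  cechShortComplex_shortExact (interExact_injPres U hF) (injPres_comp_hom F)

lemma cech_map_square {P Q R S : AbSheaf X} (a : P ⟶ Q) (b : Q ⟶ S) (c : P ⟶ R) (d : R ⟶ S)
    (h : a ≫ b = c ≫ d) :
    (cechComplexFunctor (A := AddCommGrpCat.{u}) U).map a.hom ≫
        (cechComplexFunctor (A := AddCommGrpCat.{u}) U).map b.hom =
      (cechComplexFunctor (A := AddCommGrpCat.{u}) U).map c.hom ≫
        (cechComplexFunctor (A := AddCommGrpCat.{u}) U).map d.hom := by
  have h' : a.hom ≫ b.hom = c.hom ≫ d.hom := congrArg (fun γ => γ.hom) h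
  rw [← Functor.map_comp, ← Functor.map_comp, h']

/-- The map of short complexes of Čech complexes over `φ`. -/
noncomputable def cechInjPresMap {F G : AbSheaf X} (φ : F ⟶ G) :
    cechShortComplex (U := U) (injPres_comp_hom F) ⟶
      cechShortComplex (U := U) (injPres_comp_hom G) :=
  ShortComplex.homMk ((cechComplexFunctor (A := AddCommGrpCat.{u}) U).map φ.hom)
    ((cechComplexFunctor (A := AddCommGrpCat.{u}) U).map (injPresMap φ).τ₂.hom)
    ((cechComplexFunctor (A := AddCommGrpCat.{u}) U).map (injPresMap φ).τ₃.hom)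
    (cech_map_square U φ (injPres G).f (injPres F).f (injPresMap φ).τ₂ (injPresMap φ).comm₁₂)
    (cech_map_square U (injPresMap φ).τ₂ (injPres G).g (injPres F).g (injPresMap φ).τ₃
      (injPresMap φ).comm₂₃)

variable (hle : ∀ i, U i ≤ W) (hcov : W ≤ ⨆ i, U i)

/-- Čech cohomology in degree zero, as cohomology on `W`. -/
noncomputable def leray0 (F : AbSheaf X) :
    ((cechCx U F.obj).homology 0 : Type u) ≃+ (Sheaf.H' F 0 W : Type u) :=
  (AddEquiv.ofBijective (toH0 U W hle F.obj).hom (toH0_bijective U W hle F hcov)).symm.trans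
    (Ext.addEquiv₀.trans (homFreeOpen W F)).symm

lemma leray0_natural {F G : AbSheaf X} (φ : F ⟶ G) (x : ((cechCx U F.obj).homology 0 : Type u)) :
    leray0 U W hle hcov G (cechMap U φ.hom 0 x) =
      Ext.comp (leray0 U W hle hcov F x) (Ext.mk₀ φ) (add_zero 0) := by
  obtain ⟨s, rfl⟩ := (toH0_bijective U W hle F hcov).2 x
  have h := ConcreteCategory.congr_hom (toH0_naturality U W hle φ.hom) s
  change leray0 U W hle hcov G ((toH0 U W hle F.obj ≫ cechMap U φ.hom 0) s) = _
  rw [show (toH0 U W hle F.obj ≫ cechMap U φ.hom 0) s = (φ.hom.app (op W) ≫ toH0 U W hle G.obj) s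
    from h]
  have e : ∀ (H : AbSheaf X) (t : H.obj.obj (op W)),
      leray0 U W hle hcov H (toH0 U W hle H.obj t) = Ext.mk₀ ((homFreeOpen W H).symm t) := fun H t => by
    have e₁ : (AddEquiv.ofBijective (toH0 U W hle H.obj).hom (toH0_bijective U W hle H hcov)).symm
        (toH0 U W hle H.obj t) = t :=
      (AddEquiv.ofBijective (toH0 U W hle H.obj).hom
        (toH0_bijective U W hle H hcov)).symm_apply_apply t
    exact congrArg (Ext.addEquiv₀.trans (homFreeOpen W H)).symm e₁
  rw [ConcreteCategory.comp_apply, e, e, Ext.mk₀_comp_mk₀]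
  congr 1
  apply (homFreeOpen W G).injective
  rw [homFreeOpen_comp, AddEquiv.apply_symm_apply, AddEquiv.apply_symm_apply]

/-- Sections of the quotient in an injective presentation, to Čech cohomology. -/
noncomputable def aMap {F : AbSheaf X} (hF : InterAcyclic U F) :
    (injPres F).X₃.obj.obj (op W) →+ ((cechCx U F.obj).homology 1 : Type u) :=
  (toH0 U W hle _ ≫ (shortExact_cechInjPres U hF).δ 0 1 rfl).hom

/-- Sections of the quotient in an injective presentation, to derived cohomology. -/
noncomputable def bMap (F : AbSheaf X) :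
    (injPres F).X₃.obj.obj (op W) →+ (Sheaf.H' F 1 W : Type u) :=
  ((injPres_shortExact F).extClass.postcomp (freeOpen W) (zero_add 1)).comp
    (Ext.addEquiv₀.trans (homFreeOpen W (injPres F).X₃)).symm.toAddMonoidHom

include hcov in
lemma aMap_surjective {F : AbSheaf X} (hF : InterAcyclic U F) :
    Function.Surjective (aMap U W hle hF) := by
  have : Epi ((shortExact_cechInjPres U hF).δ 0 1 rfl) :=
    (shortExact_cechInjPres U hF).epi_δ 0 1 rfl
      ((isZero_homology_iff U _ 0).mpr (cechExact_of_injective _ U 0))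
  exact ((AddCommGrpCat.epi_iff_surjective _).mp this).comp (toH0_bijective U W hle _ hcov).2

lemma bMap_surjective (F : AbSheaf X) : Function.Surjective (bMap W F) := fun y => by
  obtain ⟨z, hz⟩ := Ext.covariant_sequence_exact₁ (freeOpen W) (injPres_shortExact F) y
    (Ext.eq_zero_of_injective _) (zero_add 1)
  exact ⟨(Ext.addEquiv₀.trans (homFreeOpen W _)) z,
    (congrArg ((injPres_shortExact F).extClass.postcomp (freeOpen W) (zero_add 1))
      ((Ext.addEquiv₀.trans (homFreeOpen W (injPres F).X₃)).symm_apply_apply z)).trans hz⟩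

lemma mem_ker_bMap (F : AbSheaf X) (q : (injPres F).X₃.obj.obj (op W)) :
    q ∈ (bMap W F).ker ↔ ∃ s, (injPres F).g.hom.app (op W) s = q := by
  have hS := injPres_shortExact F
  constructor
  · intro hq
    obtain ⟨z, hz⟩ := Ext.covariant_sequence_exact₃ (freeOpen W) hS _ (zero_add 1) hq
    refine ⟨homFreeOpen W _ (Ext.addEquiv₀ z), ?_⟩
    rw [← homFreeOpen_comp]
    refine Eq.trans (congrArg (homFreeOpen W _) ?_)
      ((Ext.addEquiv₀.trans (homFreeOpen W (injPres F).X₃)).apply_symm_apply q)
    refine Eq.trans ?_ (congrArg Ext.addEquiv₀ hz)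
    apply (Ext.mk₀_bijective _ _).injective
    rw [← Ext.mk₀_comp_mk₀, Ext.mk₀_addEquiv₀_apply, Ext.mk₀_addEquiv₀_apply]
  · rintro ⟨s, rfl⟩
    change Ext.comp (Ext.mk₀ ((homFreeOpen W _).symm ((injPres F).g.hom.app (op W) s)))
      hS.extClass (zero_add 1) = 0
    rw [show (homFreeOpen W _).symm ((injPres F).g.hom.app (op W) s) =
      (homFreeOpen W _).symm s ≫ (injPres F).g from (homFreeOpen W _).injective (by
        rw [homFreeOpen_comp, AddEquiv.apply_symm_apply, AddEquiv.apply_symm_apply]),
      ← Ext.mk₀_comp_mk₀, Ext.comp_assoc_of_second_deg_zero, hS.comp_extClass,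
      Ext.comp_zero]

include hcov in
lemma ker_aMap_eq {F : AbSheaf X} (hF : InterAcyclic U F) :
    (aMap U W hle hF).ker = (bMap W F).ker := by
  ext q
  rw [mem_ker_bMap]
  have hsh := shortExact_cechInjPres U hF
  constructor
  · intro hq
    obtain ⟨z, hz⟩ := (ShortComplex.ab_exact_iff _).mp
      (hsh.homology_exact₃ 0 1 rfl) (toH0 U W hle _ q) hq
    obtain ⟨s, rfl⟩ := (toH0_bijective U W hle (injPres F).X₂ hcov).2 z
    refine ⟨s, (toH0_bijective U W hle (injPres F).X₃ hcov).1 ?_⟩
    exact (ConcreteCategory.congr_hom (toH0_naturality U W hle (injPres F).g.hom) s).symm.trans hz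
  · rintro ⟨s, rfl⟩
    change ((injPres F).g.hom.app (op W) ≫ toH0 U W hle _ ≫ hsh.δ 0 1 rfl) s = 0
    have hz : (injPres F).g.hom.app (op W) ≫ toH0 U W hle _ ≫ hsh.δ 0 1 rfl = 0 :=
      (Category.assoc _ _ _).symm.trans
        ((congrArg (· ≫ hsh.δ 0 1 rfl) (toH0_naturality U W hle _).symm).trans
          ((Category.assoc _ _ _).trans
            ((congrArg (toH0 U W hle _ ≫ ·) (hsh.comp_δ 0 1 rfl)).trans comp_zero)))
    exact ConcreteCategory.congr_hom hz s

/-- Čech cohomology in degree one, as cohomology on `W`. -/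
noncomputable def leray1 {F : AbSheaf X} (hF : InterAcyclic U F) :
    ((cechCx U F.obj).homology 1 : Type u) ≃+ (Sheaf.H' F 1 W : Type u) :=
  addEquivOfSameKer (aMap U W hle hF) (bMap W F) (aMap_surjective U W hle hcov hF)
    (bMap_surjective W F) (ker_aMap_eq U W hle hcov hF)

lemma leray1_natural {F G : AbSheaf X} (hF : InterAcyclic U F) (hG : InterAcyclic U G)
    (φ : F ⟶ G) (x : ((cechCx U F.obj).homology 1 : Type u)) :
    leray1 U W hle hcov hG (cechMap U φ.hom 1 x) =
      Ext.comp (leray1 U W hle hcov hF x) (Ext.mk₀ φ) (add_zero 1) := by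
  refine addEquivOfSameKer_natural _ _ _ _ _ _ _ _ _ _
    (fun q => (injPresMap φ).τ₃.hom.app (op W) q) (fun b => cechMap U φ.hom 1 b)
    (fun c => Ext.comp c (Ext.mk₀ φ) (add_zero 1)) (fun q => ?_) (fun q => ?_) x
  · have h := HomologicalComplex.HomologySequence.δ_naturality (cechInjPresMap U φ)
      (shortExact_cechInjPres U hF) (shortExact_cechInjPres U hG) 0 1 rfl
    have h' : (toH0 U W hle (injPres F).X₃.obj ≫ (shortExact_cechInjPres U hF).δ 0 1 rfl) ≫
        cechMap U φ.hom 1 = (injPresMap φ).τ₃.hom.app (op W) ≫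
          (toH0 U W hle (injPres G).X₃.obj ≫ (shortExact_cechInjPres U hG).δ 0 1 rfl) :=
      (Category.assoc _ _ _).trans ((congrArg (toH0 U W hle _ ≫ ·) h).trans
        ((Category.assoc _ _ _).symm.trans
          ((congrArg (· ≫ (shortExact_cechInjPres U hG).δ 0 1 rfl)
            (toH0_naturality U W hle (injPresMap φ).τ₃.hom)).trans (Category.assoc _ _ _))))
    exact ConcreteCategory.congr_hom h' q
  · change Ext.comp (Ext.comp (Ext.mk₀ ((homFreeOpen W _).symm q))
      (injPres_shortExact F).extClass (zero_add 1)) (Ext.mk₀ φ) (add_zero 1) =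
      Ext.comp (Ext.mk₀ ((homFreeOpen W _).symm ((injPresMap φ).τ₃.hom.app (op W) q)))
        (injPres_shortExact G).extClass (zero_add 1)
    have e : (homFreeOpen W (injPres G).X₃).symm ((injPresMap φ).τ₃.hom.app (op W) q) =
        (homFreeOpen W (injPres F).X₃).symm q ≫ (injPresMap φ).τ₃ :=
      (homFreeOpen W _).injective (by
        rw [homFreeOpen_comp, AddEquiv.apply_symm_apply, AddEquiv.apply_symm_apply])
    have hn := ShortComplex.ShortExact.extClass_naturality (injPres_shortExact F)
      (injPres_shortExact G) (injPresMap φ)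
    rw [injPresMap_τ₁] at hn
    rw [e, ← Ext.mk₀_comp_mk₀, Ext.comp_assoc_of_second_deg_zero,
      Ext.comp_assoc_of_third_deg_zero]
    exact congrArg (fun t => Ext.comp (Ext.mk₀ ((homFreeOpen W (injPres F).X₃).symm q)) t
      (zero_add 1)) hn

lemma equivHShift_natural {F G : AbSheaf X} (φ : F ⟶ G) (n : ℕ)
    (x : (Sheaf.H' (injPres F).X₃ (n + 1) W : Type u)) :
    equivHShift (injPres_shortExact G) W n
        (Ext.comp x (Ext.mk₀ (injPresMap φ).τ₃) (add_zero (n + 1))) =
      Ext.comp (equivHShift (injPres_shortExact F) W n x) (Ext.mk₀ φ) (add_zero (n + 2)) := by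
  have hn := ShortComplex.ShortExact.extClass_naturality (injPres_shortExact F)
    (injPres_shortExact G) (injPresMap φ)
  rw [injPresMap_τ₁] at hn
  change Ext.comp (Ext.comp x (Ext.mk₀ (injPresMap φ).τ₃) (add_zero (n + 1)))
      (injPres_shortExact G).extClass rfl =
    Ext.comp (Ext.comp x (injPres_shortExact F).extClass rfl) (Ext.mk₀ φ) (add_zero (n + 2))
  refine (Ext.comp_assoc_of_second_deg_zero x _ _ rfl).trans
    (Eq.trans ?_ (Ext.comp_assoc_of_third_deg_zero x _ (Ext.mk₀ φ) rfl).symm)
  exact congrArg (fun t => Ext.comp x t rfl) hn.symm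

include hle hcov in
/-- Leray's theorem, with naturality in the sheaf. -/
theorem exists_leray_natural (p : ℕ) :
    ∃ e : ∀ F : AbSheaf X, InterAcyclic U F →
        (((cechCx U F.obj).homology p : Type u) ≃+ (Sheaf.H' F p W : Type u)),
      ∀ (F G : AbSheaf X) (hF : InterAcyclic U F) (hG : InterAcyclic U G) (φ : F ⟶ G) (x),
        e G hG (cechMap U φ.hom p x) = Ext.comp (e F hF x) (Ext.mk₀ φ) (add_zero p) := by
  rcases p with _ | p
  · exact ⟨fun F _ => leray0 U W hle hcov F, fun F G _ _ φ x => leray0_natural U W hle hcov φ x⟩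
  induction p with
  | zero => exact ⟨fun F hF => leray1 U W hle hcov hF,
      fun F G hF hG φ x => leray1_natural U W hle hcov hF hG φ x⟩
  | succ p ih =>
    obtain ⟨e, he⟩ := ih
    have hQ : ∀ F : AbSheaf X, InterAcyclic U F → InterAcyclic U (injPres F).X₃ :=
      fun F hF n x q => hVanish_quotient (injPres_shortExact F) (hF x (q + 1))
    have hI : ∀ (F : AbSheaf X) (q : ℕ),
        IsZero ((cechShortComplex (U := U) (injPres_comp_hom F)).X₂.homology (q + 1)) :=
      fun F q => (isZero_homology_iff U _ q).mpr (cechExact_of_injective _ U q)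
    let d : ∀ F : AbSheaf X, InterAcyclic U F → _ := fun F hF =>
      ((shortExact_cechInjPres U hF).δIso (p + 1) (p + 2) rfl (hI F p)
        (hI F (p + 1))).addCommGroupIsoToAddEquiv
    refine ⟨fun F hF => ((d F hF).symm.trans (e _ (hQ F hF))).trans
      (equivHShift (injPres_shortExact F) W p), fun F G hF hG φ x => ?_⟩
    obtain ⟨y, rfl⟩ := (d F hF).surjective x
    have hd : cechMap U φ.hom (p + 2) (d F hF y) =
        d G hG (cechMap U (injPresMap φ).τ₃.hom (p + 1) y) :=
      ConcreteCategory.congr_hom (HomologicalComplex.HomologySequence.δ_naturality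
        (cechInjPresMap U φ) (shortExact_cechInjPres U hF) (shortExact_cechInjPres U hG)
        (p + 1) (p + 2) rfl) y
    change equivHShift (injPres_shortExact G) W p
        (e _ (hQ G hG) ((d G hG).symm (cechMap U φ.hom (p + 2) (d F hF y)))) =
      Ext.comp (equivHShift (injPres_shortExact F) W p (e _ (hQ F hF) ((d F hF).symm (d F hF y))))
        (Ext.mk₀ φ) (add_zero (p + 2))
    refine Eq.trans (congrArg (fun t => equivHShift (injPres_shortExact G) W p (e _ (hQ G hG) t))
      ((congrArg (d G hG).symm hd).trans ((d G hG).symm_apply_apply _))) ?_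
    refine Eq.trans (congrArg (equivHShift (injPres_shortExact G) W p)
      (he _ _ (hQ F hF) (hQ G hG) (injPresMap φ).τ₃ y)) ?_
    refine Eq.trans (equivHShift_natural W φ p _) ?_
    exact congrArg (fun t => Ext.comp (equivHShift (injPres_shortExact F) W p (e _ (hQ F hF) t))
      (Ext.mk₀ φ) (add_zero (p + 2))) ((d F hF).symm_apply_apply y).symm

end Groth.PnCoh
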