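import Groth.Agent.Ega2Proj.TwistMap
import Groth.Agent.Ega2Proj.TwistPow

/-!
# Inverse images of twisting sheaves under maps of `Proj`, generation in degree one
-/

set_option autoImplicit false

universe u

open CategoryTheory AlgebraicGeometry Opposite TopologicalSpace
open Groth.PicAux

namespace Groth.PnCoh

variable {R R' A B : Type u} [CommRing R] [CommRing A] [Algebra R A] {𝒜 : ℕ → Submodule R A}
  [GradedAlgebra 𝒜] [CommRing R'] [CommRing B] [Algebra R' B] {ℬ : ℕ → Submodule R' B}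
  [GradedAlgebra ℬ] (ψ : 𝒜 →+*ᵍ ℬ)
  (hψ : HomogeneousIdeal.irrelevant ℬ ≤ (HomogeneousIdeal.irrelevant 𝒜).map ψ)

/-- `Φ^* O(n) ≅ O(n)` when the source algebra is generated in degree one. -/
theorem nonempty_pullback_twist_iso_of_gen
    (hgen : (HomogeneousIdeal.irrelevant 𝒜).toIdeal ≤ Ideal.span (𝒜 1 : Set A)) (n : ℤ) :
    Nonempty ((Scheme.Modules.pullback (Proj.map ψ hψ)).obj (Twist.twist 𝒜 n) ≅ Twist.twist ℬ n) := by
  let U : (𝒜 1 : Set A) → (Proj ℬ).Opens := fun f =>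
    Proj.map ψ hψ ⁻¹ᵁ Proj.basicOpen 𝒜 (f : A)
  have hU : iSup U = ⊤ := eq_top_iff.2 fun y _ => by
    obtain ⟨f, hf⟩ := Opens.mem_iSup.1
      ((Ega2Proj.iSup_basicOpen_eq_top_of_span hgen).ge
        (show (Proj.map ψ hψ).base y ∈ (⊤ : (Proj 𝒜).Opens) from trivial))
    exact Opens.mem_iSup.2 ⟨f, hf⟩
  have : IsIso (Ega2Proj.mu ψ hψ n) := by
    refine isIso_of_cover hU _ fun f V hV => ?_
    let s := Ega2Proj.pwSec (N := n) f.2 n (by simp)
      (U := Proj.basicOpen 𝒜 (f : A)) fun _ hx => hx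
    let t := Ega2Proj.pwSec (N := n) (ψ.2 f.2) n (by simp) (U := U f) fun y hy => hy
    have hs : Gen _ (U f) (pullSec (Proj.map ψ hψ) _ s) :=
      Gen.pull (f := Proj.map ψ hψ) (Ega2Proj.gen_pwSec _ _ _ _)
    have ht : Gen (Twist.twist ℬ n) (U f) t := Ega2Proj.gen_pwSec _ _ _ _
    have e : (Ega2Proj.mu ψ hψ n).app (U f) (pullSec (Proj.map ψ hψ) _ s) = t := by
      refine (Ega2Proj.mu_pullSec ψ hψ n _ s).trans (Ega2Proj.wval_ext fun y hy => ?_)
      refine (Ega2Proj.wval_nuFun ψ hψ n _ s y hy).trans ?_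
      refine (congrArg _ (Ega2Proj.wval_fracGen _ _ _ _ _ _ _)).trans
        ((Ega2Proj.locMap_lfrac ψ _ _ _).trans ?_)
      refine Eq.trans ?_ (Ega2Proj.wval_fracGen _ _ _ _ _ _ _).symm
      congr 1 <;> simp [map_pow]
    refine (Function.Bijective.of_comp_iff _ (hs V hV)).1 ?_
    have h : ((Ega2Proj.mu ψ hψ n).app V ∘ fun r : Γ(Proj ℬ, V) =>
        r • Groth.PicAux.res _ hV (pullSec (Proj.map ψ hψ) _ s)) =
        fun r => r • Groth.PicAux.res _ hV t := funext fun r => by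
      refine ((Ega2Proj.mu ψ hψ n).app_smul _ _).trans ?_
      rw [app_res, e]
    exact h ▸ ht V hV
  exact ⟨asIso (Ega2Proj.mu ψ hψ n)⟩

end Groth.PnCoh
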