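import Groth.Agent.PnCoh.Combinat
import Groth.Agent.PnCoh.ToGlobal
import Groth.Agent.Ega2Proj.TildeQCoh
import Groth.Agent.CohBase.Cech

/-!
# Sections of `O(d)` on the standard opens of projective space, as Laurent polynomials
-/

universe u

open CategoryTheory AlgebraicGeometry Opposite TopologicalSpace

noncomputable section

namespace Groth.PnCoh

variable (n : ℕ) (R : Type u) [CommRing R]

/-- The variables, as an index set in the universe of `R`. -/
abbrev Idx : Type u := ULift.{u} (Fin (n + 1))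

/-- Laurent polynomials in the variables. -/
abbrev Laurent : Type u := AddMonoidAlgebra R (Idx.{u} n → ℤ)

/-- Exponents of monomials as exponents of Laurent monomials. -/
def expHom : (Fin (n + 1) →₀ ℕ) →+ (Idx.{u} n → ℤ) where
  toFun b i := b i.down
  map_zero' := rfl
  map_add' b c := by ext i; simp

lemma expHom_apply (b : Fin (n + 1) →₀ ℕ) (i : Idx.{u} n) : expHom n b i = b i.down := rfl

lemma expHom_injective : Function.Injective (expHom.{u} n) := fun b c h =>
  Finsupp.ext fun i => by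
    have := congrFun h ⟨i⟩
    rw [expHom_apply, expHom_apply] at this
    exact_mod_cast this

/-- Polynomials as Laurent polynomials. -/
def toL : MvPolynomial (Fin (n + 1)) R →ₐ[R] Laurent n R :=
  AddMonoidAlgebra.mapDomainAlgHom R R (expHom.{u} n)

lemma toL_injective : Function.Injective (toL n R) :=
  AddMonoidAlgebra.mapDomain_injective (expHom_injective n)

lemma toL_monomial (b : Fin (n + 1) →₀ ℕ) (r : R) :
    toL n R (MvPolynomial.monomial b r) = AddMonoidAlgebra.single (expHom n b) r :=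
  AddMonoidAlgebra.mapDomain_single

variable {n}

/-- A Laurent monomial. -/
def T (v : Idx.{u} n → ℤ) : Laurent n R := AddMonoidAlgebra.single v 1

variable {R}

lemma T_mul (v w : Idx.{u} n → ℤ) : T R v * T R w = T R (v + w) := by
  simp [T, AddMonoidAlgebra.single_mul_single]

lemma mul_T_cancel (p : Laurent n R) {v w : Idx.{u} n → ℤ} (h : v + w = 0) :
    p * T R v * T R w = p := by
  rw [mul_assoc, T_mul, h, T, ← AddMonoidAlgebra.one_def, mul_one]

lemma coeff_mul_T (p : Laurent n R) (w a : Idx.{u} n → ℤ) :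
    (p * T R w).coeff a = p.coeff (a - w) := by
  rw [T, AddMonoidAlgebra.coeff_mul_single_eq_coeff_mul (a - w)
    (fun m' _ => ⟨fun h => by rw [← h, add_sub_cancel_right], fun h => by rw [h, sub_add_cancel]⟩),
    mul_one]

lemma exists_of_coeff_mul_T_ne_zero {m : MvPolynomial (Fin (n + 1)) R} {w a : Idx.{u} n → ℤ}
    (h : (toL n R m * T R w).coeff a ≠ 0) :
    ∃ b, m.coeff b ≠ 0 ∧ a = expHom n b + w := by
  classical
  rw [coeff_mul_T] at h
  have h' : a - w ∈ (Finsupp.mapDomain (expHom.{u} n) (AddMonoidAlgebra.coeff m)).support :=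
    Finsupp.mem_support_iff.mpr h
  obtain ⟨b, hb, hab⟩ := Finset.mem_image.mp (Finsupp.mapDomain_support h')
  exact ⟨b, Finsupp.mem_support_iff.mp hb, by rw [hab, sub_add_cancel]⟩

lemma sum_expHom (b : Fin (n + 1) →₀ ℕ) :
    ∑ i : Idx.{u} n, expHom n b i = (Finsupp.weight (1 : Fin (n + 1) → ℕ) b : ℕ) := by
  rw [Finsupp.weight_apply, Finsupp.sum_fintype _ _ (by simp), Nat.cast_sum]
  exact Fintype.sum_equiv Equiv.ulift _ _ fun i => by simp [expHom_apply]

section Tuples

variable {q : ℕ} (x : Fin q → Idx.{u} n)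

/-- The exponent of the product of the variables of a tuple. -/
def ev : Idx.{u} n → ℤ := expHom n (∑ a, Finsupp.single (x a).down 1)

variable (R) in
/-- The product of the variables of a tuple. -/
def prodX : MvPolynomial (Fin (n + 1)) R := ∏ a, MvPolynomial.X (x a).down

lemma prodX_mem : prodX R x ∈ CohB1.polyGrading n R q := by
  rw [MvPolynomial.mem_homogeneousSubmodule]
  have := MvPolynomial.IsHomogeneous.prod Finset.univ (fun a => MvPolynomial.X (R := R) (x a).down)
    (fun _ => 1) fun a _ => MvPolynomial.isHomogeneous_X R _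
  simpa [prodX] using this

lemma prodX_eq_monomial :
    prodX R x = MvPolynomial.monomial (∑ a, Finsupp.single (x a).down 1) 1 := by
  rw [MvPolynomial.monomial_sum_one]
  rfl

lemma toL_prodX_pow (k : ℕ) : toL n R (prodX R x ^ k) = T R (k • ev x) := by
  induction k with
  | zero => rw [pow_zero, map_one, zero_smul, T, AddMonoidAlgebra.one_def]
  | succ k ih =>
    rw [pow_succ, map_mul, ih, prodX_eq_monomial, toL_monomial, add_smul, one_smul, ← T_mul]
    rfl

lemma sum_ev : ∑ i, ev x i = q := by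
  rw [ev, sum_expHom, map_sum]
  simp [Finsupp.weight_single]

lemma one_le_ev {i : Idx.{u} n} (hi : i ∈ Set.range x) : 1 ≤ ev x i := by
  obtain ⟨a, rfl⟩ := hi
  rw [ev, expHom_apply, Nat.one_le_cast, Finsupp.finsetSum_apply]
  refine le_trans ?_ (Finset.single_le_sum (f := fun b => (Finsupp.single (x b).down 1) (x a).down)
    (fun b _ => Nat.zero_le _) (Finset.mem_univ a))
  simp

lemma ev_nonneg (i : Idx.{u} n) : 0 ≤ ev x i := Int.natCast_nonneg _

lemma ev_eq_zero {i : Idx.{u} n} (hi : i ∉ Set.range x) : ev x i = 0 := by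
  simp only [ev, expHom_apply, Finsupp.coe_finsetSum, Finset.sum_apply, Nat.cast_sum]
  refine Finset.sum_eq_zero fun a _ => ?_
  rw [Finsupp.single_eq_of_ne, Nat.cast_zero]
  exact fun h => hi ⟨a, ULift.down_injective h.symm⟩

lemma prodX_eq_mul {q : ℕ} (x : Fin (q + 1) → Idx.{u} n) (a : Fin (q + 1)) :
    prodX R x = prodX R (x ∘ a.succAbove) * MvPolynomial.X (x a).down := by
  rw [prodX, Fin.prod_univ_succAbove _ a, mul_comm]
  rfl

lemma ev_eq_add {q : ℕ} (x : Fin (q + 1) → Idx.{u} n) (a : Fin (q + 1)) :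
    ev x = ev (x ∘ a.succAbove) + expHom n (Finsupp.single (x a).down 1) := by
  rw [ev, ev, Fin.sum_univ_succAbove _ a, map_add, add_comm]
  rfl

end Tuples

variable (n R) in
/-- The standard opens. -/
def stdOpen (i : Idx.{u} n) : (CohB1.ProjSpace n R).Opens :=
  Proj.basicOpen (CohB1.polyGrading n R) (MvPolynomial.X i.down)

lemma inter_stdOpen {q : ℕ} (x : Fin q → Idx.{u} n) :
    CohBase.inter (X := (CohB1.ProjSpace n R).toTopCat) (stdOpen n R) x =
      Proj.basicOpen (CohB1.polyGrading n R) (prodX R x) := by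
  induction q with
  | zero =>
    rw [show prodX R x = 1 from by simp [prodX], Proj.basicOpen_one]
    exact le_antisymm le_top (le_iInf fun a => a.elim0)
  | succ q ih =>
    obtain ⟨j, y, rfl⟩ : ∃ j y, x = Fin.cons j y := ⟨x 0, Fin.tail x, (Fin.cons_self_tail x).symm⟩
    rw [CohBase.inter_cons, ih y]
    refine (Proj.basicOpen_mul (CohB1.polyGrading n R) (MvPolynomial.X j.down) (prodX R y)).symm.trans
      (congrArg _ ?_)
    simp [prodX, Fin.prod_univ_succ]

/-- The open attached to a tuple. -/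
abbrev tupleOpen {q : ℕ} (x : Fin q → Idx.{u} n) : (CohB1.ProjSpace n R).Opens :=
  CohBase.inter (X := (CohB1.ProjSpace n R).toTopCat) (stdOpen n R) x

lemma prodX_notMem {q : ℕ} {x : Fin q → Idx.{u} n} (k : ℕ)
    (y : tupleOpen (R := R) x) : prodX R x ^ k ∉ y.1.asHomogeneousIdeal := fun h => by
  have hy : y.1 ∈ Proj.basicOpen (CohB1.polyGrading n R) (prodX R x) := (inter_stdOpen (R := R) x) ▸ y.2
  exact (ProjectiveSpectrum.mem_basicOpen _ _ y.1).mp hy (y.1.isPrime.mem_of_pow_mem k h)

/-- Being homogeneous of a given integral degree. -/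
def HasDeg (m : MvPolynomial (Fin (n + 1)) R) (D : ℤ) : Prop :=
  ∀ b, m.coeff b ≠ 0 → ∑ i : Idx.{u} n, expHom n b i = D

lemma hasDeg_iff_mem {m : MvPolynomial (Fin (n + 1)) R} {D : ℕ} :
    HasDeg m (D : ℤ) ↔ m ∈ CohB1.polyGrading n R D := by
  rw [MvPolynomial.mem_homogeneousSubmodule]
  refine ⟨fun h b hb => ?_, fun h b hb => ?_⟩
  · have := h b hb
    rw [sum_expHom] at this
    exact_mod_cast this
  · rw [sum_expHom]
    exact_mod_cast h hb

lemma HasDeg.eq_zero {m : MvPolynomial (Fin (n + 1)) R} {D : ℤ} (h : HasDeg m D) (hD : D < 0) :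
    m = 0 := by
  ext b
  by_contra hb
  rw [MvPolynomial.coeff_zero] at hb
  have := h b hb
  rw [sum_expHom] at this
  omega

lemma hasDeg_zero (D : ℤ) : HasDeg (0 : MvPolynomial (Fin (n + 1)) R) D := fun b hb => by simp at hb

lemma HasDeg.exists_mem {m : MvPolynomial (Fin (n + 1)) R} {D : ℤ} (h : HasDeg m D) :
    ∃ i : ℕ, m ∈ CohB1.polyGrading n R i ∧ ((i : ℤ) = D ∨ m = 0) := by
  rcases lt_or_ge D 0 with hD | hD
  · exact ⟨0, by rw [h.eq_zero hD]; exact zero_mem _, Or.inr (h.eq_zero hD)⟩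
  · refine ⟨D.toNat, hasDeg_iff_mem.mp ?_, Or.inl (Int.toNat_of_nonneg hD)⟩
    rwa [Int.toNat_of_nonneg hD]

lemma HasDeg.mul_of_mem {m g : MvPolynomial (Fin (n + 1)) R} {D : ℤ} (h : HasDeg m D) {e : ℕ}
    (hg : g ∈ CohB1.polyGrading n R e) : HasDeg (m * g) (D + e) := by
  obtain ⟨i, hi, rfl | h0⟩ := h.exists_mem
  · exact_mod_cast hasDeg_iff_mem.mpr (SetLike.mul_mem_graded hi hg)
  · rw [h0, zero_mul]; exact hasDeg_zero _

lemma HasDeg.add {m m' : MvPolynomial (Fin (n + 1)) R} {D : ℤ} (h : HasDeg m D)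
    (h' : HasDeg m' D) : HasDeg (m + m') D := fun b hb => by
  rw [MvPolynomial.coeff_add] at hb
  by_cases hm : m.coeff b = 0
  · exact h' b (by simpa [hm] using hb)
  · exact h b hm

/-- The open attached to a tuple, in the prime spectrum. -/
def pOpen {q : ℕ} (x : Fin q → Idx.{u} n) : Opens (ProjectiveSpectrum.top (CohB1.polyGrading n R)) :=
  tupleOpen (R := R) x

/-- Sections of `O(d)` over the open attached to a tuple. -/
abbrev Sect (d : ℤ) {q : ℕ} (x : Fin q → Idx.{u} n) : Type u :=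
  GrTilde.sect (CohB1.polyGrading n R) (CohB1.polyGrading n R) d (op (pOpen (R := R) x))

/-- `s` is the fraction `m / (X_x) ^ k`. -/
def IsRep {d : ℤ} {q : ℕ} {x : Fin q → Idx.{u} n} (s : Sect (R := R) d x) (k : ℕ)
    (m : MvPolynomial (Fin (n + 1)) R) : Prop :=
  HasDeg m ((k : ℤ) * q + d) ∧ ∀ y : tupleOpen (R := R) x,
    (s.1 y).1 = (LocalizedModule.mk m ⟨prodX R x ^ k, prodX_notMem k y⟩ :
      GrTilde.LocMod (CohB1.polyGrading n R) (M := MvPolynomial (Fin (n + 1)) R) y.1)

variable {d : ℤ} {q : ℕ}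

lemma exists_isRep {x : Fin (q + 1) → Idx.{u} n} (s : Sect (R := R) d x) : ∃ k m, IsRep s k m := by
  have key : ∀ (V : (CohB1.ProjSpace n R).Opens)
      (hV : Proj.basicOpen (CohB1.polyGrading n R) (prodX R x) = V)
      (s : GrTilde.sect (CohB1.polyGrading n R) (CohB1.polyGrading n R) d (op V)),
      ∃ (k i : ℕ) (m : CohB1.polyGrading n R i), (i : ℤ) = k * (q + 1 : ℕ) + d ∧
        ∀ y : V, (s.1 y).1 = (LocalizedModule.mk m.1 ⟨prodX R x ^ k, fun h =>
          (ProjectiveSpectrum.mem_basicOpen _ _ y.1).mp (hV.symm ▸ y.2)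
            (y.1.isPrime.mem_of_pow_mem k h)⟩ :
          GrTilde.LocMod (CohB1.polyGrading n R) (M := MvPolynomial (Fin (n + 1)) R) y.1) := by
    rintro V rfl s
    exact Ega2Proj.Tilde.exists_frac _ _ d (Nat.succ_pos q) (prodX_mem x) s
  obtain ⟨k, i, m, hi, hm⟩ := key _ (inter_stdOpen x).symm s
  refine ⟨k, m.1, ?_, hm⟩
  rw [← hi]
  exact hasDeg_iff_mem.mpr m.2

lemma IsRep.unique {x : Fin (q + 1) → Idx.{u} n} {s : Sect (R := R) d x} {k k' : ℕ}
    {m m' : MvPolynomial (Fin (n + 1)) R} (h : IsRep s k m) (h' : IsRep s k' m') :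
    toL n R m * T R (-(k • ev x)) = toL n R m' * T R (-(k' • ev x)) := by
  set f := prodX R x
  have hdeg : HasDeg (m * f ^ k' - m' * f ^ k) (((k + k' : ℕ) : ℤ) * (q + 1 : ℕ) + d) := by
    have hf : ∀ j, f ^ j ∈ CohB1.polyGrading n R (j * (q + 1)) := fun j => by
      simpa using SetLike.pow_mem_graded j (prodX_mem (R := R) x)
    have h1 := h.1.mul_of_mem (hf k')
    have h2 := h'.1.mul_of_mem (hf k)
    have e1 : (k : ℤ) * (q + 1 : ℕ) + d + (k' * (q + 1) : ℕ) =
      ((k + k' : ℕ) : ℤ) * (q + 1 : ℕ) + d := by push_cast; ring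
    have e2 : (k' : ℤ) * (q + 1 : ℕ) + d + (k * (q + 1) : ℕ) =
      ((k + k' : ℕ) : ℤ) * (q + 1 : ℕ) + d := by push_cast; ring
    rw [e1] at h1
    rw [e2] at h2
    rw [sub_eq_add_neg]
    exact h1.add fun b hb => h2 b (by simpa using hb)
  obtain ⟨i, hi, -⟩ := hdeg.exists_mem
  obtain ⟨N, hN⟩ := Ega2Proj.Tilde.exists_pow_smul_eq_zero (CohB1.polyGrading n R)
    (CohB1.polyGrading n R) (Nat.succ_pos q) (prodX_mem (R := R) x) hi fun y hy => by
      have hy' : y ∈ tupleOpen (R := R) x := by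
        change y ∈ CohBase.inter (X := (CohB1.ProjSpace n R).toTopCat) (stdOpen n R) x
        rw [inter_stdOpen]
        exact (ProjectiveSpectrum.mem_basicOpen _ _ y).mpr hy
      obtain ⟨u, hu⟩ := LocalizedModule.mk_eq.mp ((h.2 ⟨y, hy'⟩).symm.trans (h'.2 ⟨y, hy'⟩))
      refine ⟨u.1, u.2, ?_⟩
      simp only [Submonoid.smul_def, smul_eq_mul] at hu ⊢
      linear_combination hu
  rw [smul_eq_mul, mul_sub, sub_eq_zero] at hN
  have hL := congrArg (toL n R) hN
  rw [map_mul, map_mul, map_mul, map_mul, toL_prodX_pow, toL_prodX_pow, toL_prodX_pow] at hL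
  have e := congrArg (· * T R (-((N + k + k') • ev x))) hL
  calc toL n R m * T R (-(k • ev x))
      = T R (N • ev x) * (toL n R m * T R (k' • ev x)) * T R (-((N + k + k') • ev x)) := by
        rw [mul_comm (T R (N • ev x)), mul_assoc (toL n R m), T_mul, mul_assoc, T_mul]
        congr 2
        simp only [add_smul]
        abel
    _ = T R (N • ev x) * (toL n R m' * T R (k • ev x)) * T R (-((N + k + k') • ev x)) := e
    _ = toL n R m' * T R (-(k' • ev x)) := by
        rw [mul_comm (T R (N • ev x)), mul_assoc (toL n R m'), T_mul, mul_assoc, T_mul]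
        congr 2
        simp only [add_smul]
        abel

open Classical in
/-- A section as a Laurent polynomial. -/
def psi {x : Fin q → Idx.{u} n} (s : Sect (R := R) d x) : Combinat.Exp R (Idx.{u} n) :=
  if h : ∃ k m, IsRep s k m then
    (toL n R h.choose_spec.choose * T R (-(h.choose • ev x))).coeff else 0

variable {x : Fin (q + 1) → Idx.{u} n}

lemma psi_eq {s : Sect (R := R) d x} {k : ℕ} {m : MvPolynomial (Fin (n + 1)) R}
    (h : IsRep s k m) : psi s = (toL n R m * T R (-(k • ev x))).coeff := by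
  rw [psi, dif_pos ⟨k, m, h⟩, IsRep.unique (Exists.choose_spec (Exists.choose_spec
    (⟨k, m, h⟩ : ∃ k m, IsRep s k m))) h]

lemma isRep_zero : IsRep (0 : Sect (R := R) d x) 0 0 :=
  ⟨hasDeg_zero _, fun y => (LocalizedModule.zero_mk _).symm⟩

lemma psi_zero : psi (0 : Sect (R := R) d x) = 0 := by
  rw [psi_eq isRep_zero, map_zero, zero_mul, AddMonoidAlgebra.coeff_zero]

lemma psi_add (s t : Sect (R := R) d x) : psi (s + t) = psi s + psi t := by
  obtain ⟨k, m, h⟩ := exists_isRep s
  obtain ⟨k', m', h'⟩ := exists_isRep t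
  have hf : ∀ j, prodX R x ^ j ∈ CohB1.polyGrading n R (j * (q + 1)) := fun j => by
    simpa using SetLike.pow_mem_graded j (prodX_mem (R := R) x)
  have hsum : IsRep (s + t) (k + k') (m * prodX R x ^ k' + m' * prodX R x ^ k) := by
    refine ⟨HasDeg.add ?_ ?_, fun y => ?_⟩
    · convert h.1.mul_of_mem (hf k') using 1; push_cast; ring
    · convert h'.1.mul_of_mem (hf k) using 1; push_cast; ring
    · change (s.1 y).1 + (t.1 y).1 = _
      rw [h.2 y, h'.2 y, LocalizedModule.mk_add_mk]
      refine LocalizedModule.mk_eq.mpr ⟨1, ?_⟩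
      simp only [one_smul, Submonoid.smul_def, smul_eq_mul, Submonoid.coe_mul, pow_add]
      ring
  rw [psi_eq hsum, psi_eq h, psi_eq h', map_add, map_mul, map_mul, toL_prodX_pow, toL_prodX_pow,
    add_mul, AddMonoidAlgebra.coeff_add, mul_assoc, T_mul, mul_assoc, T_mul]
  congr 4 <;> (simp only [add_smul]; abel)

/-- `psi`, as an additive map. -/
def psiHom (x : Fin (q + 1) → Idx.{u} n) :
    Sect (R := R) d x →+ Combinat.Exp R (Idx.{u} n) where
  toFun := psi
  map_zero' := psi_zero
  map_add' := psi_add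

lemma psi_mem_supported (s : Sect (R := R) d x) :
    psi s ∈ Finsupp.supported R R (Combinat.allowed d x) := by
  obtain ⟨k, m, h⟩ := exists_isRep s
  rw [Finsupp.mem_supported]
  intro a ha
  rw [Finset.mem_coe, Finsupp.mem_support_iff, psi_eq h] at ha
  obtain ⟨b, hb, rfl⟩ := exists_of_coeff_mul_T_ne_zero ha
  refine ⟨?_, fun i hi => ?_⟩
  · simp only [Pi.add_apply, Pi.neg_apply, Pi.smul_apply, Finset.sum_add_distrib,
      Finset.sum_neg_distrib, h.1 b hb, ← Finset.smul_sum, sum_ev]
    push_cast [nsmul_eq_mul]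
    ring
  · by_contra hi'
    simp only [Pi.add_apply, Pi.neg_apply, Pi.smul_apply, ev_eq_zero x hi', smul_zero, neg_zero,
      add_zero, expHom_apply] at hi
    omega

lemma psi_injective : Function.Injective (psi : Sect (R := R) d x → _) := by
  have key : ∀ s : Sect (R := R) d x, psi s = 0 → s = 0 := fun s hs => by
    obtain ⟨k, m, h⟩ := exists_isRep s
    rw [psi_eq h] at hs
    have h0 : toL n R m * T R (-(k • ev x)) = 0 := AddMonoidAlgebra.coeff_injective hs
    have h1 : toL n R m = 0 := by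
      rw [← mul_T_cancel (toL n R m) (neg_add_cancel (k • ev x)), h0, zero_mul]
    have h2 : m = 0 := toL_injective n R (h1.trans (map_zero _).symm)
    refine Ega2Proj.Tilde.sect_ext _ _ _ fun y => ?_
    rw [h.2 y, h2, LocalizedModule.zero_mk]
    rfl
  intro s t h
  have := key (s - t) ((map_sub (psiHom x) s t).trans (sub_eq_zero.mpr h))
  exact sub_eq_zero.mp this

lemma exists_psi_eq (x : Fin (q + 1) → Idx.{u} n) {ℓ : Combinat.Exp R (Idx.{u} n)}
    (hℓ : ℓ ∈ Finsupp.supported R R (Combinat.allowed d x)) :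
    ∃ s : Sect (R := R) d x, psi s = ℓ := by
  classical
  rw [Finsupp.mem_supported] at hℓ
  -- a power of the denominator clearing all negative exponents
  let k : ℕ := ∑ a ∈ ℓ.support, ∑ i, (a i).natAbs
  have hpos : ∀ a ∈ ℓ.support, ∀ i, 0 ≤ a i + k * ev x i := fun a ha i => by
    by_cases hai : a i < 0
    · have h1 := one_le_ev x ((hℓ ha).2 i hai)
      have h2 : (a i).natAbs ≤ k :=
        (Finset.single_le_sum (f := fun j => (a j).natAbs) (fun _ _ => Nat.zero_le _)
          (Finset.mem_univ i)).trans (Finset.single_le_sum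
            (f := fun a : Idx.{u} n → ℤ => ∑ j, (a j).natAbs) (fun _ _ => Nat.zero_le _) ha)
      have h3 : (k : ℤ) ≤ k * ev x i := le_mul_of_one_le_right (Int.natCast_nonneg k) h1
      omega
    · have := mul_nonneg (Int.natCast_nonneg k) (ev_nonneg x i)
      omega
  let toN : (Idx.{u} n → ℤ) → (Fin (n + 1) →₀ ℕ) := fun a =>
    Finsupp.equivFunOnFinite.symm fun i => (a ⟨i⟩ + k * ev x ⟨i⟩).toNat
  have htoN : ∀ a ∈ ℓ.support, expHom n (toN a) = a + k • ev x := fun a ha => by
    funext i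
    obtain ⟨i⟩ := i
    simp only [toN, expHom_apply, Finsupp.equivFunOnFinite_symm_apply_apply,
      Int.toNat_of_nonneg (hpos a ha ⟨i⟩), Pi.add_apply, nsmul_eq_mul, Pi.mul_apply, Pi.natCast_apply]
  let m : MvPolynomial (Fin (n + 1)) R := ∑ a ∈ ℓ.support, MvPolynomial.monomial (toN a) (ℓ a)
  have hdeg : HasDeg m ((k : ℤ) * (q + 1 : ℕ) + d) := fun b hb => by
    rw [MvPolynomial.coeff_sum] at hb
    obtain ⟨a, ha, hab⟩ := Finset.exists_ne_zero_of_sum_ne_zero hb
    rw [MvPolynomial.coeff_monomial] at hab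
    obtain rfl : toN a = b := by by_contra h; exact hab (if_neg h)
    rw [htoN a ha]
    simp only [Pi.add_apply, Finset.sum_add_distrib, (hℓ ha).1, nsmul_eq_mul, Pi.mul_apply,
      Pi.natCast_apply, ← Finset.mul_sum, sum_ev]
    ring
  obtain ⟨i, hi, hi'⟩ := hdeg.exists_mem
  have hU : ∀ y : tupleOpen (R := R) x, prodX R x ^ k ∉ y.1.asHomogeneousIdeal :=
    prodX_notMem k
  refine ⟨Ega2Proj.Tilde.fracSect (CohB1.polyGrading n R) (CohB1.polyGrading n R) d
    (tupleOpen (R := R) x) (j := k * (q + 1)) m hi (prodX R x ^ k)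
    (by simpa using SetLike.pow_mem_graded k (prodX_mem (R := R) x)) hU
    (hi'.imp_left fun h => by rw [h]; push_cast; ring), ?_⟩
  rw [psi_eq (k := k) (m := m) ⟨hdeg, fun y => Ega2Proj.Tilde.fracSect_apply _ _ _ _ _ _ _ _ _ _ y⟩,
    map_sum, Finset.sum_mul]
  have : ∀ a ∈ ℓ.support,
      toL n R (MvPolynomial.monomial (toN a) (ℓ a)) * T R (-(k • ev x)) =
        AddMonoidAlgebra.single a (ℓ a) := fun a ha => by
    rw [toL_monomial, T, AddMonoidAlgebra.single_mul_single, htoN a ha, add_neg_cancel_right,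
      mul_one]
  rw [Finset.sum_congr rfl this]
  ext a
  simp [AddMonoidAlgebra.coeff_sum, Finsupp.finsetSum_apply, Finsupp.single_apply,
    eq_comm (a := (0 : R))]

/-- Restriction to a smaller intersection does not change the Laurent polynomial. -/
lemma psi_res (x : Fin (q + 2) → Idx.{u} n) (a : Fin (q + 2))
    (s : Sect (R := R) d (x ∘ a.succAbove))
    (hle : tupleOpen (R := R) x ≤ tupleOpen (R := R) (x ∘ a.succAbove)) :
    psi (GrTilde.res (CohB1.polyGrading n R) (CohB1.polyGrading n R) d (homOfLE hle).op s : Sect (R := R) d x) = psi s := by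
  obtain ⟨k, m, h⟩ := exists_isRep s
  have hX : MvPolynomial.X (x a).down ^ k ∈ CohB1.polyGrading n R k := by
    simpa using SetLike.pow_mem_graded k
      ((MvPolynomial.mem_homogeneousSubmodule _ _).mpr (MvPolynomial.isHomogeneous_X R (x a).down))
  have h' : IsRep (GrTilde.res (CohB1.polyGrading n R) (CohB1.polyGrading n R) d (homOfLE hle).op s : Sect (R := R) d x) k
      (m * MvPolynomial.X (x a).down ^ k) := by
    refine ⟨?_, fun y => ?_⟩
    · convert h.1.mul_of_mem hX using 1; push_cast; ring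
    · change (s.1 ⟨y.1, hle y.2⟩).1 = _
      refine (h.2 ⟨y.1, hle y.2⟩).trans ?_
      refine LocalizedModule.mk_eq.mpr ⟨1, ?_⟩
      simp only [one_smul, Submonoid.smul_def, smul_eq_mul]
      rw [prodX_eq_mul x a, mul_pow]
      ring
  rw [psi_eq h', psi_eq h, map_mul, map_pow, ev_eq_add x a,
    show toL n R (MvPolynomial.X (x a).down) = T R (expHom n (Finsupp.single (x a).down 1)) from
      toL_monomial n R _ 1, T, AddMonoidAlgebra.single_pow, one_pow, ← T, mul_assoc, T_mul]
  congr 3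
  simp only [smul_add]
  abel

/-- A scalar, as a function on an open. -/
abbrev scalar (V : Opens (ProjectiveSpectrum.top (CohB1.polyGrading n R))) (r : R) :
    Twist.O (𝒜 := CohB1.polyGrading n R) (op V) :=
  Coh.resTop (CohB1.ProjSpace n R) (op V)
    (Coh.toGlobal ((CohB1.ProjSpace n R) ↘ Spec (CommRingCat.of R)) r)

/-- A scalar multiple of a section. -/
def smulSect (r : R) (s : Sect (R := R) d x) : Sect (R := R) d x :=
  ⟨fun y => (scalar (pOpen (R := R) x) r).1 y • s.1 y, GrTilde.smul_mem' d _ _ _ s.2⟩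

/-- The action of a scalar. -/
lemma psi_smul (r : R) (s : Sect (R := R) d x) : psi (smulSect r s) = r • psi s := by
  obtain ⟨k, m, h⟩ := exists_isRep s
  have h' : IsRep (smulSect r s) k (r • m) := by
    refine ⟨fun b hb => h.1 b (fun h0 => hb (by simp [h0])), fun y => ?_⟩
    refine (GrTilde.coe_smul_val d y.1 ((scalar (pOpen (R := R) x) r).1 y) (s.1 y)).trans ?_
    erw [toGlobal_projSpace_val, h.2 y]
    rw [LocalizedModule.mk_smul_mk, MvPolynomial.smul_eq_C_mul]
    simp only [one_mul, smul_eq_mul]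
  rw [psi_eq h', psi_eq h, map_smul, smul_mul_assoc, AddMonoidAlgebra.coeff_smul]

end Groth.PnCoh
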