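import Groth.Agent.Variety2.Reg.Gen
import Groth.Agent.PnCoh.Cohomology
import Groth.Agent.PnCoh.Finite
import Groth.Agent.Duality.SheafHomExt
import Groth.Agent.Duality.SheafHomTwist
import Groth.Agent.Duality.PnExtStalk
import Groth.Agent.Curves1.RankTwo
import Groth.Agent.Curves1.RR.RankOne
import Groth.Agent.LocFree.Basic
import Groth.Agent.CohC3.ProperHelpers

/-!
# Morphisms out of sums of twists on projective space
-/

set_option autoImplicit false
set_option linter.style.haveILetI false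

universe u

open CategoryTheory CategoryTheory.Limits AlgebraicGeometry
open Groth.PicAux

namespace Groth.PnCoh.TwistHom

open Groth.Variety2.Reg (fT)

variable {n : ℕ} {k : Type u} [Field k]

/-- `O(a)`. -/
noncomputable abbrev tw (n : ℕ) (k : Type u) [Field k] (a : ℤ) : (CohB1.ProjSpace n k).Modules :=
  Twist.twistProjSpace n k a

/-- Morphisms out of a twist are twisted sections. -/
theorem nonempty_hom_twist [HasExt.{u} (CohB1.ProjSpace n k).Modules] (a : ℤ)
    (F : (CohB1.ProjSpace n k).Modules) :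
    Nonempty ((tw n k a ⟶ F) ≃ₗ[k] Coh.HH (CohB1.ProjSpace n k) (fT F (-a)) 0) := by
  haveI := Groth.Duality.SheafHom.hasSheafHom (tw n k a)
  obtain ⟨t⟩ := Groth.Duality.SheafHom.nonempty_sheafHom_inverse_app
    (Groth.Duality.Pn.isInverseOf_twist n k a) F
  exact ⟨(Groth.Duality.SheafHom.homH0 (tw n k a) k F).trans (EulerDeg.hEquiv k t 0)⟩

theorem nonempty_twist_iso (a b c : ℤ) (h : a + b = c) : Nonempty (fT (tw n k a) b ≅ tw n k c) := by
  subst h
  exact Ega2Proj.nonempty_tensor_iso (Groth.Variety2.Reg.gen_one n k) a b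

/-- A twist has only scalar endomorphisms. -/
theorem exists_smul_id [HasExt.{u} (CohB1.ProjSpace n k).Modules]
    (h1 : Module.finrank k (Coh.HH (CohB1.ProjSpace n k) (Coh.structureModule _) 0) = 1) (a : ℤ)
    (f : tw n k a ⟶ tw n k a) : ∃ c : k, f = c • 𝟙 (tw n k a) := by
  obtain ⟨e⟩ := nonempty_hom_twist a (tw n k a)
  obtain ⟨t⟩ := nonempty_twist_iso (n := n) (k := k) a (-a) 0 (add_neg_cancel a)
  let e' := e.trans (EulerDeg.hEquiv k (t ≪≫ Groth.Variety2.Reg.nonempty_twist_zero.some) 0)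
  have hd : Module.finrank k (tw n k a ⟶ tw n k a) = 1 := e'.finrank_eq.trans h1
  have hne : (𝟙 (tw n k a)) ≠ 0 := by
    intro h
    have : Subsingleton (tw n k a ⟶ tw n k a) :=
      subsingleton_of_forall_eq 0 fun g => by rw [← Category.id_comp g, h, zero_comp]
    rw [Module.finrank_zero_of_subsingleton] at hd
    exact zero_ne_one hd
  obtain ⟨c, hc⟩ := (finrank_eq_one_iff_of_nonzero' _ hne).1 hd f
  exact ⟨c, hc.symm⟩

/-- There are no morphisms to a module whose twist has no sections. -/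
theorem hom_eq_zero [HasExt.{u} (CohB1.ProjSpace n k).Modules] {a : ℤ}
    {F : (CohB1.ProjSpace n k).Modules}
    (h : Subsingleton (Coh.HH (CohB1.ProjSpace n k) (fT F (-a)) 0)) (f : tw n k a ⟶ F) : f = 0 := by
  obtain ⟨e⟩ := nonempty_hom_twist a F
  exact e.injective (Subsingleton.elim _ _)

/-- A twisted morphism through which all morphisms out of `O` factor is onto on sections. -/
theorem surjective_hMap_zero {X : Scheme.{u}} [X.Over (Spec (CommRingCat.of k))] {A B : X.Modules}
    (g : A ⟶ B) (h : ∀ σ : Coh.structureModule X ⟶ B, ∃ τ, τ ≫ g = σ) :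
    Function.Surjective (EulerDeg.hMap k g 0) := fun v => by
  obtain ⟨τ, hτ⟩ := h (homOfSection (EulerDeg.h0Equiv k B v))
  refine ⟨(EulerDeg.h0Equiv k A).symm (τ.app ⊤ (oneSec X ⊤)), (EulerDeg.h0Equiv k B).injective ?_⟩
  rw [Groth.Curves1.RR.h0Equiv_hMap, LinearEquiv.apply_symm_apply]
  refine Eq.trans ?_ (homOfSection_one (EulerDeg.h0Equiv k B v))
  exact congr(($hτ).app ⊤ (oneSec X ⊤))

/-- The twisting functor. -/
noncomputable abbrev T (n : ℕ) (k : Type u) [Field k] (b : ℤ) :
    (CohB1.ProjSpace n k).Modules ⥤ (CohB1.ProjSpace n k).Modules :=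
  DCoh.tensorRightMod (tw n k b)

theorem isEquivalence_T (b : ℤ) : (T n k b).IsEquivalence :=
  isEquivalence_tensorRightMod_of_isInvertible (PnCoh.isInvertible_twist n k b)

/-- Morphisms out of `O` into a twist come from morphisms out of a twist. -/
theorem exists_lift_twist {A B : (CohB1.ProjSpace n k).Modules} (g : A ⟶ B) {a b : ℤ} (hab : a + b = 0)
    (h : ∀ σ : tw n k a ⟶ B, ∃ τ, τ ≫ g = σ)
    (σ : Coh.structureModule (CohB1.ProjSpace n k) ⟶ (T n k b).obj B) :
    ∃ τ, τ ≫ (T n k b).map g = σ := by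
  haveI := isEquivalence_T (n := n) (k := k) b
  obtain ⟨t⟩ := nonempty_twist_iso (n := n) (k := k) a b 0 hab
  let e : (T n k b).obj (tw n k a) ≅ Coh.structureModule (CohB1.ProjSpace n k) :=
    t ≪≫ Groth.Variety2.Reg.nonempty_twist_zero.some
  obtain ⟨σ₀, hσ⟩ := (T n k b).map_surjective (e.hom ≫ σ)
  obtain ⟨τ₀, rfl⟩ := h σ₀
  exact ⟨e.inv ≫ (T n k b).map τ₀, by rw [Category.assoc, ← Functor.map_comp, hσ, Iso.inv_hom_id_assoc]⟩

/-- A criterion for epimorphisms onto a regular module. -/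
theorem epi_of_lifts {A B : (CohB1.ProjSpace n k).Modules} (hB : Coh.IsCoh B) (g : A ⟶ B) {m : ℤ}
    (hm : Curv2.IsMRegular k n B m) (h : ∀ σ : tw n k (-m) ⟶ B, ∃ τ, τ ≫ g = σ) : Epi g := by
  haveI := isEquivalence_T (n := n) (k := k) m
  refine ⟨fun {Z} φ ψ he => (T n k m).map_injective ?_⟩
  refine Groth.Variety2.Reg.detByGlobal_of_mReg B hB hm le_rfl _ _ fun t => ?_
  let σ : Coh.structureModule (CohB1.ProjSpace n k) ⟶ (T n k m).obj B :=
    homOfSection (M := (T n k m).obj B) t
  obtain ⟨τ, hτ⟩ := exists_lift_twist g (neg_add_cancel m) h σ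
  have e : σ ≫ (T n k m).map φ = σ ≫ (T n k m).map ψ := by
    rw [← hτ, Category.assoc, Category.assoc, ← Functor.map_comp, ← Functor.map_comp, he]
  have h2 := congr(($e).app ⊤ (oneSec (CohB1.ProjSpace n k) ⊤))
  simp only [σ, Scheme.Modules.Hom.comp_app, ConcreteCategory.comp_apply, homOfSection_one] at h2
  exact h2

/-- Cohomology of a finite sum vanishes with that of the summands. -/
theorem subsingleton_HH_sigma {X : Scheme.{u}} [X.Over (Spec (CommRingCat.of k))] {r : ℕ}
    (M : Fin r → X.Modules) (q : ℕ) (h : ∀ i, Subsingleton (Coh.HH X (M i) q)) :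
    Subsingleton (Coh.HH X (∐ M) q) := by
  refine subsingleton_of_forall_eq 0 fun x => ?_
  have e := Groth.Duality.hMap_sum (A := k) Finset.univ (fun j => sigmaProj M j ≫ Sigma.ι M j) q
  rw [sigmaProj_total, EulerDeg.hMap_id] at e
  refine (LinearMap.congr_fun e x).trans ?_
  rw [LinearMap.sum_apply]
  refine Finset.sum_eq_zero fun j _ => ?_
  have := h j
  rw [EulerDeg.hMap_comp, LinearMap.comp_apply,
    Subsingleton.elim (EulerDeg.hMap k (sigmaProj M j) q x) 0]
  exact map_zero _

/-- Twisted sums of twists. -/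
theorem subsingleton_HH_sum {A : (CohB1.ProjSpace n k).Modules} {r : ℕ} {a : ℤ}
    (e : A ≅ ∐ fun _ : Fin r => tw n k a) {b c : ℤ} (hc : a + b = c) {q : ℕ}
    (h₀ : ¬ (q = 0 ∧ 0 ≤ c)) (hn : ¬ (q = n ∧ c ≤ -((n : ℤ) + 1))) :
    Subsingleton (Coh.HH (CohB1.ProjSpace n k) (fT A b) q) := by
  haveI := isEquivalence_T (n := n) (k := k) b
  have := PnCoh.subsingleton_HH_twist (n := n) (R := k) c q h₀ hn
  have hs := subsingleton_HH_sigma (k := k) (fun _ : Fin r => fT (tw n k a) b) q fun _ =>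
    (EulerDeg.hEquiv k (nonempty_twist_iso (n := n) (k := k) a b c hc).some q).toEquiv.subsingleton
  exact @Equiv.subsingleton _ _ (EulerDeg.hEquiv k ((T n k b).mapIso e ≪≫
    (PreservesCoproduct.iso (T n k b) fun _ : Fin r => tw n k a)) q).toEquiv hs

/-- Morphisms from a twist into a sum of copies of it. -/
theorem hom_sigma_eq [HasExt.{u} (CohB1.ProjSpace n k).Modules]
    (h1 : Module.finrank k (Coh.HH (CohB1.ProjSpace n k) (Coh.structureModule _) 0) = 1) {r : ℕ}
    {a : ℤ} (σ : tw n k a ⟶ ∐ fun _ : Fin r => tw n k a) :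
    ∃ c : Fin r → k, σ = ∑ i, c i • Sigma.ι (fun _ : Fin r => tw n k a) i := by
  choose c hc using fun i => exists_smul_id h1 a (σ ≫ sigmaProj (fun _ : Fin r => tw n k a) i)
  refine ⟨c, ?_⟩
  calc σ = σ ≫ ∑ i, sigmaProj (fun _ : Fin r => tw n k a) i ≫ Sigma.ι (fun _ : Fin r => tw n k a) i := by
        rw [sigmaProj_total]
        exact (Category.comp_id _).symm
    _ = _ := by
        rw [Preadditive.comp_sum]
        refine Finset.sum_congr rfl fun i _ => ?_
        rw [← Category.assoc, hc i, Linear.smul_comp]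
        exact congrArg (c i • ·) (Category.id_comp _)

end Groth.PnCoh.TwistHom
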